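import Mathlib
import Cfsg.Agent.H7.OmegaTwo
import Cfsg.Agent.H49.Omega2
import Cfsg.Agent.H49.TSTrans

set_option autoImplicit false
set_option linter.unusedSectionVars false

/-! Helper lemmas (helper49): in characteristic two an isometry lies in `Ω` iff `g - 1` has even
rank (uses helper7's fixed-space parity lemmas). -/

namespace Cfsg.Agent.H49

open Module Matrix

section
variable {ι : Type} [Fintype ι] [DecidableEq ι] {F : Type*} [Field F]

theorem rank_sub_one_add_finrank_fix (Q : QuadraticForm F (ι → F))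
    (g : ↥(Cfsg.isometryGroup F (⇑Q))) :
    (((g : Matrix.GeneralLinearGroup ι F) : Matrix ι ι F) - 1).rank
      + finrank F (Cfsg.Agent.H7.fixSub Q g) = finrank F (ι → F) := by
  have h := LinearMap.finrank_range_add_finrank_ker
    (Matrix.mulVecLin (((g : Matrix.GeneralLinearGroup ι F) : Matrix ι ι F) - 1))
  have e : Matrix.mulVecLin (((g : Matrix.GeneralLinearGroup ι F) : Matrix ι ι F) - 1)
      = Matrix.mulVecLin ((g : Matrix.GeneralLinearGroup ι F) : Matrix ι ι F) - LinearMap.id := by
    apply LinearMap.ext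
    intro x
    simp
  rw [Matrix.rank, Cfsg.Agent.H7.fixSub, ← e]
  exact h

/-- Characteristic two: an isometry lies in `Ω` iff `g - 1` has even rank. -/
theorem mem_commutator_iff_even_rank_two [Fintype F] (Q : QuadraticForm F (ι → F))
    (h2 : (2 : F) = 0) (hQ : (QuadraticMap.polarBilin Q).Nondegenerate) {m : ℕ}
    (hV : finrank F (ι → F) = 2 * m) (hex : Fintype.card F ≠ 2 ∨ m ≠ 2) (hm : 0 < m)
    (g : ↥(Cfsg.isometryGroup F (⇑Q))) :
    g ∈ commutator ↥(Cfsg.isometryGroup F (⇑Q))
      ↔ Even (((g : Matrix.GeneralLinearGroup ι F) : Matrix ι ι F) - 1).rank := by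
  have hr := rank_sub_one_add_finrank_fix Q g
  rw [hV] at hr
  constructor
  · intro hg
    rw [commutator_eq_evenSub_two Q h2 hQ hV hex] at hg
    have h1 := (Cfsg.Agent.H7.even_fix_of_mem_evenSub Q hQ g hg).mpr (by rw [hV]; exact even_two_mul m)
    have h3 : Even (2 * m) := even_two_mul m
    rw [← hr] at h3
    exact (Nat.even_add.mp h3).mpr h1
  · intro hev
    rcases mem_commutator_or_two Q h2 hQ hV hex g with hg | hg
    · exact hg
    · exfalso
      obtain ⟨v, hv, -⟩ := exists_anisotropic_orthogonal Q hQ ⊥ (by rw [finrank_bot, hV]; omega)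
      have h1 := hg (reflG Q v) ⟨v, hv, rfl⟩
      rw [commutator_eq_evenSub_two Q h2 hQ hV hex] at h1
      have h3 := (Cfsg.Agent.H7.even_fix_of_mem_evenSub Q hQ _ h1).mpr
        (by rw [hV]; exact even_two_mul m)
      have h4 := (Cfsg.Agent.H7.fix_parity_flip Q hQ g v hv).mp h3
      have h5 : Even (2 * m) := even_two_mul m
      rw [← hr] at h5
      exact h4 ((Nat.even_add.mp h5).mp hev)

end

end Cfsg.Agent.H49
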