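import Mathlib
import Cfsg.Agent.H49.Eich1

set_option autoImplicit false
set_option linter.unusedSectionVars false
set_option linter.unusedSimpArgs false

/-! Helper lemmas (helper49): algebra of Siegel elements; products of two reflections of equal
norm are products of Siegel elements (any characteristic, Witt index at least three). -/

namespace Cfsg.Agent.H49

open Module Matrix
open scoped commutatorElement

section
variable {ι : Type} [Fintype ι] [DecidableEq ι] {F : Type*} [Field F]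

/-- The set of Siegel elements of the isometry group. -/
def siegelSet (Q : QuadraticForm F (ι → F)) : Set ↥(Cfsg.isometryGroup F (⇑Q)) :=
  {g | ∃ (u v : ι → F) (hu : Q u = 0) (hv : Q v = 0)
    (huv : QuadraticMap.polar (⇑Q) u v = 0) (c : F), g = siegelG Q u v hu hv huv c}

theorem siegelG_mem_siegelSet (Q : QuadraticForm F (ι → F)) (u v : ι → F) (hu : Q u = 0)
    (hv : Q v = 0) (huv : QuadraticMap.polar (⇑Q) u v = 0) (c : F) :
    siegelG Q u v hu hv huv c ∈ siegelSet Q := ⟨u, v, hu, hv, huv, c, rfl⟩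

theorem conj_siegelG (Q : QuadraticForm F (ι → F)) (g : ↥(Cfsg.isometryGroup F (⇑Q)))
    (u v : ι → F) (hu : Q u = 0) (hv : Q v = 0) (huv : QuadraticMap.polar (⇑Q) u v = 0) (c : F) :
    g * siegelG Q u v hu hv huv c * g⁻¹
      = siegelG Q (act g u) (act g v) (by rw [Q_act, hu]) (by rw [Q_act, hv])
          (by rw [polar_act, huv]) c := by
  apply act_ext
  intro x
  rw [act_mul, act_mul, act_siegelG, act_siegelG, act_add, act_smul, act_sub, act_smul, act_smul,
    act_act_inv, polar_act_left Q g u x, polar_act_left Q g v x]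

theorem siegelG_eq_one (Q : QuadraticForm F (ι → F)) (u v : ι → F) (hu : Q u = 0)
    (hv : Q v = 0) (huv : QuadraticMap.polar (⇑Q) u v = 0) (c : F) (h : u = 0 ∨ v = 0) :
    siegelG Q u v hu hv huv c = 1 := by
  apply act_ext
  intro x
  rw [act_siegelG, act_one]
  rcases h with h | h
  · subst h
    simp
  · subst h
    simp

theorem siegelG_congr (Q : QuadraticForm F (ι → F)) (u v u' v' : ι → F) (hu : Q u = 0)
    (hv : Q v = 0) (huv : QuadraticMap.polar (⇑Q) u v = 0) (hu' : Q u' = 0)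
    (hv' : Q v' = 0) (huv' : QuadraticMap.polar (⇑Q) u' v' = 0) (c c' : F)
    (h1 : u = u') (h2 : v = v') (h3 : c = c') :
    siegelG Q u v hu hv huv c = siegelG Q u' v' hu' hv' huv' c' := by
  subst h1 h2 h3
  rfl

/-- Scaling the first vector of a Siegel element. -/
theorem siegelG_smul_left (Q : QuadraticForm F (ι → F)) (u v : ι → F) (a : F)
    (hu : Q u = 0) (hau : Q (a • u) = 0)
    (hv : Q v = 0) (huv : QuadraticMap.polar (⇑Q) u v = 0)
    (hauv : QuadraticMap.polar (⇑Q) (a • u) v = 0) (c : F) :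
    siegelG Q (a • u) v hau hv hauv c = siegelG Q u v hu hv huv (a * c) := by
  apply act_ext
  intro x
  rw [act_siegelG, act_siegelG, QuadraticMap.polar_smul_left]
  simp only [smul_eq_mul]
  module

/-- Scaling the second vector of a Siegel element. -/
theorem siegelG_smul_right (Q : QuadraticForm F (ι → F)) (u v : ι → F) (a : F)
    (hu : Q u = 0) (hv : Q v = 0) (hav : Q (a • v) = 0)
    (huv : QuadraticMap.polar (⇑Q) u v = 0)
    (huav : QuadraticMap.polar (⇑Q) u (a • v) = 0) (c : F) :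
    siegelG Q u (a • v) hu hav huav c = siegelG Q u v hu hv huv (a * c) := by
  apply act_ext
  intro x
  rw [act_siegelG, act_siegelG, QuadraticMap.polar_smul_left]
  simp only [smul_eq_mul]
  module

/-- The action of a product of two Siegel elements with the same first vector. -/
theorem act_siegel_pair (Q : QuadraticForm F (ι → F)) (u v₁ v₂ : ι → F) (hu : Q u = 0)
    (hv₁ : Q v₁ = 0) (hv₂ : Q v₂ = 0) (h₁ : QuadraticMap.polar (⇑Q) u v₁ = 0)
    (h₂ : QuadraticMap.polar (⇑Q) u v₂ = 0) (c₁ c₂ : F) (x : ι → F) :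
    act (siegelG Q u v₁ hu hv₁ h₁ c₁ * siegelG Q u v₂ hu hv₂ h₂ c₂) x
      = x + (c₁ * QuadraticMap.polar (⇑Q) u x) • v₁ + (c₂ * QuadraticMap.polar (⇑Q) u x) • v₂
        - (c₁ * QuadraticMap.polar (⇑Q) v₁ x + c₂ * QuadraticMap.polar (⇑Q) v₂ x
          + c₁ * c₂ * QuadraticMap.polar (⇑Q) v₁ v₂ * QuadraticMap.polar (⇑Q) u x) • u := by
  have huu : QuadraticMap.polar (⇑Q) u u = 0 := by rw [polar_self', hu, mul_zero]
  have h₁' : QuadraticMap.polar (⇑Q) v₁ u = 0 := by rw [QuadraticMap.polar_comm]; exact h₁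
  rw [act_mul, act_siegelG, act_siegelG]
  simp only [QuadraticMap.polar_add_right, QuadraticMap.polar_sub_right,
    QuadraticMap.polar_smul_right, smul_eq_mul, huu, h₁, h₂, h₁', mul_zero, sub_zero, add_zero,
    zero_sub]
  module

theorem siegelG_commute_same (Q : QuadraticForm F (ι → F)) (u v₁ v₂ : ι → F) (hu : Q u = 0)
    (hv₁ : Q v₁ = 0) (hv₂ : Q v₂ = 0) (h₁ : QuadraticMap.polar (⇑Q) u v₁ = 0)
    (h₂ : QuadraticMap.polar (⇑Q) u v₂ = 0) (c₁ c₂ : F) :
    siegelG Q u v₁ hu hv₁ h₁ c₁ * siegelG Q u v₂ hu hv₂ h₂ c₂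
      = siegelG Q u v₂ hu hv₂ h₂ c₂ * siegelG Q u v₁ hu hv₁ h₁ c₁ := by
  apply act_ext
  intro x
  rw [act_siegel_pair, act_siegel_pair, QuadraticMap.polar_comm (⇑Q) v₂ v₁]
  module

/-- Siegel elements whose first vectors are proportional to a common vector commute. -/
theorem siegelG_commute (Q : QuadraticForm F (ι → F)) (u v₁ v₂ : ι → F) (a₁ a₂ : F)
    (hu₁ : Q (a₁ • u) = 0) (hu₂ : Q (a₂ • u) = 0) (hv₁ : Q v₁ = 0) (hv₂ : Q v₂ = 0)
    (h₁ : QuadraticMap.polar (⇑Q) (a₁ • u) v₁ = 0)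
    (h₂ : QuadraticMap.polar (⇑Q) (a₂ • u) v₂ = 0) (c₁ c₂ : F) :
    siegelG Q (a₁ • u) v₁ hu₁ hv₁ h₁ c₁ * siegelG Q (a₂ • u) v₂ hu₂ hv₂ h₂ c₂
      = siegelG Q (a₂ • u) v₂ hu₂ hv₂ h₂ c₂ * siegelG Q (a₁ • u) v₁ hu₁ hv₁ h₁ c₁ := by
  by_cases ha₁ : a₁ = 0
  · rw [siegelG_eq_one Q (a₁ • u) v₁ hu₁ hv₁ h₁ c₁ (Or.inl (by rw [ha₁, zero_smul])), one_mul,
      mul_one]
  by_cases ha₂ : a₂ = 0
  · rw [siegelG_eq_one Q (a₂ • u) v₂ hu₂ hv₂ h₂ c₂ (Or.inl (by rw [ha₂, zero_smul])), one_mul,
      mul_one]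
  have hu : Q u = 0 := by
    rw [QuadraticMap.map_smul, smul_eq_mul] at hu₁
    rcases mul_eq_zero.mp hu₁ with h | h
    · exact absurd (mul_self_eq_zero.mp h) ha₁
    · exact h
  have k₁ : QuadraticMap.polar (⇑Q) u v₁ = 0 := by
    rw [QuadraticMap.polar_smul_left, smul_eq_mul] at h₁
    rcases mul_eq_zero.mp h₁ with h | h
    · exact absurd h ha₁
    · exact h
  have k₂ : QuadraticMap.polar (⇑Q) u v₂ = 0 := by
    rw [QuadraticMap.polar_smul_left, smul_eq_mul] at h₂
    rcases mul_eq_zero.mp h₂ with h | h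
    · exact absurd h ha₂
    · exact h
  rw [siegelG_smul_left Q u v₁ a₁ hu hu₁ hv₁ k₁ h₁ c₁,
    siegelG_smul_left Q u v₂ a₂ hu hu₂ hv₂ k₂ h₂ c₂]
  exact siegelG_commute_same Q u v₁ v₂ hu hv₁ hv₂ k₁ k₂ _ _

/-- A Siegel element is a commutator of two Siegel elements, given a hyperbolic pair orthogonal
to its two vectors. -/
theorem siegelG_commutator (Q : QuadraticForm F (ι → F)) (u v w w' : ι → F) (hu : Q u = 0)
    (hv : Q v = 0) (hw : Q w = 0) (hw' : Q w' = 0)
    (huv : QuadraticMap.polar (⇑Q) u v = 0) (huw : QuadraticMap.polar (⇑Q) u w = 0)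
    (huw' : QuadraticMap.polar (⇑Q) u w' = 0) (hvw : QuadraticMap.polar (⇑Q) v w = 0)
    (hw'v : QuadraticMap.polar (⇑Q) w' v = 0)
    (hww' : QuadraticMap.polar (⇑Q) w w' = 1) (a b : F) :
    ⁅siegelG Q u w hu hw huw a, siegelG Q w' v hw' hv hw'v b⁆
      = siegelG Q u v hu hv huv (-(a * b)) := by
  have huu : QuadraticMap.polar (⇑Q) u u = 0 := by rw [polar_self', hu, mul_zero]
  have hvv : QuadraticMap.polar (⇑Q) v v = 0 := by rw [polar_self', hv, mul_zero]
  have hwwz : QuadraticMap.polar (⇑Q) w w = 0 := by rw [polar_self', hw, mul_zero]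
  have hw'w'z : QuadraticMap.polar (⇑Q) w' w' = 0 := by rw [polar_self', hw', mul_zero]
  have hvu : QuadraticMap.polar (⇑Q) v u = 0 := by rw [QuadraticMap.polar_comm]; exact huv
  have hwu : QuadraticMap.polar (⇑Q) w u = 0 := by rw [QuadraticMap.polar_comm]; exact huw
  have hw'u : QuadraticMap.polar (⇑Q) w' u = 0 := by rw [QuadraticMap.polar_comm]; exact huw'
  have hwv : QuadraticMap.polar (⇑Q) w v = 0 := by rw [QuadraticMap.polar_comm]; exact hvw
  have hvw' : QuadraticMap.polar (⇑Q) v w' = 0 := by rw [QuadraticMap.polar_comm]; exact hw'v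
  have hw'w : QuadraticMap.polar (⇑Q) w' w = 1 := by rw [QuadraticMap.polar_comm]; exact hww'
  have key : siegelG Q u w hu hw huw a * siegelG Q w' v hw' hv hw'v b
      = siegelG Q u v hu hv huv (-(a * b))
        * (siegelG Q w' v hw' hv hw'v b * siegelG Q u w hu hw huw a) := by
    apply act_ext
    intro x
    rw [act_mul, act_mul, act_mul, act_siegelG Q u w, act_siegelG Q w' v, act_siegelG Q u v,
      act_siegelG Q w' v, act_siegelG Q u w]
    simp only [QuadraticMap.polar_add_right, QuadraticMap.polar_sub_right,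
      QuadraticMap.polar_smul_right, smul_eq_mul, huu, hvv, hwwz, hw'w'z, huv, huw, huw', hvw,
      hw'v, hww', hvu, hwu, hw'u, hwv, hvw', hw'w, mul_zero, sub_zero, add_zero, zero_sub,
      mul_one, zero_add, mul_neg, sub_neg_eq_add]
    module
  rw [commutatorElement_def, key]
  group

omit [Fintype ι] [DecidableEq ι] in
theorem isTS_span_pair (Q : QuadraticForm F (ι → F)) (u v : ι → F) (hu : Q u = 0)
    (hv : Q v = 0) (huv : QuadraticMap.polar (⇑Q) u v = 0) :
    IsTS Q (Submodule.span F {u, v}) := by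
  intro a ha
  obtain ⟨c, d, rfl⟩ := Submodule.mem_span_pair.mp ha
  have := Q_add' Q (c • u) (d • v)
  rw [Q_add', QuadraticMap.map_smul, QuadraticMap.map_smul, hu, hv,
    QuadraticMap.polar_smul_left, QuadraticMap.polar_smul_right, huv]
  simp

/-- Siegel elements lie in `Ω` (any characteristic, Witt index at least three). -/
theorem siegelG_mem_commutator (Q : QuadraticForm F (ι → F))
    (hQ : (QuadraticMap.polarBilin Q).Nondegenerate) (h3 : HasTS3 Q) (u v : ι → F)
    (hu : Q u = 0) (hv : Q v = 0) (huv : QuadraticMap.polar (⇑Q) u v = 0) (c : F) :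
    siegelG Q u v hu hv huv c ∈ commutator ↥(Cfsg.isometryGroup F (⇑Q)) := by
  obtain ⟨w, w', hw, hw', hww', hwW, hw'W⟩ := exists_hyp_pair_orth_ts Q hQ h3
    (Submodule.span F {u, v}) (isTS_span_pair Q u v hu hv huv) (finrank_span_pair_le u v)
  have huw : QuadraticMap.polar (⇑Q) u w = 0 := hwW u (Submodule.subset_span (by simp))
  have hvw : QuadraticMap.polar (⇑Q) v w = 0 := hwW v (Submodule.subset_span (by simp))
  have huw' : QuadraticMap.polar (⇑Q) u w' = 0 := hw'W u (Submodule.subset_span (by simp))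
  have hw'v : QuadraticMap.polar (⇑Q) w' v = 0 := by
    rw [QuadraticMap.polar_comm]
    exact hw'W v (Submodule.subset_span (by simp))
  have key := siegelG_commutator Q u v w w' hu hv hw hw' huv huw huw' hvw hw'v hww' (-c) 1
  have e : -(-c * 1) = c := by ring
  rw [siegelG_congr Q u v u v hu hv huv hu hv huv _ c rfl rfl e] at key
  rw [← key, commutator_def]
  exact Subgroup.commutator_mem_commutator (Subgroup.mem_top _) (Subgroup.mem_top _)

/-- The action of a product of two reflections whose vectors differ by a singular vector. -/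
theorem act_refl_pair (Q : QuadraticForm F (ι → F)) (x u : ι → F) (hx : Q x ≠ 0)
    (hu : Q u = 0) (hxu : QuadraticMap.polar (⇑Q) x u = 0) (z : ι → F) :
    act (reflG Q x * reflG Q (x - u)) z
      = z - ((Q x)⁻¹ * QuadraticMap.polar (⇑Q) u z) • x
        + ((Q x)⁻¹ * (QuadraticMap.polar (⇑Q) x z - QuadraticMap.polar (⇑Q) u z)) • u := by
  have hQxu : Q (x - u) = Q x := by rw [Q_sub', hu, hxu]; ring
  rw [act_mul, act_reflG, act_reflG, hQxu]
  simp only [QuadraticMap.polar_sub_right, QuadraticMap.polar_sub_left,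
    QuadraticMap.polar_smul_right, smul_eq_mul, polar_self', hxu]
  funext k
  simp only [Pi.add_apply, Pi.sub_apply, Pi.smul_apply, smul_eq_mul]
  field_simp
  ring

/-- A product of two reflections whose vectors differ by a singular vector is a product of
Siegel elements. -/
theorem refl_pair_mem_of_singular (Q : QuadraticForm F (ι → F))
    (hQ : (QuadraticMap.polarBilin Q).Nondegenerate) (h3 : HasTS3 Q) (x u : ι → F)
    (hx : Q x ≠ 0) (hu : Q u = 0) (hxu : QuadraticMap.polar (⇑Q) x u = 0) :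
    reflG Q x * reflG Q (x - u) ∈ Subgroup.closure (siegelSet Q) := by
  obtain ⟨e, e', he, he', hee, heW, he'W⟩ := exists_hyp_pair_orth_le_one Q hQ h3
    (Submodule.span F {u}) (finrank_span_singleton_le' u)
  have hxW : x ∉ Submodule.span F {u} := by
    intro hmem
    exact hx (isTS_span_singleton Q u hu x hmem)
  obtain ⟨w, hw, hwW, hxw⟩ := exists_singular_orth_polar_ne Q hQ _ e e' he he' hee heW he'W x hxW
  have huw : QuadraticMap.polar (⇑Q) u w = 0 := hwW u (Submodule.mem_span_singleton_self u)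
  have hux : QuadraticMap.polar (⇑Q) u x = 0 := by rw [QuadraticMap.polar_comm]; exact hxu
  have hwx : QuadraticMap.polar (⇑Q) w x = QuadraticMap.polar (⇑Q) x w :=
    QuadraticMap.polar_comm _ _ _
  obtain ⟨α, hα⟩ : ∃ α, α = Q x := ⟨_, rfl⟩
  obtain ⟨β, hβ⟩ : ∃ β, β = QuadraticMap.polar (⇑Q) x w := ⟨_, rfl⟩
  have hα0 : α ≠ 0 := by rw [hα]; exact hx
  have hβ0 : β ≠ 0 := by rw [hβ]; exact hxw
  obtain ⟨v₁, hv₁d⟩ : ∃ v₁, v₁ = (-α⁻¹) • x + β⁻¹ • w := ⟨_, rfl⟩
  obtain ⟨v₂, hv₂d⟩ : ∃ v₂, v₂ = (-β⁻¹) • w := ⟨_, rfl⟩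
  have hv₂ : Q v₂ = 0 := by rw [hv₂d, QuadraticMap.map_smul, hw, smul_zero]
  have hv₁ : Q v₁ = 0 := by
    rw [hv₁d, Q_add', QuadraticMap.map_smul, QuadraticMap.map_smul, hw,
      QuadraticMap.polar_smul_left, QuadraticMap.polar_smul_right, ← hα, ← hβ]
    simp only [smul_eq_mul]
    field_simp
    ring
  have h₁ : QuadraticMap.polar (⇑Q) u v₁ = 0 := by
    rw [hv₁d, QuadraticMap.polar_add_right, QuadraticMap.polar_smul_right,
      QuadraticMap.polar_smul_right, hux, huw]
    simp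
  have h₂ : QuadraticMap.polar (⇑Q) u v₂ = 0 := by
    rw [hv₂d, QuadraticMap.polar_smul_right, huw, smul_zero]
  have h12 : QuadraticMap.polar (⇑Q) v₁ v₂ = α⁻¹ := by
    rw [hv₁d, hv₂d, QuadraticMap.polar_add_left, QuadraticMap.polar_smul_left,
      QuadraticMap.polar_smul_left, QuadraticMap.polar_smul_right,
      QuadraticMap.polar_smul_right, polar_self', hw, ← hβ]
    simp only [smul_eq_mul]
    field_simp
    ring
  have hsum : v₁ + v₂ = (-α⁻¹) • x := by
    rw [hv₁d, hv₂d]
    module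
  have key : reflG Q x * reflG Q (x - u)
      = siegelG Q u v₁ hu hv₁ h₁ 1 * siegelG Q u v₂ hu hv₂ h₂ 1 := by
    apply act_ext
    intro z
    rw [act_refl_pair Q x u hx hu hxu, act_siegel_pair, h12, ← hα]
    have e1 : QuadraticMap.polar (⇑Q) v₁ z + QuadraticMap.polar (⇑Q) v₂ z
        = -α⁻¹ * QuadraticMap.polar (⇑Q) x z := by
      rw [← QuadraticMap.polar_add_left, hsum, QuadraticMap.polar_smul_left, smul_eq_mul]
    have e2 : v₂ = (-α⁻¹) • x - v₁ := by rw [← hsum]; abel
    rw [e2]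
    have e3 : QuadraticMap.polar (⇑Q) ((-α⁻¹) • x - v₁) z
        = -α⁻¹ * QuadraticMap.polar (⇑Q) x z - QuadraticMap.polar (⇑Q) v₁ z := by
      rw [QuadraticMap.polar_sub_left, QuadraticMap.polar_smul_left, smul_eq_mul]
    rw [e3]
    module
  rw [key]
  exact Subgroup.mul_mem _ (Subgroup.subset_closure (siegelG_mem_siegelSet Q u v₁ hu hv₁ h₁ 1))
    (Subgroup.subset_closure (siegelG_mem_siegelSet Q u v₂ hu hv₂ h₂ 1))

/-- A product of two reflections in vectors of the same norm is a product of Siegel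
elements. -/
theorem refl_pair_mem (Q : QuadraticForm F (ι → F))
    (hQ : (QuadraticMap.polarBilin Q).Nondegenerate) (h3 : HasTS3 Q) (x y : ι → F)
    (hx : Q x ≠ 0) (hxy : Q y = Q x) :
    reflG Q x * reflG Q y ∈ Subgroup.closure (siegelSet Q) := by
  by_cases hy : y ∈ Submodule.span F {x}
  · obtain ⟨l, rfl⟩ := Submodule.mem_span_singleton.mp hy
    have hl : l ≠ 0 := by
      rintro rfl
      rw [zero_smul, QuadraticMap.map_zero] at hxy
      exact hx hxy.symm
    rw [reflG_smul Q x hl, reflG_mul_self]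
    exact Subgroup.one_mem _
  by_cases hc : Q (x - y) = 0
  · have hp : QuadraticMap.polar (⇑Q) x (x - y) = 0 := by
      have h1 := Q_sub' Q x y
      rw [hc, hxy] at h1
      rw [QuadraticMap.polar_sub_right, polar_self']
      linear_combination -h1
    have := refl_pair_mem_of_singular Q hQ h3 x (x - y) hx hc hp
    rwa [sub_sub_cancel] at this
  · obtain ⟨e, e', he, he', hee, heW, he'W⟩ := exists_hyp_pair_orth_le_one Q hQ h3
      (Submodule.span F {x}) (finrank_span_singleton_le' x)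
    obtain ⟨w₀, hw₀, hw₀W, hyw₀⟩ :=
      exists_singular_orth_polar_ne Q hQ _ e e' he he' hee heW he'W y hy
    have hxw₀ : QuadraticMap.polar (⇑Q) x w₀ = 0 := hw₀W x (Submodule.mem_span_singleton_self x)
    obtain ⟨w, hwd⟩ : ∃ w, w = (Q (x - y) / QuadraticMap.polar (⇑Q) y w₀) • w₀ := ⟨_, rfl⟩
    have hw : Q w = 0 := by rw [hwd, QuadraticMap.map_smul, hw₀, smul_zero]
    have hxw : QuadraticMap.polar (⇑Q) x w = 0 := by
      rw [hwd, QuadraticMap.polar_smul_right, hxw₀, smul_zero]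
    have hyw : QuadraticMap.polar (⇑Q) y w = Q (x - y) := by
      rw [hwd, QuadraticMap.polar_smul_right, smul_eq_mul, div_mul_cancel₀ _ hyw₀]
    have hwy : QuadraticMap.polar (⇑Q) w y = Q (x - y) := by
      rw [QuadraticMap.polar_comm]; exact hyw
    have hQz : Q (x + w) = Q x := by rw [Q_add', hw, hxw]; ring
    have h1 : reflG Q x * reflG Q (x + w) ∈ Subgroup.closure (siegelSet Q) := by
      have := refl_pair_mem_of_singular Q hQ h3 x (-w) hx (by rw [QuadraticMap.map_neg]; exact hw)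
        (by rw [QuadraticMap.polar_neg_right, hxw, neg_zero])
      rwa [sub_neg_eq_add] at this
    have hc' := Q_sub' Q x y
    rw [hxy] at hc'
    have hQzy : Q (x + w - y) = 0 := by
      rw [Q_sub', hQz, hxy, QuadraticMap.polar_add_left, hwy]
      linear_combination -hc'
    have hpz : QuadraticMap.polar (⇑Q) (x + w) (x + w - y) = 0 := by
      rw [QuadraticMap.polar_sub_right, polar_self', hQz, QuadraticMap.polar_add_left, hwy]
      linear_combination -hc'
    have h2 : reflG Q (x + w) * reflG Q y ∈ Subgroup.closure (siegelSet Q) := by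
      have := refl_pair_mem_of_singular Q hQ h3 (x + w) (x + w - y) (by rw [hQz]; exact hx)
        hQzy hpz
      rwa [sub_sub_cancel] at this
    have e : reflG Q x * reflG Q y
        = (reflG Q x * reflG Q (x + w)) * (reflG Q (x + w) * reflG Q y) := by
      rw [mul_assoc, ← mul_assoc (reflG Q (x + w)), reflG_mul_self, one_mul]
    rw [e]
    exact Subgroup.mul_mem _ h1 h2

end

end Cfsg.Agent.H49
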