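import Mathlib
import Cfsg.Agent.H49.Eich2
import Cfsg.Agent.H49.Omega2

set_option autoImplicit false
set_option linter.unusedSectionVars false

/-! Helper lemmas (helper49): `Ω` is generated by Siegel elements and is perfect
(any characteristic, Witt index at least three). -/

namespace Cfsg.Agent.H49

open Module Matrix
open scoped commutatorElement

/-- If the images of a generating set commute modulo a normal subgroup `T`, then `T` contains
the commutator subgroup. -/
theorem commutator_le_of_gens' {G : Type*} [Group G] (T : Subgroup G) [T.Normal] (S : Set G)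
    (hS : Subgroup.closure S = ⊤) (h : ∀ a ∈ S, ∀ b ∈ S, (a * b)⁻¹ * (b * a) ∈ T) :
    commutator G ≤ T := by
  have h1 : ∀ a ∈ S, ∀ g : G, ((a : G ⧸ T) * (g : G ⧸ T)) = (g : G ⧸ T) * (a : G ⧸ T) := by
    intro a ha g
    have hle : Subgroup.closure S ≤
        (Subgroup.centralizer {((a : G) : G ⧸ T)}).comap (QuotientGroup.mk' T) := by
      rw [Subgroup.closure_le]
      intro b hb
      rw [SetLike.mem_coe, Subgroup.mem_comap, Subgroup.mem_centralizer_iff]
      intro x hx
      rw [Set.mem_singleton_iff] at hx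
      subst hx
      rw [QuotientGroup.mk'_apply, ← QuotientGroup.mk_mul, ← QuotientGroup.mk_mul,
        QuotientGroup.eq]
      exact h a ha b hb
    have hg : g ∈ Subgroup.closure S := by rw [hS]; exact Subgroup.mem_top g
    have := hle hg
    rw [Subgroup.mem_comap, Subgroup.mem_centralizer_iff] at this
    exact this _ rfl
  have h2 : ∀ x y : G ⧸ T, x * y = y * x := by
    intro x y
    obtain ⟨g, rfl⟩ := QuotientGroup.mk_surjective x
    obtain ⟨k, rfl⟩ := QuotientGroup.mk_surjective y
    have hle : Subgroup.closure S ≤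
        (Subgroup.centralizer {((k : G) : G ⧸ T)}).comap (QuotientGroup.mk' T) := by
      rw [Subgroup.closure_le]
      intro b hb
      rw [SetLike.mem_coe, Subgroup.mem_comap, Subgroup.mem_centralizer_iff]
      intro x hx
      rw [Set.mem_singleton_iff] at hx
      subst hx
      rw [QuotientGroup.mk'_apply]
      exact (h1 b hb k).symm
    have hg : g ∈ Subgroup.closure S := by rw [hS]; exact Subgroup.mem_top g
    have := hle hg
    rw [Subgroup.mem_comap, Subgroup.mem_centralizer_iff] at this
    exact (this _ rfl).symm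
  let _ : CommGroup (G ⧸ T) := { (inferInstance : Group (G ⧸ T)) with mul_comm := h2 }
  have := Abelianization.commutator_subset_ker (QuotientGroup.mk' T)
  rwa [QuotientGroup.ker_mk'] at this

section
variable {ι : Type} [Fintype ι] [DecidableEq ι] {F : Type*} [Field F]

theorem closure_siegelSet_normal (Q : QuadraticForm F (ι → F)) :
    (Subgroup.closure (siegelSet Q)).Normal := by
  have : Subgroup.closure (siegelSet Q) = Subgroup.normalClosure (siegelSet Q) := by
    apply le_antisymm Subgroup.closure_le_normalClosure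
    rw [Subgroup.normalClosure]
    apply Subgroup.closure_mono
    intro x hx
    obtain ⟨a, ha, hax⟩ := Group.mem_conjugatesOfSet_iff.mp hx
    obtain ⟨g, hg⟩ := isConj_iff.mp hax
    obtain ⟨u, v, hu, hv, huv, c, rfl⟩ := ha
    rw [← hg, conj_siegelG]
    exact siegelG_mem_siegelSet Q _ _ _ _ _ c
  rw [this]
  exact Subgroup.normalClosure_normal

theorem six_le_of_hasTS3 (Q : QuadraticForm F (ι → F))
    (hQ : (QuadraticMap.polarBilin Q).Nondegenerate) (h3 : HasTS3 Q) :
    6 ≤ finrank F (ι → F) := by
  obtain ⟨U, hU, dU⟩ := h3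
  have h1 := Submodule.finrank_mono hU.le_orthogonal
  have h2 := LinearMap.BilinForm.finrank_orthogonal hQ U
  have h4 := Submodule.finrank_le U
  omega

/-- Cartan–Dieudonné in all characteristics, dimension at least five. -/
theorem closure_reflSet_eq_top_all [Fintype F] (Q : QuadraticForm F (ι → F))
    (hQ : (QuadraticMap.polarBilin Q).Nondegenerate) (h5 : 5 ≤ finrank F (ι → F)) :
    Subgroup.closure (reflSet Q) = ⊤ := by
  by_cases h2 : (2 : F) = 0
  · obtain ⟨m, hm⟩ := even_finrank_char_two h2 Q hQ
    exact closure_reflSet_eq_top_two Q h2 hQ hm (Or.inr (by omega))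
  · exact closure_reflSet_eq_top Q h2 hQ

theorem commutator_le_closure_siegelSet [Fintype F] (Q : QuadraticForm F (ι → F))
    (hQ : (QuadraticMap.polarBilin Q).Nondegenerate) (h3 : HasTS3 Q) :
    commutator ↥(Cfsg.isometryGroup F (⇑Q)) ≤ Subgroup.closure (siegelSet Q) := by
  have := closure_siegelSet_normal Q
  have h6 := six_le_of_hasTS3 Q hQ h3
  apply commutator_le_of_gens' _ (reflSet Q) (closure_reflSet_eq_top_all Q hQ (by omega))
  rintro a ⟨x, hx, rfl⟩ b ⟨y, hy, rfl⟩
  have hc : reflG Q y * reflG Q x * (reflG Q y)⁻¹ = reflG Q (act (reflG Q y) x) :=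
    conj_reflG Q (reflG Q y) x
  have e : (reflG Q x * reflG Q y)⁻¹ * (reflG Q y * reflG Q x)
      = reflG Q (act (reflG Q y) x) * reflG Q x := by
    rw [← hc, _root_.mul_inv_rev, reflG_inv, reflG_inv]
    group
  rw [e]
  exact refl_pair_mem Q hQ h3 _ x (by rw [Q_act]; exact hx) (by rw [Q_act])

/-- A Siegel element is a commutator of two Siegel elements. -/
theorem exists_siegelG_commutator (Q : QuadraticForm F (ι → F))
    (hQ : (QuadraticMap.polarBilin Q).Nondegenerate) (h3 : HasTS3 Q) (u v : ι → F)
    (hu : Q u = 0) (hv : Q v = 0) (huv : QuadraticMap.polar (⇑Q) u v = 0) (c : F) :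
    ∃ A ∈ siegelSet Q, ∃ B ∈ siegelSet Q, ⁅A, B⁆ = siegelG Q u v hu hv huv c := by
  obtain ⟨w, w', hw, hw', hww', hwW, hw'W⟩ := exists_hyp_pair_orth_ts Q hQ h3
    (Submodule.span F {u, v}) (isTS_span_pair Q u v hu hv huv) (finrank_span_pair_le u v)
  have huw : QuadraticMap.polar (⇑Q) u w = 0 := hwW u (Submodule.subset_span (by simp))
  have hvw : QuadraticMap.polar (⇑Q) v w = 0 := hwW v (Submodule.subset_span (by simp))
  have huw' : QuadraticMap.polar (⇑Q) u w' = 0 := hw'W u (Submodule.subset_span (by simp))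
  have hw'v : QuadraticMap.polar (⇑Q) w' v = 0 := by
    rw [QuadraticMap.polar_comm]
    exact hw'W v (Submodule.subset_span (by simp))
  have key := siegelG_commutator Q u v w w' hu hv hw hw' huv huw huw' hvw hw'v hww' (-c) 1
  have e : -(-c * 1) = c := by ring
  rw [siegelG_congr Q u v u v hu hv huv hu hv huv _ c rfl rfl e] at key
  exact ⟨_, siegelG_mem_siegelSet Q u w hu hw huw (-c), _,
    siegelG_mem_siegelSet Q w' v hw' hv hw'v 1, key⟩

theorem closure_siegelSet_le_commutator (Q : QuadraticForm F (ι → F))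
    (hQ : (QuadraticMap.polarBilin Q).Nondegenerate) (h3 : HasTS3 Q) :
    Subgroup.closure (siegelSet Q) ≤ commutator ↥(Cfsg.isometryGroup F (⇑Q)) := by
  rw [Subgroup.closure_le]
  rintro g ⟨u, v, hu, hv, huv, c, rfl⟩
  exact siegelG_mem_commutator Q hQ h3 u v hu hv huv c

/-- `Ω` is generated by the Siegel elements. -/
theorem commutator_eq_closure_siegelSet [Fintype F] (Q : QuadraticForm F (ι → F))
    (hQ : (QuadraticMap.polarBilin Q).Nondegenerate) (h3 : HasTS3 Q) :
    commutator ↥(Cfsg.isometryGroup F (⇑Q)) = Subgroup.closure (siegelSet Q) :=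
  le_antisymm (commutator_le_closure_siegelSet Q hQ h3) (closure_siegelSet_le_commutator Q hQ h3)

/-- `Ω` is perfect. -/
theorem omega_perfect [Fintype F] (Q : QuadraticForm F (ι → F))
    (hQ : (QuadraticMap.polarBilin Q).Nondegenerate) (h3 : HasTS3 Q) :
    commutator ↥(commutator ↥(Cfsg.isometryGroup F (⇑Q))) = ⊤ := by
  rw [eq_top_iff]
  intro g _
  have h1 : Subgroup.closure (siegelSet Q) ≤
      ⁅commutator ↥(Cfsg.isometryGroup F (⇑Q)), commutator ↥(Cfsg.isometryGroup F (⇑Q))⁆ := by
    rw [Subgroup.closure_le]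
    rintro s ⟨u, v, hu, hv, huv, c, rfl⟩
    obtain ⟨A, hA, B, hB, hAB⟩ := exists_siegelG_commutator Q hQ h3 u v hu hv huv c
    rw [← hAB]
    exact Subgroup.commutator_mem_commutator
      (closure_siegelSet_le_commutator Q hQ h3 (Subgroup.subset_closure hA))
      (closure_siegelSet_le_commutator Q hQ h3 (Subgroup.subset_closure hB))
  have hg : (g : ↥(Cfsg.isometryGroup F (⇑Q))) ∈
      ⁅commutator ↥(Cfsg.isometryGroup F (⇑Q)), commutator ↥(Cfsg.isometryGroup F (⇑Q))⁆ := by
    apply h1
    rw [← commutator_eq_closure_siegelSet Q hQ h3]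
    exact g.2
  rw [← Subgroup.map_subtype_commutator] at hg
  obtain ⟨h, hh, hhg⟩ := Subgroup.mem_map.mp hg
  have : h = g := Subtype.ext hhg
  rw [← this]
  exact hh

end

end Cfsg.Agent.H49
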