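import Mathlib
import Cfsg.Agent.H49.OmegaGen

set_option autoImplicit false
set_option linter.unusedSectionVars false

/-! Helper lemmas (helper49): the action of `Ω` on singular points is primitive
(any characteristic, Witt index at least three). -/

namespace Cfsg.Agent.H49

open Module Matrix

/-- A primitivity criterion: a transitive action with a symmetric relation `R` such that point
stabilisers are transitive on `R`-neighbours, any two points have a common neighbour, and any two
distinct non-neighbours can be made neighbours inside every block containing them. -/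
theorem isPreprimitive_of_rel' {G X : Type*} [Group G] [MulAction G X]
    [MulAction.IsPretransitive G X]
    (R : X → X → Prop) (hsymm : ∀ p q, R p q → R q p)
    (h1 : ∀ p q z, R p q → R p z → ∃ g : G, g • p = p ∧ g • q = z)
    (h2 : ∀ p r, ∃ s, R p s ∧ R s r)
    (h3 : ∀ p q, p ≠ q → ¬ R p q → ∃ g : G, g • q = q ∧ R (g • p) p) :
    MulAction.IsPreprimitive G X := by
  refine ⟨fun {B} hB => ?_⟩
  by_cases hsub : B.Subsingleton
  · exact Or.inl hsub
  right
  rw [Set.not_subsingleton_iff] at hsub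
  obtain ⟨p, hp, q, hq, hpq⟩ := hsub
  have hfix : ∀ (g : G) (r : X), r ∈ B → g • r ∈ B → ∀ s ∈ B, g • s ∈ B := by
    intro g r hr hgr s hs
    rcases hB.smul_eq_or_disjoint g with h | h
    · rw [← h]
      exact Set.smul_mem_smul_set hs
    · exact absurd hgr (Set.disjoint_left.mp h (Set.smul_mem_smul_set hr))
  have hA0 : ∀ p q, p ∈ B → q ∈ B → R p q → ∀ z, R p z → z ∈ B := by
    intro p q hp hq hR z hz
    obtain ⟨g, hgp, hgq⟩ := h1 p q z hR hz
    rw [← hgq]
    exact hfix g p hp (by rw [hgp]; exact hp) q hq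
  have hA : ∀ p q, p ∈ B → q ∈ B → R p q → B = Set.univ := by
    intro p q hp hq hR
    rw [Set.eq_univ_iff_forall]
    intro r
    obtain ⟨s, hps, hsr⟩ := h2 p r
    have hs : s ∈ B := hA0 p q hp hq hR s hps
    exact hA0 s p hs hp (hsymm _ _ hps) r hsr
  by_cases hR : R p q
  · exact hA p q hp hq hR
  · obtain ⟨g, hgq, hgR⟩ := h3 p q hpq hR
    have : g • p ∈ B := hfix g q hq (by rw [hgq]; exact hq) p hp
    exact hA p (g • p) hp this (hsymm _ _ hgR)

section
variable {ι : Type} [Fintype ι] [DecidableEq ι] {F : Type*} [Field F]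

/-- The singular points of a quadratic space. -/
def SPt (Q : QuadraticForm F (ι → F)) : Type _ :=
  {p : Submodule F (ι → F) // finrank F p = 1 ∧ IsTS Q p}

instance sptMulAction (Q : QuadraticForm F (ι → F)) :
    MulAction ↥(Cfsg.isometryGroup F (⇑Q)) (SPt Q) where
  smul g p := ⟨p.1.map (Matrix.mulVecLin ((g : Matrix.GeneralLinearGroup ι F) : Matrix ι ι F)),
    by rw [finrank_map_iso]; exact p.2.1, p.2.2.map_iso g⟩
  one_smul p := Subtype.ext (map_one_sub p.1)
  mul_smul g h p := Subtype.ext (map_mul_sub g h p.1)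

theorem spt_smul_val (Q : QuadraticForm F (ι → F)) (g : ↥(Cfsg.isometryGroup F (⇑Q)))
    (p : SPt Q) :
    (g • p).1 = p.1.map (Matrix.mulVecLin ((g : Matrix.GeneralLinearGroup ι F) : Matrix ι ι F)) :=
  rfl

/-- The singular point spanned by a non-zero singular vector. -/
def spanPt (Q : QuadraticForm F (ι → F)) (x : ι → F) (hx0 : x ≠ 0) (hx : Q x = 0) : SPt Q :=
  ⟨Submodule.span F {x}, finrank_span_singleton hx0, isTS_span_singleton Q x hx⟩

theorem spanPt_val (Q : QuadraticForm F (ι → F)) (x : ι → F) (hx0 : x ≠ 0) (hx : Q x = 0) :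
    (spanPt Q x hx0 hx).1 = Submodule.span F {x} := rfl

theorem exists_spanPt_eq (Q : QuadraticForm F (ι → F)) (p : SPt Q) :
    ∃ (x : ι → F) (hx0 : x ≠ 0) (hx : Q x = 0), p = spanPt Q x hx0 hx := by
  obtain ⟨x, hx0, hxs⟩ := finrank_eq_one_iff'.mp p.2.1
  have hx0' : (x : ι → F) ≠ 0 := fun h => hx0 (Subtype.ext h)
  refine ⟨(x : ι → F), hx0', p.2.2 _ x.2, ?_⟩
  apply Subtype.ext
  rw [spanPt_val]
  apply le_antisymm
  · intro w hw
    obtain ⟨c, hc⟩ := hxs ⟨w, hw⟩
    have : w = c • (x : ι → F) := by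
      have := congrArg Subtype.val hc
      simpa using this.symm
    rw [this]
    exact Submodule.smul_mem _ _ (Submodule.mem_span_singleton_self _)
  · exact (Submodule.span_singleton_le_iff_mem _ _).mpr x.2

theorem smul_spanPt_eq (Q : QuadraticForm F (ι → F)) (g : ↥(Cfsg.isometryGroup F (⇑Q)))
    (x y : ι → F) (hx0 : x ≠ 0) (hx : Q x = 0) (hy0 : y ≠ 0) (hy : Q y = 0) (c : F)
    (h : act g x = c • y) : g • spanPt Q x hx0 hx = spanPt Q y hy0 hy := by
  apply Subtype.ext
  rw [spt_smul_val, spanPt_val, spanPt_val, Submodule.map_span, Set.image_singleton]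
  have hc : c ≠ 0 := by
    rintro rfl
    rw [zero_smul] at h
    exact act_ne_zero g hx0 h
  have h' : (Matrix.mulVecLin ((g : Matrix.GeneralLinearGroup ι F) : Matrix ι ι F)) x = c • y := h
  rw [h']
  exact Submodule.span_singleton_smul_eq (IsUnit.mk0 c hc) y

theorem smul_spanPt (Q : QuadraticForm F (ι → F)) (g : ↥(Cfsg.isometryGroup F (⇑Q)))
    (x : ι → F) (hx0 : x ≠ 0) (hx : Q x = 0) :
    g • spanPt Q x hx0 hx = spanPt Q (act g x) (act_ne_zero g hx0) (by rw [Q_act]; exact hx) :=
  smul_spanPt_eq Q g x (act g x) hx0 hx _ _ 1 (by rw [one_smul])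

theorem spanPt_eq_iff (Q : QuadraticForm F (ι → F)) (x y : ι → F) (hx0 : x ≠ 0) (hx : Q x = 0)
    (hy0 : y ≠ 0) (hy : Q y = 0) :
    spanPt Q x hx0 hx = spanPt Q y hy0 hy ↔ x ∈ Submodule.span F {y} := by
  constructor
  · intro h
    have h' := congrArg Subtype.val h
    rw [spanPt_val, spanPt_val] at h'
    rw [← h']
    exact Submodule.mem_span_singleton_self x
  · intro h
    obtain ⟨c, rfl⟩ := Submodule.mem_span_singleton.mp h
    have hc : c ≠ 0 := by
      rintro rfl
      rw [zero_smul] at hx0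
      exact hx0 rfl
    apply Subtype.ext
    rw [spanPt_val, spanPt_val]
    exact Submodule.span_singleton_smul_eq (IsUnit.mk0 c hc) y

/-- Non-orthogonality of singular points. -/
def sptRel (Q : QuadraticForm F (ι → F)) (p q : SPt Q) : Prop :=
  ∃ x ∈ p.1, ∃ y ∈ q.1, QuadraticMap.polar (⇑Q) x y ≠ 0

theorem sptRel_spanPt (Q : QuadraticForm F (ι → F)) (x y : ι → F) (hx0 : x ≠ 0) (hx : Q x = 0)
    (hy0 : y ≠ 0) (hy : Q y = 0) :
    sptRel Q (spanPt Q x hx0 hx) (spanPt Q y hy0 hy) ↔ QuadraticMap.polar (⇑Q) x y ≠ 0 := by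
  constructor
  · rintro ⟨x', hx', y', hy', h⟩
    rw [spanPt_val] at hx' hy'
    obtain ⟨a, rfl⟩ := Submodule.mem_span_singleton.mp hx'
    obtain ⟨b, rfl⟩ := Submodule.mem_span_singleton.mp hy'
    rw [QuadraticMap.polar_smul_left, QuadraticMap.polar_smul_right] at h
    intro h0
    apply h
    rw [h0]
    simp
  · intro h
    exact ⟨x, Submodule.mem_span_singleton_self x, y, Submodule.mem_span_singleton_self y, h⟩

/-- Moving a singular vector to another one inside the Siegel group of `u`, orthogonal case. -/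
theorem siegel_move (Q : QuadraticForm F (ι → F)) (u y w : ι → F) (hu : Q u = 0) (hy : Q y = 0)
    (hw : Q w = 0) (huy : QuadraticMap.polar (⇑Q) u y = 1)
    (huw : QuadraticMap.polar (⇑Q) u w = 1) (hyw : QuadraticMap.polar (⇑Q) y w = 0) :
    ∃ g ∈ siegelSet Q, act g u = u ∧ act g y = w := by
  have hQ' : Q (w - y) = 0 := by
    rw [Q_sub', hw, hy, QuadraticMap.polar_comm, hyw]
    ring
  have hp : QuadraticMap.polar (⇑Q) u (w - y) = 0 := by
    rw [QuadraticMap.polar_sub_right, huy, huw, sub_self]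
  have huu : QuadraticMap.polar (⇑Q) u u = 0 := by rw [polar_self', hu, mul_zero]
  have hyy : QuadraticMap.polar (⇑Q) y y = 0 := by rw [polar_self', hy, mul_zero]
  have hwy : QuadraticMap.polar (⇑Q) w y = 0 := by rw [QuadraticMap.polar_comm]; exact hyw
  have hwu : QuadraticMap.polar (⇑Q) w u = 1 := by rw [QuadraticMap.polar_comm]; exact huw
  have hyu : QuadraticMap.polar (⇑Q) y u = 1 := by rw [QuadraticMap.polar_comm]; exact huy
  refine ⟨siegelG Q u (w - y) hu hQ' hp 1, siegelG_mem_siegelSet Q _ _ _ _ _ 1, ?_, ?_⟩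
  · rw [act_siegelG, huu, QuadraticMap.polar_sub_left, hwu, hyu]
    simp
  · rw [act_siegelG, huy, QuadraticMap.polar_sub_left, hwy, hyy]
    simp

/-- The stabiliser of a singular vector `u` in the group generated by Siegel elements is
transitive on the singular points not orthogonal to `u`. -/
theorem exists_siegel_map (Q : QuadraticForm F (ι → F))
    (hQ : (QuadraticMap.polarBilin Q).Nondegenerate) (h3 : HasTS3 Q) (u y w : ι → F)
    (hu : Q u = 0) (hy : Q y = 0) (hw : Q w = 0) (huy : QuadraticMap.polar (⇑Q) u y ≠ 0)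
    (huw : QuadraticMap.polar (⇑Q) u w ≠ 0) :
    ∃ g ∈ Subgroup.closure (siegelSet Q), act g u = u ∧ ∃ c : F, act g y = c • w := by
  obtain ⟨y₁, hy₁d⟩ : ∃ y₁, y₁ = (QuadraticMap.polar (⇑Q) u y)⁻¹ • y := ⟨_, rfl⟩
  obtain ⟨w₁, hw₁d⟩ : ∃ w₁, w₁ = (QuadraticMap.polar (⇑Q) u w)⁻¹ • w := ⟨_, rfl⟩
  have hy₁ : Q y₁ = 0 := by rw [hy₁d, QuadraticMap.map_smul, hy, smul_zero]
  have hw₁ : Q w₁ = 0 := by rw [hw₁d, QuadraticMap.map_smul, hw, smul_zero]
  have huy₁ : QuadraticMap.polar (⇑Q) u y₁ = 1 := by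
    rw [hy₁d, QuadraticMap.polar_smul_right, smul_eq_mul, inv_mul_cancel₀ huy]
  have huw₁ : QuadraticMap.polar (⇑Q) u w₁ = 1 := by
    rw [hw₁d, QuadraticMap.polar_smul_right, smul_eq_mul, inv_mul_cancel₀ huw]
  have hyy₁ : y = QuadraticMap.polar (⇑Q) u y • y₁ := by
    rw [hy₁d, smul_smul, mul_inv_cancel₀ huy, one_smul]
  have hfin : ∀ g : ↥(Cfsg.isometryGroup F (⇑Q)), act g y₁ = w₁ →
      ∃ c : F, act g y = c • w := by
    intro g hg
    refine ⟨QuadraticMap.polar (⇑Q) u y * (QuadraticMap.polar (⇑Q) u w)⁻¹, ?_⟩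
    rw [hyy₁, act_smul, hg, hw₁d, smul_smul]
    congr 1
    rw [← hyy₁]
  by_cases hyw₁ : QuadraticMap.polar (⇑Q) y₁ w₁ = 0
  · obtain ⟨g, hg, hgu, hgy⟩ := siegel_move Q u y₁ w₁ hu hy₁ hw₁ huy₁ huw₁ hyw₁
    exact ⟨g, Subgroup.subset_closure hg, hgu, hfin g hgy⟩
  · have hyw : QuadraticMap.polar (⇑Q) y w ≠ 0 := by
      intro h0
      apply hyw₁
      rw [hy₁d, hw₁d, QuadraticMap.polar_smul_left, QuadraticMap.polar_smul_right, h0]
      simp
    obtain ⟨e, e', he, he', hee, hye, hwe, hye', hwe'⟩ :=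
      exists_hyp_pair_orth_hyp Q hQ h3 y w hy hw hyw
    have huW : u ∉ Submodule.span F {y, w} := by
      intro hmem
      obtain ⟨a, b, hab⟩ := Submodule.mem_span_pair.mp hmem
      have hwy : QuadraticMap.polar (⇑Q) w y = QuadraticMap.polar (⇑Q) y w :=
        QuadraticMap.polar_comm _ _ _
      have e1 : QuadraticMap.polar (⇑Q) u y = b * QuadraticMap.polar (⇑Q) y w := by
        rw [← hab, QuadraticMap.polar_add_left, QuadraticMap.polar_smul_left,
          QuadraticMap.polar_smul_left, polar_self', hy, hwy]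
        simp
      have e2 : QuadraticMap.polar (⇑Q) u w = a * QuadraticMap.polar (⇑Q) y w := by
        rw [← hab, QuadraticMap.polar_add_left, QuadraticMap.polar_smul_left,
          QuadraticMap.polar_smul_left, polar_self', hw]
        simp
      have e3 : Q u = a * b * QuadraticMap.polar (⇑Q) y w := by
        rw [← hab, Q_add', QuadraticMap.map_smul, QuadraticMap.map_smul, hy, hw,
          QuadraticMap.polar_smul_left, QuadraticMap.polar_smul_right]
        simp only [smul_eq_mul]
        ring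
      have hb : b ≠ 0 := by
        rintro rfl
        rw [zero_mul] at e1
        exact huy e1
      have ha : a ≠ 0 := by
        rintro rfl
        rw [zero_mul] at e2
        exact huw e2
      rw [hu] at e3
      exact mul_ne_zero (mul_ne_zero ha hb) hyw e3.symm
    obtain ⟨t₀, ht₀, ht₀W, hut₀⟩ := exists_singular_orth_polar_ne Q hQ
      (Submodule.span F {y, w}) e e' he he' hee (polar_span_pair Q y w e hye hwe)
      (polar_span_pair Q y w e' hye' hwe') u huW
    have hyt₀ : QuadraticMap.polar (⇑Q) y t₀ = 0 := ht₀W y (Submodule.subset_span (by simp))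
    have hwt₀ : QuadraticMap.polar (⇑Q) w t₀ = 0 := ht₀W w (Submodule.subset_span (by simp))
    obtain ⟨t, htd⟩ : ∃ t, t = (QuadraticMap.polar (⇑Q) u t₀)⁻¹ • t₀ := ⟨_, rfl⟩
    have ht : Q t = 0 := by rw [htd, QuadraticMap.map_smul, ht₀, smul_zero]
    have hut : QuadraticMap.polar (⇑Q) u t = 1 := by
      rw [htd, QuadraticMap.polar_smul_right, smul_eq_mul, inv_mul_cancel₀ hut₀]
    have hy₁t : QuadraticMap.polar (⇑Q) y₁ t = 0 := by
      rw [hy₁d, htd, QuadraticMap.polar_smul_left, QuadraticMap.polar_smul_right, hyt₀]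
      simp
    have htw₁ : QuadraticMap.polar (⇑Q) t w₁ = 0 := by
      rw [hw₁d, htd, QuadraticMap.polar_smul_left, QuadraticMap.polar_smul_right,
        QuadraticMap.polar_comm (⇑Q) t₀ w, hwt₀]
      simp
    obtain ⟨g₁, hg₁, hg₁u, hg₁y⟩ := siegel_move Q u y₁ t hu hy₁ ht huy₁ hut hy₁t
    obtain ⟨g₂, hg₂, hg₂u, hg₂t⟩ := siegel_move Q u t w₁ hu ht hw₁ hut huw₁ htw₁
    refine ⟨g₂ * g₁, Subgroup.mul_mem _ (Subgroup.subset_closure hg₂)
      (Subgroup.subset_closure hg₁), ?_, hfin _ ?_⟩
    · rw [act_mul, hg₁u, hg₂u]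
    · rw [act_mul, hg₁y, hg₂t]

/-- Any two singular points have a common non-orthogonal singular point. -/
theorem exists_common_nbr (Q : QuadraticForm F (ι → F))
    (hQ : (QuadraticMap.polarBilin Q).Nondegenerate) (h3 : HasTS3 Q) (x z : ι → F)
    (hx0 : x ≠ 0) (hz0 : z ≠ 0) (hx : Q x = 0) (hz : Q z = 0) :
    ∃ s : ι → F, Q s = 0 ∧ QuadraticMap.polar (⇑Q) x s ≠ 0 ∧
      QuadraticMap.polar (⇑Q) s z ≠ 0 := by
  have hxx : QuadraticMap.polar (⇑Q) x x = 0 := by rw [polar_self', hx, mul_zero]
  have hzz : QuadraticMap.polar (⇑Q) z z = 0 := by rw [polar_self', hz, mul_zero]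
  by_cases hxz : QuadraticMap.polar (⇑Q) x z = 0
  · by_cases hmem : z ∈ Submodule.span F {x}
    · obtain ⟨c, rfl⟩ := Submodule.mem_span_singleton.mp hmem
      have hc : c ≠ 0 := by
        rintro rfl
        rw [zero_smul] at hz0
        exact hz0 rfl
      obtain ⟨s, hs, hxs⟩ := exists_hyp_partner Q (fun a h => hQ.1 a h) x hx0 hx
      refine ⟨s, hs, by rw [hxs]; exact one_ne_zero, ?_⟩
      rw [QuadraticMap.polar_smul_right, QuadraticMap.polar_comm, hxs, smul_eq_mul, mul_one]
      exact hc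
    · have hzx : QuadraticMap.polar (⇑Q) z x = 0 := by rw [QuadraticMap.polar_comm]; exact hxz
      have hxW : x ∉ Submodule.span F {z} := by
        intro h
        obtain ⟨c, rfl⟩ := Submodule.mem_span_singleton.mp h
        have hc : c ≠ 0 := by
          rintro rfl
          rw [zero_smul] at hx0
          exact hx0 rfl
        apply hmem
        have : c⁻¹ • (c • z) ∈ Submodule.span F {c • z} :=
          Submodule.smul_mem _ _ (Submodule.mem_span_singleton_self _)
        rwa [smul_smul, inv_mul_cancel₀ hc, one_smul] at this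
      obtain ⟨x', hx', hx'W, hxx'⟩ := exists_partner_orth Q hQ (Submodule.span F {z}) x hx
        (polar_span_singleton Q z x hzx) hxW
      have hzx' : QuadraticMap.polar (⇑Q) z x' = 0 := hx'W z (Submodule.mem_span_singleton_self z)
      have hx'z : QuadraticMap.polar (⇑Q) x' z = 0 := by rw [QuadraticMap.polar_comm]; exact hzx'
      have hzW : z ∉ Submodule.span F {x, x'} := by
        intro h
        obtain ⟨a, b, hab⟩ := Submodule.mem_span_pair.mp h
        have hb : b = 0 := by
          have := hxz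
          rw [← hab, QuadraticMap.polar_add_right, QuadraticMap.polar_smul_right,
            QuadraticMap.polar_smul_right, hxx, hxx'] at this
          simpa using this
        apply hmem
        rw [← hab, hb]
        simp only [zero_smul, add_zero]
        exact Submodule.smul_mem _ _ (Submodule.mem_span_singleton_self _)
      obtain ⟨z', hz', hz'W, hzz'⟩ := exists_partner_orth Q hQ (Submodule.span F {x, x'}) z hz
        (polar_span_pair Q x x' z hxz hx'z) hzW
      have hxz' : QuadraticMap.polar (⇑Q) x z' = 0 := hz'W x (Submodule.subset_span (by simp))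
      have hx'z' : QuadraticMap.polar (⇑Q) x' z' = 0 := hz'W x' (Submodule.subset_span (by simp))
      refine ⟨x' + z', ?_, ?_, ?_⟩
      · rw [Q_add', hx', hz', hx'z']
        ring
      · rw [QuadraticMap.polar_add_right, hxx', hxz', add_zero]
        exact one_ne_zero
      · rw [QuadraticMap.polar_add_left, hx'z, QuadraticMap.polar_comm (⇑Q) z' z, hzz', zero_add]
        exact one_ne_zero
  · obtain ⟨e, e', he, he', hee, hxe, hze, hxe', hze'⟩ :=
      exists_hyp_pair_orth_hyp Q hQ h3 x z hx hz hxz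
    obtain ⟨c, hc⟩ : ∃ c, c = -QuadraticMap.polar (⇑Q) x z := ⟨_, rfl⟩
    have hez : QuadraticMap.polar (⇑Q) e z = 0 := by rw [QuadraticMap.polar_comm]; exact hze
    have he'z : QuadraticMap.polar (⇑Q) e' z = 0 := by rw [QuadraticMap.polar_comm]; exact hze'
    have hex : QuadraticMap.polar (⇑Q) e x = 0 := by rw [QuadraticMap.polar_comm]; exact hxe
    have he'x : QuadraticMap.polar (⇑Q) e' x = 0 := by rw [QuadraticMap.polar_comm]; exact hxe'
    refine ⟨x + z + (e + c • e'), ?_, ?_, ?_⟩
    · rw [Q_add', Q_add' Q x z, Q_add' Q e, hx, hz, he, QuadraticMap.map_smul, he',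
        QuadraticMap.polar_smul_right, hee, QuadraticMap.polar_add_left,
        QuadraticMap.polar_add_right, QuadraticMap.polar_add_right,
        QuadraticMap.polar_smul_right, QuadraticMap.polar_smul_right, hxe, hxe', hze, hze', hc]
      simp
    · rw [QuadraticMap.polar_add_right, QuadraticMap.polar_add_right,
        QuadraticMap.polar_add_right, QuadraticMap.polar_smul_right, hxx, hxe, hxe']
      simpa using hxz
    · rw [QuadraticMap.polar_add_left, QuadraticMap.polar_add_left,
        QuadraticMap.polar_add_left, QuadraticMap.polar_smul_left, hzz, hez, he'z]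
      simpa using hxz

/-- For distinct orthogonal singular points `⟨x⟩`, `⟨y⟩` there is an element of the group
generated by Siegel elements fixing `y` and moving `x` to a vector not orthogonal to `x`. -/
theorem exists_refl_pair_move (Q : QuadraticForm F (ι → F))
    (hQ : (QuadraticMap.polarBilin Q).Nondegenerate) (h3 : HasTS3 Q) (x y : ι → F)
    (hx : Q x = 0) (hy : Q y = 0) (hxy : QuadraticMap.polar (⇑Q) x y = 0)
    (hne : x ∉ Submodule.span F {y}) :
    ∃ g ∈ Subgroup.closure (siegelSet Q), act g y = y ∧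
      QuadraticMap.polar (⇑Q) (act g x) x ≠ 0 := by
  have hxx : QuadraticMap.polar (⇑Q) x x = 0 := by rw [polar_self', hx, mul_zero]
  have hyx : QuadraticMap.polar (⇑Q) y x = 0 := by rw [QuadraticMap.polar_comm]; exact hxy
  obtain ⟨s₀, hs₀W, hxs₀⟩ := exists_orth_polar_ne Q hQ (Submodule.span F {y}) x hne
  have hys₀ : QuadraticMap.polar (⇑Q) y s₀ = 0 := hs₀W y (Submodule.mem_span_singleton_self y)
  obtain ⟨s, hsd⟩ : ∃ s, s = s₀ - (Q s₀ / QuadraticMap.polar (⇑Q) x s₀) • x := ⟨_, rfl⟩
  have hs : Q s = 0 := by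
    rw [hsd, Q_sub_smul, hx]
    field_simp
    ring
  have hys : QuadraticMap.polar (⇑Q) y s = 0 := by
    rw [hsd, QuadraticMap.polar_sub_right, QuadraticMap.polar_smul_right, hys₀, hyx]
    simp
  have hxs : QuadraticMap.polar (⇑Q) x s ≠ 0 := by
    rw [hsd, QuadraticMap.polar_sub_right, QuadraticMap.polar_smul_right, hxx]
    simpa using hxs₀
  obtain ⟨e, e', he, he', hee, heW, he'W⟩ := exists_hyp_pair_orth_ts Q hQ h3
    (Submodule.span F {y, s}) (isTS_span_pair Q y s hy hs hys) (finrank_span_pair_le y s)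
  have hye : QuadraticMap.polar (⇑Q) y e = 0 := heW y (Submodule.subset_span (by simp))
  have hse : QuadraticMap.polar (⇑Q) s e = 0 := heW s (Submodule.subset_span (by simp))
  have hye' : QuadraticMap.polar (⇑Q) y e' = 0 := he'W y (Submodule.subset_span (by simp))
  have hse' : QuadraticMap.polar (⇑Q) s e' = 0 := he'W s (Submodule.subset_span (by simp))
  obtain ⟨a, had⟩ : ∃ a, a = e + e' := ⟨_, rfl⟩
  have hQa : Q a = 1 := by rw [had, Q_add', he, he', hee]; ring
  have hQa0 : Q a ≠ 0 := by rw [hQa]; exact one_ne_zero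
  have has : QuadraticMap.polar (⇑Q) a s = 0 := by
    rw [had, QuadraticMap.polar_add_left, QuadraticMap.polar_comm (⇑Q) e s,
      QuadraticMap.polar_comm (⇑Q) e' s, hse, hse', add_zero]
  have hay : QuadraticMap.polar (⇑Q) a y = 0 := by
    rw [had, QuadraticMap.polar_add_left, QuadraticMap.polar_comm (⇑Q) e y,
      QuadraticMap.polar_comm (⇑Q) e' y, hye, hye', add_zero]
  have hsy : QuadraticMap.polar (⇑Q) s y = 0 := by rw [QuadraticMap.polar_comm]; exact hys
  have hsx : QuadraticMap.polar (⇑Q) s x ≠ 0 := by rw [QuadraticMap.polar_comm]; exact hxs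
  refine ⟨reflG Q a * reflG Q (a - s), refl_pair_mem_of_singular Q hQ h3 a s hQa0 hs has, ?_, ?_⟩
  · rw [act_refl_pair Q a s hQa0 hs has, hsy, hay]
    simp
  · rw [act_refl_pair Q a s hQa0 hs has, hQa, QuadraticMap.polar_add_left,
      QuadraticMap.polar_sub_left, QuadraticMap.polar_smul_left, QuadraticMap.polar_smul_left,
      hxx]
    simp only [smul_eq_mul, inv_one, one_mul]
    intro h0
    apply hsx
    have : QuadraticMap.polar (⇑Q) s x * QuadraticMap.polar (⇑Q) s x = 0 := by
      linear_combination -h0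
    exact mul_self_eq_zero.mp this

end

end Cfsg.Agent.H49
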