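import Mathlib
import Cfsg.Agent.H49.SingPts

set_option autoImplicit false
set_option linter.unusedSectionVars false

/-! Helper lemmas (helper49): simplicity of `Ω(Q) / Z(Ω(Q))` for a quadratic space of Witt index
at least three over a finite field (any characteristic), by Iwasawa's criterion applied to the
action on singular points. -/

namespace Cfsg.Agent.H49

open Module Matrix
open scoped Pointwise

section
variable {ι : Type} [Fintype ι] [DecidableEq ι] {F : Type*} [Field F]

theorem omega_isPretransitive [Fintype F] (Q : QuadraticForm F (ι → F))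
    (hQ : (QuadraticMap.polarBilin Q).Nondegenerate) (h3 : HasTS3 Q) :
    MulAction.IsPretransitive ↥(commutator ↥(Cfsg.isometryGroup F (⇑Q))) (SPt Q) := by
  constructor
  intro p q
  obtain ⟨x, hx0, hx, rfl⟩ := exists_spanPt_eq Q p
  obtain ⟨z, hz0, hz, rfl⟩ := exists_spanPt_eq Q q
  obtain ⟨s, hs, hxs, hsz⟩ := exists_common_nbr Q hQ h3 x z hx0 hz0 hx hz
  obtain ⟨g, hg, -, c, hgx⟩ := exists_siegel_map Q hQ h3 s x z hs hx hz
    (by rw [QuadraticMap.polar_comm]; exact hxs) hsz
  refine ⟨⟨g, closure_siegelSet_le_commutator Q hQ h3 hg⟩, ?_⟩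
  exact smul_spanPt_eq Q g x z hx0 hx hz0 hz c hgx

/-- `Ω` acts primitively on the singular points. -/
theorem omega_isPreprimitive [Fintype F] (Q : QuadraticForm F (ι → F))
    (hQ : (QuadraticMap.polarBilin Q).Nondegenerate) (h3 : HasTS3 Q) :
    MulAction.IsPreprimitive ↥(commutator ↥(Cfsg.isometryGroup F (⇑Q))) (SPt Q) := by
  have htrans := omega_isPretransitive Q hQ h3
  apply isPreprimitive_of_rel' (sptRel Q)
  · rintro p q ⟨x, hx, y, hy, h⟩
    exact ⟨y, hy, x, hx, by rw [QuadraticMap.polar_comm]; exact h⟩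
  · intro p q z hpq hpz
    obtain ⟨u, hu0, hu, rfl⟩ := exists_spanPt_eq Q p
    obtain ⟨y, hy0, hy, rfl⟩ := exists_spanPt_eq Q q
    obtain ⟨w, hw0, hw, rfl⟩ := exists_spanPt_eq Q z
    rw [sptRel_spanPt] at hpq hpz
    obtain ⟨g, hg, hgu, c, hgy⟩ := exists_siegel_map Q hQ h3 u y w hu hy hw hpq hpz
    refine ⟨⟨g, closure_siegelSet_le_commutator Q hQ h3 hg⟩, ?_, ?_⟩
    · exact smul_spanPt_eq Q g u u hu0 hu hu0 hu 1 (by rw [hgu, one_smul])
    · exact smul_spanPt_eq Q g y w hy0 hy hw0 hw c hgy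
  · intro p r
    obtain ⟨x, hx0, hx, rfl⟩ := exists_spanPt_eq Q p
    obtain ⟨z, hz0, hz, rfl⟩ := exists_spanPt_eq Q r
    obtain ⟨s, hs, hxs, hsz⟩ := exists_common_nbr Q hQ h3 x z hx0 hz0 hx hz
    have hs0 : s ≠ 0 := by
      rintro rfl
      exact hxs (QuadraticMap.polar_zero_right _ _)
    exact ⟨spanPt Q s hs0 hs, (sptRel_spanPt Q x s hx0 hx hs0 hs).mpr hxs,
      (sptRel_spanPt Q s z hs0 hs hz0 hz).mpr hsz⟩
  · intro p q hpq hR
    obtain ⟨x, hx0, hx, rfl⟩ := exists_spanPt_eq Q p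
    obtain ⟨y, hy0, hy, rfl⟩ := exists_spanPt_eq Q q
    rw [sptRel_spanPt, not_not] at hR
    have hne : x ∉ Submodule.span F {y} :=
      fun h => hpq ((spanPt_eq_iff Q x y hx0 hx hy0 hy).mpr h)
    obtain ⟨g, hg, hgy, hgx⟩ := exists_refl_pair_move Q hQ h3 x y hx hy hR hne
    refine ⟨⟨g, closure_siegelSet_le_commutator Q hQ h3 hg⟩, ?_, ?_⟩
    · exact smul_spanPt_eq Q g y y hy0 hy hy0 hy 1 (by rw [hgy, one_smul])
    · have e : (⟨g, closure_siegelSet_le_commutator Q hQ h3 hg⟩ :
          ↥(commutator ↥(Cfsg.isometryGroup F (⇑Q)))) • spanPt Q x hx0 hx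
          = spanPt Q (act g x) (act_ne_zero g hx0) (by rw [Q_act]; exact hx) :=
        smul_spanPt Q g x hx0 hx
      rw [e, sptRel_spanPt]
      exact hgx

/-- The generators of the Siegel group at a singular point. -/
def siegelAt (Q : QuadraticForm F (ι → F)) (p : SPt Q) :
    Set ↥(commutator ↥(Cfsg.isometryGroup F (⇑Q))) :=
  {g | ∃ (u v : ι → F) (hu : Q u = 0) (hv : Q v = 0)
    (huv : QuadraticMap.polar (⇑Q) u v = 0) (c : F), u ∈ p.1 ∧
      (g : ↥(Cfsg.isometryGroup F (⇑Q))) = siegelG Q u v hu hv huv c}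

theorem siegelAt_commute (Q : QuadraticForm F (ι → F)) (p : SPt Q) :
    ∀ a ∈ siegelAt Q p, ∀ b ∈ siegelAt Q p, a * b = b * a := by
  rintro a ⟨u₁, v₁, hu₁, hv₁, h₁, c₁, hu₁p, ha⟩ b ⟨u₂, v₂, hu₂, hv₂, h₂, c₂, hu₂p, hb⟩
  obtain ⟨x, hx0, hx, rfl⟩ := exists_spanPt_eq Q p
  rw [spanPt_val] at hu₁p hu₂p
  obtain ⟨a₁, rfl⟩ := Submodule.mem_span_singleton.mp hu₁p
  obtain ⟨a₂, rfl⟩ := Submodule.mem_span_singleton.mp hu₂p
  apply Subtype.ext
  rw [Subgroup.coe_mul, Subgroup.coe_mul, ha, hb]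
  exact siegelG_commute Q x v₁ v₂ a₁ a₂ hu₁ hu₂ hv₁ hv₂ h₁ h₂ c₁ c₂

theorem siegelAt_conj (Q : QuadraticForm F (ι → F))
    (g : ↥(commutator ↥(Cfsg.isometryGroup F (⇑Q)))) (p : SPt Q) :
    siegelAt Q (g • p) = MulAut.conj g • siegelAt Q p := by
  ext x
  rw [Set.mem_smul_set_iff_inv_smul_mem]
  have e : (MulAut.conj g)⁻¹ • x = g⁻¹ * x * g := by
    rw [← map_inv, MulAut.smul_def, MulAut.conj_apply, inv_inv]
  rw [e]
  constructor
  · rintro ⟨u, v, hu, hv, huv, c, hup, hx⟩
    have hup' : u ∈ p.1.map (Matrix.mulVecLin (((g : ↥(Cfsg.isometryGroup F (⇑Q))) :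
        Matrix.GeneralLinearGroup ι F) : Matrix ι ι F)) := hup
    obtain ⟨u₀, hu₀, hu₀u⟩ := Submodule.mem_map.mp hup'
    have hu₀u' : act (g : ↥(Cfsg.isometryGroup F (⇑Q))) u₀ = u := hu₀u
    refine ⟨act (g : ↥(Cfsg.isometryGroup F (⇑Q)))⁻¹ u,
      act (g : ↥(Cfsg.isometryGroup F (⇑Q)))⁻¹ v, by rw [Q_act, hu], by rw [Q_act, hv],
      by rw [polar_act, huv], c, ?_, ?_⟩
    · rw [← hu₀u', act_inv_act]
      exact hu₀
    · rw [Subgroup.coe_mul, Subgroup.coe_mul, Subgroup.coe_inv, hx]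
      have := conj_siegelG Q (g : ↥(Cfsg.isometryGroup F (⇑Q)))⁻¹ u v hu hv huv c
      rw [inv_inv] at this
      exact this
  · rintro ⟨u, v, hu, hv, huv, c, hup, hx⟩
    refine ⟨act (g : ↥(Cfsg.isometryGroup F (⇑Q))) u, act (g : ↥(Cfsg.isometryGroup F (⇑Q))) v,
      by rw [Q_act, hu], by rw [Q_act, hv], by rw [polar_act, huv], c, ?_, ?_⟩
    · exact Submodule.mem_map.mpr ⟨u, hup, rfl⟩
    · rw [← conj_siegelG Q (g : ↥(Cfsg.isometryGroup F (⇑Q))) u v hu hv huv c, ← hx,
        Subgroup.coe_mul, Subgroup.coe_mul, Subgroup.coe_inv]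
      group

/-- The Iwasawa structure on `Ω` given by the Siegel groups at singular points. -/
def omegaIwasawa [Fintype F] (Q : QuadraticForm F (ι → F))
    (hQ : (QuadraticMap.polarBilin Q).Nondegenerate) (h3 : HasTS3 Q) :
    MulAction.IwasawaStructure ↥(commutator ↥(Cfsg.isometryGroup F (⇑Q))) (SPt Q) where
  T p := Subgroup.closure (siegelAt Q p)
  is_comm p := Subgroup.isMulCommutative_closure (siegelAt_commute Q p)
  is_conj g p := by
    rw [Subgroup.smul_closure, siegelAt_conj]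
  is_generator := by
    rw [eq_top_iff]
    intro g _
    have key : ∀ (x : ↥(Cfsg.isometryGroup F (⇑Q))) (hx : x ∈ Subgroup.closure (siegelSet Q)),
        (⟨x, closure_siegelSet_le_commutator Q hQ h3 hx⟩ :
          ↥(commutator ↥(Cfsg.isometryGroup F (⇑Q))))
          ∈ ⨆ p : SPt Q, Subgroup.closure (siegelAt Q p) := by
      intro x hx
      induction hx using Subgroup.closure_induction with
      | mem x hx =>
        obtain ⟨u, v, hu, hv, huv, c, rfl⟩ := hx
        by_cases hu0 : u = 0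
        · have h1 : (⟨siegelG Q u v hu hv huv c, closure_siegelSet_le_commutator Q hQ h3
              (Subgroup.subset_closure (siegelG_mem_siegelSet Q u v hu hv huv c))⟩ :
              ↥(commutator ↥(Cfsg.isometryGroup F (⇑Q)))) = 1 :=
            Subtype.ext (siegelG_eq_one Q u v hu hv huv c (Or.inl hu0))
          rw [h1]
          exact Subgroup.one_mem _
        · exact Subgroup.mem_iSup_of_mem (spanPt Q u hu0 hu)
            (Subgroup.subset_closure
              ⟨u, v, hu, hv, huv, c, Submodule.mem_span_singleton_self u, rfl⟩)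
      | one => exact Subgroup.one_mem _
      | mul x y hx hy ihx ihy => exact Subgroup.mul_mem _ ihx ihy
      | inv x hx ih => exact Subgroup.inv_mem _ ih
    have hg : (g : ↥(Cfsg.isometryGroup F (⇑Q))) ∈ Subgroup.closure (siegelSet Q) := by
      rw [← commutator_eq_closure_siegelSet Q hQ h3]
      exact g.2
    exact key g hg

/-- An element of `Ω` fixing every singular point is central. -/
theorem mem_center_of_fixes [Fintype F] (Q : QuadraticForm F (ι → F))
    (hQ : (QuadraticMap.polarBilin Q).Nondegenerate) (h3 : HasTS3 Q)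
    (g : ↥(commutator ↥(Cfsg.isometryGroup F (⇑Q)))) (h : ∀ p : SPt Q, g • p = p) :
    g ∈ Subgroup.center ↥(commutator ↥(Cfsg.isometryGroup F (⇑Q))) := by
  obtain ⟨g₀, hg₀⟩ : ∃ g₀ : ↥(Cfsg.isometryGroup F (⇑Q)), g₀ = g := ⟨_, rfl⟩
  have hev : ∀ x : ι → F, x ≠ 0 → Q x = 0 → ∃ l : F, act g₀ x = l • x := by
    intro x hx0 hx
    have h1 : g₀ • spanPt Q x hx0 hx = spanPt Q x hx0 hx := by
      rw [hg₀]
      exact h (spanPt Q x hx0 hx)
    rw [smul_spanPt, spanPt_eq_iff] at h1
    obtain ⟨l, hl⟩ := Submodule.mem_span_singleton.mp h1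
    exact ⟨l, hl.symm⟩
  have hpair : ∀ (x y : ι → F) (l m : F), x ≠ 0 → y ≠ 0 → Q x = 0 → Q y = 0 →
      QuadraticMap.polar (⇑Q) x y = 0 → act g₀ x = l • x → act g₀ y = m • y → l = m := by
    intro x y l m hx0 hy0 hx hy hxy hgx hgy
    by_cases hmem : y ∈ Submodule.span F {x}
    · obtain ⟨c, rfl⟩ := Submodule.mem_span_singleton.mp hmem
      have hc : c ≠ 0 := by
        rintro rfl
        rw [zero_smul] at hy0
        exact hy0 rfl
      rw [act_smul, hgx, smul_smul, smul_smul] at hgy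
      have h2 := smul_left_injective F hx0 hgy
      have h3 : c * l = c * m := by rw [h2, mul_comm]
      exact mul_left_cancel₀ hc h3
    · have hxy0 : x + y ≠ 0 := by
        intro h0
        apply hmem
        have : y = (-1 : F) • x := by
          rw [neg_smul, one_smul]
          exact eq_neg_of_add_eq_zero_right h0
        rw [this]
        exact Submodule.smul_mem _ _ (Submodule.mem_span_singleton_self x)
      have hQxy : Q (x + y) = 0 := by rw [Q_add', hx, hy, hxy]; ring
      obtain ⟨n, hn⟩ := hev (x + y) hxy0 hQxy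
      rw [act_add, hgx, hgy, smul_add] at hn
      have h4 : (m - n) • y = (n - l) • x := by
        rw [sub_smul, sub_smul]
        have : m • y - n • y = n • x - l • x := by
          rw [sub_eq_sub_iff_add_eq_add]
          rw [add_comm (m • y), hn, add_comm]
        exact this
      have hmn : m = n := by
        by_contra hne
        have hne' : m - n ≠ 0 := sub_ne_zero.mpr hne
        apply hmem
        have : y = ((m - n)⁻¹ * (n - l)) • x := by
          rw [mul_smul, ← h4, smul_smul, inv_mul_cancel₀ hne', one_smul]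
        rw [this]
        exact Submodule.smul_mem _ _ (Submodule.mem_span_singleton_self x)
      rw [hmn, sub_self, zero_smul] at h4
      have h5 : n - l = 0 := by
        rcases smul_eq_zero.mp h4.symm with h6 | h6
        · exact h6
        · exact absurd h6 hx0
      rw [hmn]
      exact (sub_eq_zero.mp h5).symm
  have hsq : ∀ (x : ι → F) (l : F), x ≠ 0 → Q x = 0 → act g₀ x = l • x → l * l = 1 := by
    intro x l hx0 hx hgx
    obtain ⟨x', hx', hxx'⟩ := exists_hyp_partner Q (fun a h => hQ.1 a h) x hx0 hx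
    have hx'0 : x' ≠ 0 := by
      rintro rfl
      rw [QuadraticMap.polar_zero_right] at hxx'
      exact zero_ne_one hxx'
    obtain ⟨e, e', he, -, hee, hxe, hx'e, -, -⟩ :=
      exists_hyp_pair_orth_hyp Q hQ h3 x x' hx hx' (by rw [hxx']; exact one_ne_zero)
    have he0 : e ≠ 0 := by
      rintro rfl
      rw [QuadraticMap.polar_zero_left] at hee
      exact zero_ne_one hee
    obtain ⟨le, hle⟩ := hev e he0 he
    obtain ⟨l', hl'⟩ := hev x' hx'0 hx'
    have h1 : l = le := hpair x e l le hx0 he0 hx he hxe hgx hle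
    have h2 : le = l' := hpair e x' le l' he0 hx'0 he hx'
      (by rw [QuadraticMap.polar_comm]; exact hx'e) hle hl'
    have h3 := polar_act Q g₀ x x'
    rw [hgx, hl', QuadraticMap.polar_smul_left, QuadraticMap.polar_smul_right, hxx'] at h3
    have h4 : l = l' := h1.trans h2
    rw [← h4] at h3
    simpa using h3
  have hS : ∀ s ∈ siegelSet Q, g₀ * s = s * g₀ := by
    rintro s ⟨u, v, hu, hv, huv, c, rfl⟩
    by_cases h0 : u = 0 ∨ v = 0
    · rw [siegelG_eq_one Q u v hu hv huv c h0, mul_one, one_mul]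
    · push Not at h0
      obtain ⟨hu0, hv0⟩ := h0
      obtain ⟨l, hl⟩ := hev u hu0 hu
      obtain ⟨m, hm⟩ := hev v hv0 hv
      have hlm : l = m := hpair u v l m hu0 hv0 hu hv huv hl hm
      rw [← hlm] at hm
      have hll := hsq u l hu0 hu hl
      have hlu : Q (l • u) = 0 := by rw [QuadraticMap.map_smul, hu, smul_zero]
      have hlv : Q (l • v) = 0 := by rw [QuadraticMap.map_smul, hv, smul_zero]
      have hluv : QuadraticMap.polar (⇑Q) (l • u) (l • v) = 0 := by
        rw [QuadraticMap.polar_smul_left, QuadraticMap.polar_smul_right, huv, smul_zero,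
          smul_zero]
      have hulv : QuadraticMap.polar (⇑Q) u (l • v) = 0 := by
        rw [QuadraticMap.polar_smul_right, huv, smul_zero]
      have key : g₀ * siegelG Q u v hu hv huv c * g₀⁻¹ = siegelG Q u v hu hv huv c := by
        rw [conj_siegelG,
          siegelG_congr Q (act g₀ u) (act g₀ v) (l • u) (l • v) _ _ _ hlu hlv hluv c c hl hm rfl,
          siegelG_smul_left Q u (l • v) l hu hlu hlv hulv hluv c,
          siegelG_smul_right Q u v l hu hv hlv huv hulv (l * c)]
        exact siegelG_congr Q u v u v hu hv huv hu hv huv _ _ rfl rfl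
          (by rw [← mul_assoc, hll, one_mul])
      exact mul_inv_eq_iff_eq_mul.mp key
  rw [Subgroup.mem_center_iff]
  intro k
  have hk : (k : ↥(Cfsg.isometryGroup F (⇑Q))) ∈ Subgroup.closure (siegelSet Q) := by
    rw [← commutator_eq_closure_siegelSet Q hQ h3]
    exact k.2
  have hle : Subgroup.closure (siegelSet Q) ≤ Subgroup.centralizer {g₀} := by
    rw [Subgroup.closure_le]
    intro s hs
    rw [SetLike.mem_coe, Subgroup.mem_centralizer_iff]
    intro x hx
    rw [Set.mem_singleton_iff] at hx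
    rw [hx]
    exact hS s hs
  have h2 := hle hk
  rw [Subgroup.mem_centralizer_iff] at h2
  have h3 := h2 g₀ rfl
  apply Subtype.ext
  rw [Subgroup.coe_mul, Subgroup.coe_mul, ← hg₀]
  exact h3.symm

/-- `Ω` is not abelian. -/
theorem omega_center_ne_top [Fintype F] (Q : QuadraticForm F (ι → F))
    (hQ : (QuadraticMap.polarBilin Q).Nondegenerate) (h3 : HasTS3 Q) :
    Subgroup.center ↥(commutator ↥(Cfsg.isometryGroup F (⇑Q))) ≠ ⊤ := by
  intro hZ
  have h1 := (commutator_eq_bot_iff_center_eq_top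
    (G := ↥(commutator ↥(Cfsg.isometryGroup F (⇑Q))))).mpr hZ
  rw [omega_perfect Q hQ h3] at h1
  obtain ⟨U, hU, dU⟩ := h3
  have hUbot : U ≠ ⊥ := by
    intro h
    rw [h, finrank_bot] at dU
    omega
  obtain ⟨u, huU, hu0⟩ := Submodule.exists_mem_ne_zero_of_ne_bot hUbot
  have h2 : ¬ U ≤ Submodule.span F {u} := by
    intro hle
    have := Submodule.finrank_mono hle
    rw [finrank_span_singleton hu0] at this
    omega
  obtain ⟨v, hvU, hv⟩ := SetLike.not_le_iff_exists.mp h2
  have hu : Q u = 0 := hU u huU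
  have hvQ : Q v = 0 := hU v hvU
  have huv : QuadraticMap.polar (⇑Q) u v = 0 := hU.polar huU hvU
  obtain ⟨x, -, hux⟩ := exists_hyp_partner Q (fun a h => hQ.1 a h) u hu0 hu
  have hmem : (⟨siegelG Q u v hu hvQ huv 1,
      siegelG_mem_commutator Q hQ ⟨U, hU, dU⟩ u v hu hvQ huv 1⟩ :
      ↥(commutator ↥(Cfsg.isometryGroup F (⇑Q)))) ∈
      (⊤ : Subgroup ↥(commutator ↥(Cfsg.isometryGroup F (⇑Q)))) := Subgroup.mem_top _
  rw [h1, Subgroup.mem_bot] at hmem
  have h4 : siegelG Q u v hu hvQ huv 1 = 1 := congrArg Subtype.val hmem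
  have h5 := act_siegelG Q u v hu hvQ huv 1 x
  rw [h4, act_one, hux, one_smul, one_smul] at h5
  apply hv
  have h6 : v = QuadraticMap.polar (⇑Q) v x • u := by
    have : v - QuadraticMap.polar (⇑Q) v x • u = 0 := by
      have h7 : x + 0 = x + (v - QuadraticMap.polar (⇑Q) v x • u) := by rw [add_zero]; exact h5
      exact (add_left_cancel h7).symm
    exact sub_eq_zero.mp this
  rw [h6]
  exact Submodule.smul_mem _ _ (Submodule.mem_span_singleton_self u)

/-- Simplicity of `PΩ(Q)` for a quadratic space of Witt index at least three over a finite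
field. -/
theorem pOmega_simple [Fintype F] (Q : QuadraticForm F (ι → F))
    (hQ : (QuadraticMap.polarBilin Q).Nondegenerate) (h3 : HasTS3 Q) :
    IsSimpleGroup (↥(commutator ↥(Cfsg.isometryGroup F (⇑Q))) ⧸
      Subgroup.center ↥(commutator ↥(Cfsg.isometryGroup F (⇑Q)))) := by
  have hperf := omega_perfect Q hQ h3
  have hZ := omega_center_ne_top Q hQ h3
  have hnt : Nontrivial (↥(commutator ↥(Cfsg.isometryGroup F (⇑Q))) ⧸
      Subgroup.center ↥(commutator ↥(Cfsg.isometryGroup F (⇑Q)))) := by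
    obtain ⟨g, hg⟩ : ∃ g, g ∉ Subgroup.center ↥(commutator ↥(Cfsg.isometryGroup F (⇑Q))) := by
      by_contra hcon
      push Not at hcon
      exact hZ (eq_top_iff.mpr fun g _ => hcon g)
    refine ⟨⟨(g : ↥(commutator ↥(Cfsg.isometryGroup F (⇑Q))) ⧸ _), 1, ?_⟩⟩
    intro h
    exact hg ((QuotientGroup.eq_one_iff g).mp h)
  have hprim := omega_isPreprimitive Q hQ h3
  refine { toNontrivial := hnt, eq_bot_or_eq_top_of_normal := fun K hK => ?_ }
  obtain ⟨N, hNdef⟩ : ∃ N : Subgroup ↥(commutator ↥(Cfsg.isometryGroup F (⇑Q))),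
      N = K.comap (QuotientGroup.mk'
        (Subgroup.center ↥(commutator ↥(Cfsg.isometryGroup F (⇑Q))))) :=
    ⟨_, rfl⟩
  have hN : N.Normal := by
    rw [hNdef]
    exact Subgroup.Normal.comap hK _
  have hmem : ∀ g, g ∈ N ↔ (g : ↥(commutator ↥(Cfsg.isometryGroup F (⇑Q))) ⧸ _) ∈ K := by
    intro g
    rw [hNdef]
    rfl
  by_cases hfix : MulAction.fixedPoints N (SPt Q) = Set.univ
  · left
    rw [Subgroup.eq_bot_iff_forall]
    intro k hk
    obtain ⟨g, rfl⟩ := QuotientGroup.mk_surjective k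
    rw [QuotientGroup.eq_one_iff]
    apply mem_center_of_fixes Q hQ h3
    intro P
    have hp : P ∈ MulAction.fixedPoints N (SPt Q) := by
      rw [hfix]
      trivial
    exact hp ⟨g, (hmem g).mpr hk⟩
  · right
    have h1 := (omegaIwasawa Q hQ h3).commutator_le N hfix
    rw [hperf, top_le_iff] at h1
    rw [eq_top_iff]
    intro k _
    obtain ⟨g, rfl⟩ := QuotientGroup.mk_surjective k
    rw [← hmem, h1]
    trivial

end

end Cfsg.Agent.H49
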