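import Mathlib
import Cfsg.Agent.H49.OmegaSimple
import Cfsg.Agent.H49.SumForm
import Cfsg.Agent.H49.Plus
import Cfsg.Agent.H49.MinusForm

set_option autoImplicit false
set_option linter.unusedSectionVars false

/-! Helper lemmas (helper49): the standard forms have Witt index at least three. -/

namespace Cfsg.Agent.H49

open Module Matrix

section
variable {ι₁ ι₂ : Type} [Fintype ι₁] [DecidableEq ι₁] [Fintype ι₂] [DecidableEq ι₂]
  {F : Type*} [Field F]

/-- Extension by zero on the right summand. -/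
def extLeft (ι₁ ι₂ : Type) (F : Type*) [Field F] : (ι₁ → F) →ₗ[F] (ι₁ ⊕ ι₂ → F) where
  toFun v := Sum.elim v 0
  map_add' v w := by
    funext k
    rcases k with i | j <;> simp
  map_smul' c v := by
    funext k
    rcases k with i | j <;> simp

/-- Extension by zero on the left summand. -/
def extRight (ι₁ ι₂ : Type) (F : Type*) [Field F] : (ι₂ → F) →ₗ[F] (ι₁ ⊕ ι₂ → F) where
  toFun v := Sum.elim 0 v
  map_add' v w := by
    funext k
    rcases k with i | j <;> simp
  map_smul' c v := by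
    funext k
    rcases k with i | j <;> simp

theorem extLeft_injective : Function.Injective (extLeft ι₁ ι₂ F) := by
  intro v w h
  have := congrArg (fun x => x ∘ Sum.inl) h
  simpa [extLeft] using this

theorem extRight_injective : Function.Injective (extRight ι₁ ι₂ F) := by
  intro v w h
  have := congrArg (fun x => x ∘ Sum.inr) h
  simpa [extRight] using this

theorem hasTS3_sumQ_left (Q₁ : QuadraticForm F (ι₁ → F)) (Q₂ : QuadraticForm F (ι₂ → F))
    (h : HasTS3 Q₁) : HasTS3 (sumQ Q₁ Q₂) := by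
  obtain ⟨U, hU, dU⟩ := h
  refine ⟨U.map (extLeft ι₁ ι₂ F), ?_, ?_⟩
  · intro x hx
    obtain ⟨u, hu, rfl⟩ := Submodule.mem_map.mp hx
    show sumQ Q₁ Q₂ (Sum.elim u 0) = 0
    rw [sumQ_apply, Sum.elim_comp_inl, Sum.elim_comp_inr, hU u hu, QuadraticMap.map_zero,
      add_zero]
  · rw [← (Submodule.equivMapOfInjective _ extLeft_injective U).finrank_eq]
    exact dU

theorem hasTS3_sumQ_right (Q₁ : QuadraticForm F (ι₁ → F)) (Q₂ : QuadraticForm F (ι₂ → F))
    (h : HasTS3 Q₂) : HasTS3 (sumQ Q₁ Q₂) := by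
  obtain ⟨U, hU, dU⟩ := h
  refine ⟨U.map (extRight ι₁ ι₂ F), ?_, ?_⟩
  · intro x hx
    obtain ⟨u, hu, rfl⟩ := Submodule.mem_map.mp hx
    show sumQ Q₁ Q₂ (Sum.elim 0 u) = 0
    rw [sumQ_apply, Sum.elim_comp_inl, Sum.elim_comp_inr, hU u hu, QuadraticMap.map_zero,
      add_zero]
  · rw [← (Submodule.equivMapOfInjective _ extRight_injective U).finrank_eq]
    exact dU

end

section
variable {F : Type*} [Field F]

theorem hasTS3_QP (m : ℕ) (hm : 3 ≤ m) : HasTS3 (QP m F) :=
  ⟨U0 m F, U0_ts m F, by rw [finrank_U0]; exact hm⟩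

/-- The unary form `x²`. -/
def sqQ (F : Type*) [Field F] : QuadraticForm F (Unit → F) where
  toFun := fun v => v () ^ 2
  toFun_smul := by
    intro c z
    simp only [Pi.smul_apply, smul_eq_mul]
    ring
  exists_companion' := ⟨LinearMap.mk₂ F (fun v w : Unit → F => 2 * v () * w ())
    (by intro a b c; simp only [Pi.add_apply]; ring)
    (by intro c a b; simp only [Pi.smul_apply, smul_eq_mul]; ring)
    (by intro a b c; simp only [Pi.add_apply]; ring)
    (by intro c a b; simp only [Pi.smul_apply, smul_eq_mul]; ring), fun x y => by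
    rw [LinearMap.mk₂_apply]
    simp only [Pi.add_apply]
    ring⟩

theorem sqQ_apply (v : Unit → F) : sqQ F v = v () ^ 2 := rfl

theorem polar_sqQ (x y : Unit → F) :
    QuadraticMap.polar (⇑(sqQ F)) x y = 2 * x () * y () := by
  simp only [QuadraticMap.polar, sqQ_apply, Pi.add_apply]
  ring

theorem sqQ_nondeg (h2 : (2 : F) ≠ 0) : (QuadraticMap.polarBilin (sqQ F)).Nondegenerate := by
  have key : ∀ x : Unit → F, (∀ y, QuadraticMap.polar (⇑(sqQ F)) x y = 0) → x = 0 := by
    intro x hx
    have h0 := hx (fun _ => 1)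
    rw [polar_sqQ] at h0
    funext k
    have : x () = 0 := by
      rcases mul_eq_zero.mp h0 with h | h
      · rcases mul_eq_zero.mp h with h' | h'
        · exact absurd h' h2
        · exact h'
      · exact absurd h one_ne_zero
    exact this
  constructor
  · intro x hx
    exact key x hx
  · intro y hy
    apply key y
    intro x
    rw [QuadraticMap.polar_comm]
    exact hy x

/-- The odd-dimensional standard form as a bundled quadratic form. -/
def QOdd (m : ℕ) (F : Type*) [Field F] : QuadraticForm F (Unit ⊕ (Fin m ⊕ Fin m) → F) :=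
  sumQ (sqQ F) (QP m F)

theorem QOdd_coe (m : ℕ) : ⇑(QOdd m F) = Cfsg.quadFormOdd m F := rfl

theorem QOdd_nondeg (m : ℕ) (h2 : (2 : F) ≠ 0) :
    (QuadraticMap.polarBilin (QOdd m F)).Nondegenerate :=
  sumQ_nondeg (sqQ_nondeg h2) (QP_nondeg m F)

theorem hasTS3_QOdd (m : ℕ) (hm : 3 ≤ m) : HasTS3 (QOdd m F) :=
  hasTS3_sumQ_right _ _ (hasTS3_QP m hm)

theorem hasTS3_QMin (k : ℕ) (hk : 3 ≤ k) (a b : F) : HasTS3 (QMin k F a b) :=
  hasTS3_sumQ_left _ _ (hasTS3_QP k hk)

/-- An anisotropic binary form `z₁² + a z₁ z₂ + b z₂²` over a finite field has non-zero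
discriminant. -/
theorem disc_ne_zero_of_aniso [Fintype F] (a b : F)
    (hab : ∀ z₁ z₂ : F, z₁ ^ 2 + a * z₁ * z₂ + b * z₂ ^ 2 = 0 → z₁ = 0 ∧ z₂ = 0) :
    a ^ 2 - 4 * b ≠ 0 := by
  intro h
  by_cases h2 : (2 : F) = 0
  · have h4 : (4 : F) = 0 := by
      have : (4 : F) = 2 * 2 := by norm_num
      rw [this, h2, mul_zero]
    have ha : a = 0 := by
      rw [h4, zero_mul, sub_zero] at h
      exact pow_eq_zero_iff (n := 2) (by norm_num) |>.mp h
    obtain ⟨d, hd⟩ := exists_sqrt_char_two h2 b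
    have := (hab d 1 (by rw [ha, ← hd]; linear_combination d ^ 2 * h2)).2
    exact one_ne_zero this
  · have := (hab a (-2) (by linear_combination -h)).2
    exact h2 (neg_eq_zero.mp this)

end

end Cfsg.Agent.H49
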