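import Mathlib
import Cfsg.Agent.H49.RankParity
import Cfsg.Agent.H49.ClassTwo
import Cfsg.Agent.H49.Eich1
import Cfsg.Agent.H49.SimpleForms

set_option autoImplicit false
set_option linter.unusedSectionVars false

/-! Helper lemmas (helper49): characteristic two, classes of involutions of `O` inside `Ω`;
Witt index of the minus-type form. -/

namespace Cfsg.Agent.H49

open Module Matrix

section
variable {ι : Type} [Fintype ι] [DecidableEq ι] {F : Type*} [Field F]

/-- A subspace has subspaces of every smaller dimension. -/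
theorem exists_le_finrank_eq' {V : Type*} [AddCommGroup V] [Module F V] [FiniteDimensional F V]
    (U : Submodule F V) (n : ℕ) (hn : n ≤ finrank F U) :
    ∃ U₁ : Submodule F V, U₁ ≤ U ∧ finrank F U₁ = n := by
  obtain ⟨b, -⟩ : ∃ b : Basis (Fin (finrank F U)) F U, b = Module.finBasis F U := ⟨_, rfl⟩
  refine ⟨Submodule.span F (Set.range (fun i : Fin n => (b (Fin.castLE hn i) : V))), ?_, ?_⟩
  · rw [Submodule.span_le]
    rintro _ ⟨i, rfl⟩
    exact (b _).2
  · have h1 : LinearIndependent F (fun i => (b i : V)) :=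
      b.linearIndependent.map' U.subtype (Submodule.ker_subtype U)
    have hli : LinearIndependent F (fun i : Fin n => (b (Fin.castLE hn i) : V)) :=
      h1.comp _ (Fin.castLE_injective hn)
    rw [finrank_span_eq_card hli, Fintype.card_fin]

/-- If the singular vectors orthogonal to a totally singular subspace `U₀` all lie in `U₀`, then
no totally singular subspace is bigger than `U₀`. -/
theorem ts_finrank_le_of_aniso (Q : QuadraticForm F (ι → F))
    (hQ : (QuadraticMap.polarBilin Q).Nondegenerate) (U₀ : Submodule F (ι → F))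
    (hU₀ : IsTS Q U₀)
    (hmax : ∀ v : ι → F, Q v = 0 → (∀ u ∈ U₀, QuadraticMap.polar (⇑Q) v u = 0) → v ∈ U₀)
    (U : Submodule F (ι → F)) (hU : IsTS Q U) : finrank F U ≤ finrank F U₀ := by
  by_contra hlt
  push Not at hlt
  obtain ⟨U₁, hU₁, dU₁⟩ := exists_le_finrank_eq' U (finrank F U₀) hlt.le
  have hU₁ts : IsTS Q U₁ := fun u hu => hU u (hU₁ hu)
  obtain ⟨g, hg⟩ := exists_isometry_map_ts Q hQ (finrank F U₁) U₁ U₀ hU₁ts hU₀ dU₁
    (Nat.sub_le _ _)
  have hU' := hU.map_iso g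
  have hle : U.map (Matrix.mulVecLin ((g : Matrix.GeneralLinearGroup ι F) : Matrix ι ι F))
      ≤ U₀ := by
    intro v hv
    apply hmax v (hU' v hv)
    intro u hu
    apply hU'.polar hv
    rw [← hg] at hu
    exact Submodule.map_mono hU₁ hu
  have := Submodule.finrank_mono hle
  rw [finrank_map_iso] at this
  omega

theorem IsTS.finrank_le_half {Q : QuadraticForm F (ι → F)}
    (hQ : (QuadraticMap.polarBilin Q).Nondegenerate) {m : ℕ} (hV : finrank F (ι → F) = 2 * m)
    {U : Submodule F (ι → F)} (hU : IsTS Q U) : finrank F U ≤ m := by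
  have h1 := Submodule.finrank_mono hU.le_orthogonal
  have h2 := LinearMap.BilinForm.finrank_orthogonal hQ U
  have h3 : finrank F U ≤ finrank F (ι → F) := Submodule.finrank_le U
  omega

theorem act_sub_fix_two (Q : QuadraticForm F (ι → F)) (h2 : (2 : F) = 0)
    (t : ↥(Cfsg.isometryGroup F (⇑Q))) (ht : t * t = 1) (x : ι → F) :
    act t (act t x - x) = act t x - x := by
  rw [act_sub, ← act_mul, ht, act_one]
  rw [sub_eq_sub_iff_add_eq_add, ← two_smul F, ← two_smul F (act t x), h2, zero_smul, zero_smul]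

theorem rank_le_finrank_fixSub (Q : QuadraticForm F (ι → F)) (h2 : (2 : F) = 0)
    (t : ↥(Cfsg.isometryGroup F (⇑Q))) (ht : t * t = 1) :
    (((t : Matrix.GeneralLinearGroup ι F) : Matrix ι ι F) - 1).rank
      ≤ finrank F (Cfsg.Agent.H7.fixSub Q t) := by
  rw [Matrix.rank]
  apply Submodule.finrank_mono
  rintro _ ⟨x, rfl⟩
  rw [Cfsg.Agent.H7.mem_fixSub]
  have := act_sub_fix_two Q h2 t ht x
  rw [Matrix.mulVecLin_apply, Matrix.sub_mulVec, Matrix.one_mulVec]
  exact this

theorem le_finrank_fixSub (Q : QuadraticForm F (ι → F)) (h2 : (2 : F) = 0) {m : ℕ}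
    (hV : finrank F (ι → F) = 2 * m)
    (t : ↥(Cfsg.isometryGroup F (⇑Q))) (ht : t * t = 1) :
    m ≤ finrank F (Cfsg.Agent.H7.fixSub Q t) := by
  have h1 := rank_sub_one_add_finrank_fix Q t
  have h3 := rank_le_finrank_fixSub Q h2 t ht
  omega

/-- If `t` fixes a nonsingular vector, then its `O`-class does not split in `Ω`. -/
theorem omega_conj_of_fixed_nonsingular [Fintype F] (Q : QuadraticForm F (ι → F))
    (h2 : (2 : F) = 0) (hQ : (QuadraticMap.polarBilin Q).Nondegenerate) {m : ℕ}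
    (hV : finrank F (ι → F) = 2 * m) (hex : Fintype.card F ≠ 2 ∨ m ≠ 2)
    (t s g : ↥(Cfsg.isometryGroup F (⇑Q))) (hg : g * t * g⁻¹ = s) (x : ι → F) (hx : Q x ≠ 0)
    (hfix : act t x = x) :
    ∃ g' ∈ commutator ↥(Cfsg.isometryGroup F (⇑Q)), g' * t * g'⁻¹ = s := by
  by_cases hgΩ : g ∈ commutator ↥(Cfsg.isometryGroup F (⇑Q))
  · exact ⟨g, hgΩ, hg⟩
  · have hc : t * reflG Q x * t⁻¹ = reflG Q x := by
      rw [conj_reflG]
      have : ((t : Matrix.GeneralLinearGroup ι F) : Matrix ι ι F) *ᵥ x = x := hfix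
      rw [this]
    have hcomm : t * reflG Q x = reflG Q x * t := by
      have := congrArg (· * t) hc
      simpa using this
    rcases mem_commutator_or_two Q h2 hQ hV hex g⁻¹ with h | h
    · exact absurd ((Subgroup.inv_mem_iff _).mp h) hgΩ
    · have h' := h (reflG Q x) ⟨x, hx, rfl⟩
      refine ⟨(reflG Q x * g⁻¹)⁻¹, (Subgroup.inv_mem_iff _).mpr h', ?_⟩
      rw [← hg]
      have hc' : (reflG Q x)⁻¹ * t * reflG Q x = t := by
        rw [mul_assoc, hcomm, ← mul_assoc, inv_mul_cancel, one_mul]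
      calc (reflG Q x * g⁻¹)⁻¹ * t * (reflG Q x * g⁻¹)⁻¹⁻¹
          = g * ((reflG Q x)⁻¹ * t * reflG Q x) * g⁻¹ := by group
        _ = g * t * g⁻¹ := by rw [hc']

theorem exists_fixed_nonsingular_of_not_ts (Q : QuadraticForm F (ι → F))
    (t : ↥(Cfsg.isometryGroup F (⇑Q))) (h : ¬ IsTS Q (Cfsg.Agent.H7.fixSub Q t)) :
    ∃ x : ι → F, Q x ≠ 0 ∧ act t x = x := by
  unfold IsTS at h
  push Not at h
  obtain ⟨x, hx, hQx⟩ := h
  exact ⟨x, hQx, (Cfsg.Agent.H7.mem_fixSub Q t x).mp hx⟩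

theorem exists_fixed_nonsingular (Q : QuadraticForm F (ι → F)) (h2 : (2 : F) = 0)
    (hQ : (QuadraticMap.polarBilin Q).Nondegenerate) {m : ℕ} (hV : finrank F (ι → F) = 2 * m)
    (t : ↥(Cfsg.isometryGroup F (⇑Q))) (ht : t * t = 1)
    (h : ¬ ((((t : Matrix.GeneralLinearGroup ι F) : Matrix ι ι F) - 1).rank = m ∧
      ∀ v : ι → F, Q (v + ((t : Matrix.GeneralLinearGroup ι F) : Matrix ι ι F) *ᵥ v) = 0)) :
    ∃ x : ι → F, Q x ≠ 0 ∧ act t x = x := by
  by_cases hr : (((t : Matrix.GeneralLinearGroup ι F) : Matrix ι ι F) - 1).rank = m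
  · have h' : ¬ ∀ v : ι → F,
        Q (v + ((t : Matrix.GeneralLinearGroup ι F) : Matrix ι ι F) *ᵥ v) = 0 :=
      fun hh => h ⟨hr, hh⟩
    push Not at h'
    obtain ⟨v, hv⟩ := h'
    refine ⟨v + act t v, hv, ?_⟩
    rw [act_add, ← act_mul, ht, act_one, add_comm]
  · have h1 := rank_sub_one_add_finrank_fix Q t
    have h3 := rank_le_finrank_fixSub Q h2 t ht
    rw [hV] at h1
    apply exists_fixed_nonsingular_of_not_ts
    intro hts
    have := hts.finrank_le_half hQ hV
    omega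

/-- The image of `s - 1` when `s = g t g⁻¹`. -/
theorem range_conj_sub_one {Qf : (ι → F) → F} (t s g : ↥(Cfsg.isometryGroup F Qf))
    (hg : g * t * g⁻¹ = s) :
    LinearMap.range (Matrix.toLin' (((s : Matrix.GeneralLinearGroup ι F) : Matrix ι ι F) - 1))
      = (LinearMap.range (Matrix.toLin'
          (((t : Matrix.GeneralLinearGroup ι F) : Matrix ι ι F) - 1))).map
        (Matrix.mulVecLin ((g : Matrix.GeneralLinearGroup ι F) : Matrix ι ι F)) := by
  have hgt : ∀ x : ι → F, act s (act g x) = act g (act t x) := by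
    intro x
    rw [← act_mul, ← act_mul, ← hg]
    congr 1
    group
  have e1 : ∀ (k : ↥(Cfsg.isometryGroup F Qf)) (x : ι → F),
      Matrix.toLin' (((k : Matrix.GeneralLinearGroup ι F) : Matrix ι ι F) - 1) x
        = act k x - x := by
    intro k x
    rw [Matrix.toLin'_apply, Matrix.sub_mulVec, Matrix.one_mulVec]
    rfl
  apply le_antisymm
  · rintro _ ⟨y, rfl⟩
    refine Submodule.mem_map.mpr ⟨act t (act g⁻¹ y) - act g⁻¹ y, ⟨act g⁻¹ y, e1 t _⟩, ?_⟩
    rw [Matrix.mulVecLin_apply, e1]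
    show act g (act t (act g⁻¹ y) - act g⁻¹ y) = act s y - y
    rw [act_sub, ← hgt, act_act_inv]
  · rintro _ ⟨_, ⟨y, rfl⟩, rfl⟩
    refine ⟨act g y, ?_⟩
    rw [e1, e1, Matrix.mulVecLin_apply]
    show act s (act g y) - act g y = act g (act t y - y)
    rw [act_sub, hgt]

/-- Characteristic two: when `t - 1` has rank `m` with totally singular image, the
`Ω`-classes inside the `O`-class of `t` are told apart by the parity of `dim ([V,t] ∩ [V,s])`. -/
theorem omega_conj_iff_even_inf [Fintype F] (Q : QuadraticForm F (ι → F))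
    (h2 : (2 : F) = 0) (hQ : (QuadraticMap.polarBilin Q).Nondegenerate) {m : ℕ}
    (hV : finrank F (ι → F) = 2 * m) (hex : Fintype.card F ≠ 2 ∨ m ≠ 2) (hm : 0 < m)
    (t s : ↥(Cfsg.isometryGroup F (⇑Q)))
    (htO : t ∈ commutator ↥(Cfsg.isometryGroup F (⇑Q))) (hconj : IsConj t s)
    (hr : (((t : Matrix.GeneralLinearGroup ι F) : Matrix ι ι F) - 1).rank = m)
    (hts : ∀ v : ι → F, Q (v + ((t : Matrix.GeneralLinearGroup ι F) : Matrix ι ι F) *ᵥ v) = 0) :
    (∃ g ∈ commutator ↥(Cfsg.isometryGroup F (⇑Q)), g * t * g⁻¹ = s) ↔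
      Even (finrank F ↥(LinearMap.range (Matrix.toLin'
          (((t : Matrix.GeneralLinearGroup ι F) : Matrix ι ι F) - 1))
        ⊓ LinearMap.range (Matrix.toLin'
          (((s : Matrix.GeneralLinearGroup ι F) : Matrix ι ι F) - 1)))) := by
  obtain ⟨U, hUdef⟩ : ∃ U : Submodule F (ι → F), U = LinearMap.range (Matrix.toLin'
      (((t : Matrix.GeneralLinearGroup ι F) : Matrix ι ι F) - 1)) := ⟨_, rfl⟩
  rw [← hUdef]
  have hU : IsTS Q U := by
    intro u hu
    rw [hUdef] at hu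
    obtain ⟨y, rfl⟩ := hu
    rw [Matrix.toLin'_apply, Matrix.sub_mulVec, Matrix.one_mulVec]
    have e : ((t : Matrix.GeneralLinearGroup ι F) : Matrix ι ι F) *ᵥ y - y
        = y + ((t : Matrix.GeneralLinearGroup ι F) : Matrix ι ι F) *ᵥ y := by
      rw [sub_eq_iff_eq_add, add_comm y, add_assoc, ← two_smul F y, h2, zero_smul, add_zero]
    rw [e]
    exact hts y
  have dU : finrank F U = m := by
    rw [hUdef, ← hr, Matrix.rank, Matrix.toLin'_apply']
  have hmeven : Even m := by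
    rw [← hr]
    exact (mem_commutator_iff_even_rank_two Q h2 hQ hV hex hm t).mp htO
  have key : ∀ g : ↥(Cfsg.isometryGroup F (⇑Q)), g * t * g⁻¹ = s →
      (g ∈ commutator ↥(Cfsg.isometryGroup F (⇑Q)) ↔
        Even (finrank F ↥(U ⊓ LinearMap.range (Matrix.toLin'
          (((s : Matrix.GeneralLinearGroup ι F) : Matrix ι ι F) - 1))))) := by
    intro g hg
    rw [range_conj_sub_one t s g hg, ← hUdef,
      ← even_iff_mem_commutator_two Q h2 hQ hV hex U hU dU g]
    have hle : finrank F ↥(U ⊓ U.map (Matrix.mulVecLin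
        ((g : Matrix.GeneralLinearGroup ι F) : Matrix ι ι F))) ≤ m := by
      rw [← dU]
      exact Submodule.finrank_mono inf_le_left
    rw [Nat.even_sub hle]
    exact ⟨fun h => h.mp hmeven, fun h => ⟨fun _ => h, fun _ => hmeven⟩⟩
  constructor
  · rintro ⟨g, hgΩ, hg⟩
    exact (key g hg).mp hgΩ
  · intro hev
    obtain ⟨g, hg⟩ := isConj_iff.mp hconj
    exact ⟨g, (key g hg).mpr hev, hg⟩

end

section minus
variable {F : Type*} [Field F]

/-- The minus-type form has Witt index `k`: no totally singular subspace of larger dimension. -/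
theorem QMin_ts_le (k : ℕ) (a b : F)
    (hab : ∀ z₁ z₂ : F, z₁ ^ 2 + a * z₁ * z₂ + b * z₂ ^ 2 = 0 → z₁ = 0 ∧ z₂ = 0)
    (hd : a ^ 2 - 4 * b ≠ 0)
    (U : Submodule F ((Fin k ⊕ Fin k) ⊕ Fin 2 → F)) (hU : IsTS (QMin k F a b) U) :
    finrank F U ≤ k := by
  have h0 : IsTS (QMin k F a b) ((U0 k F).map (extLeft (Fin k ⊕ Fin k) (Fin 2) F)) := by
    intro x hx
    obtain ⟨u, hu, rfl⟩ := Submodule.mem_map.mp hx
    show sumQ (QP k F) (binQ a b) (Sum.elim u 0) = 0
    rw [sumQ_apply, Sum.elim_comp_inl, Sum.elim_comp_inr, U0_ts k F u hu,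
      QuadraticMap.map_zero, add_zero]
  have d0 : finrank F ((U0 k F).map (extLeft (Fin k ⊕ Fin k) (Fin 2) F)) = k := by
    rw [← (Submodule.equivMapOfInjective _ extLeft_injective (U0 k F)).finrank_eq, finrank_U0]
  refine le_trans ?_ d0.le
  apply ts_finrank_le_of_aniso (QMin k F a b) (QMin_nondeg k a b hd) _ h0 _ U hU
  intro v hv hperp
  have h1 : ∀ i : Fin k, v (Sum.inl (Sum.inr i)) = 0 := by
    intro i
    have hmem : (Pi.single (Sum.inl i) 1 : Fin k ⊕ Fin k → F) ∈ U0 k F := by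
      rw [mem_U0]
      intro j
      simp
    have := hperp (extLeft (Fin k ⊕ Fin k) (Fin 2) F (Pi.single (Sum.inl i) 1))
      (Submodule.mem_map_of_mem hmem)
    have e : QuadraticMap.polar (⇑(QMin k F a b)) v
        (Sum.elim (Pi.single (Sum.inl i) 1) 0) = v (Sum.inl (Sum.inr i)) := by
      show QuadraticMap.polar (⇑(sumQ (QP k F) (binQ a b))) v _ = _
      rw [polar_sumQ, Sum.elim_comp_inl, Sum.elim_comp_inr, QuadraticMap.polar_zero_right,
        add_zero, QuadraticMap.polar_comm, polar_QP_single_inl]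
      rfl
    rw [← e]
    exact this
  have hQv : binQ a b (v ∘ Sum.inr) = 0 := by
    have e : QMin k F a b v = QP k F (v ∘ Sum.inl) + binQ a b (v ∘ Sum.inr) := rfl
    rw [e, QP_apply] at hv
    rw [← hv]
    symm
    rw [add_eq_right]
    apply Finset.sum_eq_zero
    intro i _
    show v (Sum.inl (Sum.inl i)) * v (Sum.inl (Sum.inr i)) = 0
    rw [h1 i, mul_zero]
  rw [binQ_apply] at hQv
  obtain ⟨hz0, hz1⟩ := hab _ _ hQv
  refine Submodule.mem_map.mpr ⟨v ∘ Sum.inl, mem_U0.mpr h1, ?_⟩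
  funext j
  rcases j with j | j
  · rfl
  · show (0 : F) = v (Sum.inr j)
    fin_cases j
    · exact hz0.symm
    · exact hz1.symm

end minus

end Cfsg.Agent.H49
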