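import Mathlib

set_option autoImplicit false
set_option linter.unusedSectionVars false
set_option linter.unusedSimpArgs false
set_option linter.unusedVariables false
set_option linter.style.haveILetI false

/-! Helper lemmas (helper49): the automorphism group of a finite field of order `p ^ f` is cyclic
of order `f`, generated by the Frobenius map. -/

namespace Cfsg.Agent.H49

open Polynomial

theorem fin_domain_pow_card_le {E : Type*} [CommRing E] [IsDomain E] [Finite E] (n : ℕ)
    (hn : 1 < n) (h : ∀ x : E, x ^ n = x) : Nat.card E ≤ n := by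
  classical
  have := Fintype.ofFinite E
  have hdeg : (X ^ n - X : E[X]).natDegree = n := by
    rw [natDegree_sub_eq_left_of_natDegree_lt, natDegree_X_pow]
    rw [natDegree_X_pow, natDegree_X]
    exact hn
  have hne : (X ^ n - X : E[X]) ≠ 0 := by
    apply ne_zero_of_natDegree_gt (n := 0)
    rw [hdeg]
    omega
  have hsub : (Finset.univ : Finset E).val ⊆ (X ^ n - X : E[X]).roots := by
    intro x _
    rw [mem_roots hne]
    simp [h x]
  have hle := card_le_degree_of_subset_roots hsub
  rw [hdeg, Finset.card_univ] at hle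
  rw [Nat.card_eq_fintype_card]
  exact hle

theorem ringHom_eq_frob_pow {E : Type*} [CommRing E] [IsDomain E] [Finite E] (p : ℕ)
    [hp : Fact p.Prime] [CharP E p] (σ : E →+* E) : ∃ n : ℕ, ∀ x, σ x = x ^ (p ^ n) := by
  classical
  letI := Fintype.ofFinite E
  letI : Field E := Fintype.fieldOfDomain E
  letI : Algebra (ZMod p) E := ZMod.algebra E p
  let σ' : E →ₐ[ZMod p] E :=
    { σ with
      commutes' := fun x =>
        RingHom.congr_fun (Subsingleton.elim (σ.comp (algebraMap (ZMod p) E))
          (algebraMap (ZMod p) E)) x }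
  obtain ⟨n, hn⟩ := (FiniteField.bijective_frobeniusAlgHom_pow (ZMod p) E).2 σ'
  refine ⟨n.1, fun x => ?_⟩
  have e := DFunLike.congr_fun hn x
  simp only [AlgHom.coe_pow, FiniteField.coe_frobeniusAlgHom, pow_iterate, ZMod.card] at e
  exact e.symm

theorem charP_of_card_pow {F : Type*} [Field F] [Fintype F] {p f : ℕ} [Fact p.Prime]
    (hF : Fintype.card F = p ^ f) : CharP F p := by
  have hp := (Fact.out : p.Prime)
  obtain ⟨p', hp'⟩ := CharP.exists F
  haveI := hp'
  have hp'prime : p'.Prime := CharP.char_is_prime F p'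
  obtain ⟨m, -, hm2⟩ := FiniteField.card F p'
  have h1 : p' ∣ p ^ f := by
    rw [← hF, hm2]
    exact dvd_pow_self _ m.ne_zero
  have h2 := (Nat.prime_dvd_prime_iff_eq hp'prime hp).1 (hp'prime.dvd_of_dvd_pow h1)
  subst h2
  exact hp'

/-- The automorphism group of a finite field of order `p ^ f` is generated by the Frobenius
map, which has order `f`. -/
theorem ringAut_frob {F : Type*} [Field F] [Fintype F] (p f : ℕ) [Fact p.Prime] [CharP F p]
    (hf : 1 ≤ f) (hF : Fintype.card F = p ^ f) :
    (∀ σ : RingAut F, σ ∈ Subgroup.zpowers (frobeniusEquiv F p : RingAut F)) ∧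
      orderOf (frobeniusEquiv F p : RingAut F) = f ∧
      ∀ (n : ℕ) (x : F), ((frobeniusEquiv F p : RingAut F) ^ n) x = x ^ p ^ n := by
  have hp := (Fact.out : p.Prime)
  obtain ⟨frob, hfr⟩ : ∃ fr : RingAut F, fr = frobeniusEquiv F p := ⟨_, rfl⟩
  rw [← hfr]
  have hfrob : ∀ (n : ℕ) (x : F), (frob ^ n) x = x ^ p ^ n := by
    intro n
    induction n with
    | zero => intro x; simp
    | succ k ih =>
      intro x
      rw [pow_succ', RingAut.mul_apply, ih, pow_succ, pow_mul, hfr]
      rfl
  have hall : ∀ σ : RingAut F, σ ∈ Subgroup.zpowers frob := by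
    intro σ
    obtain ⟨n, hn⟩ := ringHom_eq_frob_pow p ((σ : F ≃+* F) : F →+* F)
    rw [Subgroup.mem_zpowers_iff]
    refine ⟨(n : ℤ), ?_⟩
    rw [zpow_natCast]
    apply RingEquiv.ext
    intro x
    rw [hfrob]
    exact (hn x).symm
  have hord : orderOf frob = f := by
    rw [orderOf_eq_iff (by omega)]
    constructor
    · apply RingEquiv.ext
      intro x
      rw [hfrob, ← hF, FiniteField.pow_card]
      rfl
    · intro m hm hm0 h
      have hx : ∀ x : F, x ^ p ^ m = x := by
        intro x
        rw [← hfrob, h]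
        rfl
      have h1 : 1 < p ^ m := Nat.one_lt_pow hm0.ne' hp.one_lt
      have := fin_domain_pow_card_le (p ^ m) h1 hx
      rw [Nat.card_eq_fintype_card, hF] at this
      have := Nat.pow_lt_pow_right hp.one_lt hm
      omega
  exact ⟨hall, hord, hfrob⟩

theorem ringAut_card {F : Type*} [Field F] [Fintype F] (p f : ℕ) [Fact p.Prime]
    (hf : 1 ≤ f) (hF : Fintype.card F = p ^ f) :
    IsCyclic (RingAut F) ∧ Nat.card (RingAut F) = f := by
  haveI := charP_of_card_pow hF
  obtain ⟨hall, hord, -⟩ := ringAut_frob (F := F) p f hf hF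
  refine ⟨⟨⟨_, hall⟩⟩, ?_⟩
  rw [← orderOf_eq_card_of_forall_mem_zpowers hall, hord]

end Cfsg.Agent.H49
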