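import Mathlib
import Cfsg.Prelude.Def_LieTypeDatum
import Cfsg.Agent.H49.OmegaSimple

set_option autoImplicit false
set_option linter.unusedSectionVars false

/-! Helper lemmas (helper49): the automorphisms of `PΩ(Q)` induced by similarities of `Q`; the
subgroups `pgoAut`, `poAut`, `psoAut`, `Inn` of `Aut(PΩ)` as images of subgroups of the similarity
group under one homomorphism `cHom`, whose kernel consists of scalars. -/

namespace Cfsg.Agent.H49

open Module Matrix

section general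
variable {G : Type*} [Group G]

/-- Restriction of an automorphism to the commutator subgroup. -/
def restrictComm (e : G ≃* G) : ↥(commutator G) ≃* ↥(commutator G) :=
  (e.subgroupMap (commutator G)).trans
    (MulEquiv.subgroupCongr (Subgroup.characteristic_iff_map_eq.mp inferInstance e))

theorem restrictComm_coe (e : G ≃* G) (s : ↥(commutator G)) :
    ((restrictComm e s : ↥(commutator G)) : G) = e s := rfl

/-- The automorphism induced on the quotient by the centre. -/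
def quotCenter (e : G ≃* G) : G ⧸ Subgroup.center G ≃* G ⧸ Subgroup.center G :=
  QuotientGroup.congr (Subgroup.center G) (Subgroup.center G) e
    (Subgroup.characteristic_iff_map_eq.mp inferInstance e)

theorem quotCenter_mk (e : G ≃* G) (x : G) :
    quotCenter e (QuotientGroup.mk x) = QuotientGroup.mk (e x) :=
  QuotientGroup.congr_mk _ _ e _ x

theorem commutator_le_ker_of_comm {A : Type*} [Group A] (f : G →* A)
    (hcomm : ∀ x y : G, f x * f y = f y * f x) : commutator G ≤ f.ker := by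
  rw [commutator_eq_closure, Subgroup.closure_le]
  rintro _ ⟨a, b, rfl⟩
  rw [SetLike.mem_coe, MonoidHom.mem_ker, map_commutatorElement,
    commutatorElement_eq_one_iff_commute]
  exact hcomm a b

/-- An automorphism of a perfect group inducing the identity modulo the centre is trivial. -/
theorem eq_of_mk_eq_of_perfect (hperf : commutator G = ⊤) (e : G ≃* G)
    (h : ∀ s : G, s⁻¹ * e s ∈ Subgroup.center G) (s : G) : e s = s := by
  obtain ⟨ψ, hψ⟩ : ∃ ψ : G →* ↥(Subgroup.center G), ∀ s, (ψ s : G) = s⁻¹ * e s := by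
    refine ⟨MonoidHom.mk' (fun s => ⟨s⁻¹ * e s, h s⟩) ?_, fun s => rfl⟩
    intro a b
    apply Subtype.ext
    show (a * b)⁻¹ * e (a * b) = (a⁻¹ * e a) * (b⁻¹ * e b)
    have hc := Subgroup.mem_center_iff.mp (h a) b⁻¹
    rw [map_mul, _root_.mul_inv_rev]
    calc b⁻¹ * a⁻¹ * (e a * e b) = (b⁻¹ * (a⁻¹ * e a)) * e b := by group
      _ = (a⁻¹ * e a * b⁻¹) * e b := by rw [hc]
      _ = a⁻¹ * e a * (b⁻¹ * e b) := by group
  have hk : commutator G ≤ ψ.ker := by
    apply commutator_le_ker_of_comm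
    intro x y
    apply Subtype.ext
    rw [Subgroup.coe_mul, Subgroup.coe_mul]
    exact (Subgroup.mem_center_iff.mp (ψ x).2 (ψ y)).symm
  have hs : s ∈ ψ.ker := hk (by rw [hperf]; exact Subgroup.mem_top s)
  have h1 : s⁻¹ * e s = 1 := by
    rw [← hψ]
    exact congrArg Subtype.val (MonoidHom.mem_ker.mp hs)
  exact (inv_mul_eq_one.mp h1).symm

end general

section
variable {ι : Type} [Fintype ι] [DecidableEq ι] {F : Type*} [Field F]

theorem isometryGroup_le_sim (Qf : (ι → F) → F) :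
    Cfsg.isometryGroup F Qf ≤ Cfsg.Geo.quadSimilarityGroup Qf := by
  intro g hg
  refine ⟨1, fun v => ?_⟩
  rw [Units.val_one, one_mul]
  exact mem_isometryGroup_iff.mp hg v

/-- Conjugation by a similarity preserves the isometry group. -/
theorem conj_mem_isometryGroup {Qf : (ι → F) → F} {g : Matrix.GeneralLinearGroup ι F}
    (hg : g ∈ Cfsg.Geo.quadSimilarityGroup Qf) {s : Matrix.GeneralLinearGroup ι F}
    (hs : s ∈ Cfsg.isometryGroup F Qf) : g * s * g⁻¹ ∈ Cfsg.isometryGroup F Qf := by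
  obtain ⟨c, hc⟩ := hg
  rw [mem_isometryGroup_iff] at hs ⊢
  intro u
  have e : ((g * s * g⁻¹ : Matrix.GeneralLinearGroup ι F) : Matrix ι ι F) *ᵥ u
      = (g : Matrix ι ι F) *ᵥ ((s : Matrix ι ι F) *ᵥ
        (((g⁻¹ : Matrix.GeneralLinearGroup ι F) : Matrix ι ι F) *ᵥ u)) := by
    rw [Units.val_mul, Units.val_mul, ← Matrix.mulVec_mulVec, ← Matrix.mulVec_mulVec]
  rw [e, hc, hs, ← hc, Matrix.mulVec_mulVec, ← Units.val_mul, mul_inv_cancel, Units.val_one,
    Matrix.one_mulVec]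

/-- Conjugation by a similarity, as an automorphism of the isometry group. -/
def simConj (Qf : (ι → F) → F) (g : ↥(Cfsg.Geo.quadSimilarityGroup Qf)) :
    ↥(Cfsg.isometryGroup F Qf) ≃* ↥(Cfsg.isometryGroup F Qf) where
  toFun s := ⟨g.1 * s.1 * g.1⁻¹, conj_mem_isometryGroup g.2 s.2⟩
  invFun s := ⟨g.1⁻¹ * s.1 * g.1, by
    have := conj_mem_isometryGroup (Subgroup.inv_mem _ g.2) s.2
    rwa [inv_inv] at this⟩
  left_inv s := by
    apply Subtype.ext
    show g.1⁻¹ * (g.1 * s.1 * g.1⁻¹) * g.1 = s.1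
    group
  right_inv s := by
    apply Subtype.ext
    show g.1 * (g.1⁻¹ * s.1 * g.1) * g.1⁻¹ = s.1
    group
  map_mul' s t := by
    apply Subtype.ext
    show g.1 * (s.1 * t.1) * g.1⁻¹ = (g.1 * s.1 * g.1⁻¹) * (g.1 * t.1 * g.1⁻¹)
    group

theorem simConj_coe (Qf : (ι → F) → F) (g : ↥(Cfsg.Geo.quadSimilarityGroup Qf))
    (s : ↥(Cfsg.isometryGroup F Qf)) :
    ((simConj Qf g s : ↥(Cfsg.isometryGroup F Qf)) : Matrix.GeneralLinearGroup ι F)
      = g.1 * s.1 * g.1⁻¹ := rfl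

/-- The automorphism of `PΩ` induced by a similarity. -/
def cAut (Qf : (ι → F) → F) (g : ↥(Cfsg.Geo.quadSimilarityGroup Qf)) :
    MulAut (Cfsg.POmega F Qf) :=
  quotCenter (restrictComm (simConj Qf g))

theorem cAut_mk (Qf : (ι → F) → F) (g : ↥(Cfsg.Geo.quadSimilarityGroup Qf))
    (s : ↥(Cfsg.Omega F Qf)) :
    cAut Qf g (QuotientGroup.mk s) = QuotientGroup.mk (restrictComm (simConj Qf g) s) :=
  quotCenter_mk _ s

theorem cAut_mul (Qf : (ι → F) → F) (g h : ↥(Cfsg.Geo.quadSimilarityGroup Qf)) :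
    cAut Qf (g * h) = cAut Qf g * cAut Qf h := by
  apply MulEquiv.ext
  intro x
  obtain ⟨s, rfl⟩ := QuotientGroup.mk_surjective x
  show cAut Qf (g * h) (QuotientGroup.mk s) = cAut Qf g (cAut Qf h (QuotientGroup.mk s))
  rw [cAut_mk, cAut_mk, cAut_mk]
  congr 1
  apply Subtype.ext
  apply Subtype.ext
  show g.1 * h.1 * s.1.1 * (g.1 * h.1)⁻¹ = g.1 * (h.1 * s.1.1 * h.1⁻¹) * g.1⁻¹
  group

/-- The homomorphism from the similarity group to `Aut(PΩ)`. -/
def cHom (Qf : (ι → F) → F) : ↥(Cfsg.Geo.quadSimilarityGroup Qf) →* MulAut (Cfsg.POmega F Qf) :=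
  MonoidHom.mk' (cAut Qf) (cAut_mul Qf)

theorem cHom_apply (Qf : (ι → F) → F) (g : ↥(Cfsg.Geo.quadSimilarityGroup Qf)) :
    cHom Qf g = cAut Qf g := rfl

theorem isInduced_iff (Qf : (ι → F) → F) (g : ↥(Cfsg.Geo.quadSimilarityGroup Qf))
    (β : Cfsg.POmega F Qf ≃* Cfsg.POmega F Qf) :
    Cfsg.IsInducedBySemilinearPOmega Qf g.1 (RingEquiv.refl F) β ↔ β = cAut Qf g := by
  constructor
  · intro h
    apply MulEquiv.ext
    intro x
    obtain ⟨s, rfl⟩ := QuotientGroup.mk_surjective x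
    rw [cAut_mk]
    apply h s (restrictComm (simConj Qf g) s)
    rw [RingEquiv.coe_refl, Matrix.map_id]
    rfl
  · rintro rfl s s' hss'
    rw [cAut_mk]
    congr 1
    apply Subtype.ext
    apply Subtype.ext
    apply Units.ext
    rw [hss', RingEquiv.coe_refl, Matrix.map_id]
    rfl

/-- The subgroup of `Aut(PΩ)` generated by the automorphisms induced by the elements of a
subgroup `S` of the similarity group is the image of `S` under `cHom`. -/
theorem autSubgroupOf_induced_eq (Qf : (ι → F) → F) (S : Subgroup (Matrix.GeneralLinearGroup ι F))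
    (hS : S ≤ Cfsg.Geo.quadSimilarityGroup Qf) :
    Cfsg.autSubgroupOf (fun β : Cfsg.POmega F Qf ≃* Cfsg.POmega F Qf =>
        ∃ g : Matrix.GeneralLinearGroup ι F, g ∈ S ∧
          Cfsg.IsInducedBySemilinearPOmega Qf g (RingEquiv.refl F) β)
      = (S.comap (Cfsg.Geo.quadSimilarityGroup Qf).subtype).map (cHom Qf) := by
  unfold Cfsg.autSubgroupOf
  have : {β : MulAut (Cfsg.POmega F Qf) | ∃ g : Matrix.GeneralLinearGroup ι F, g ∈ S ∧
        Cfsg.IsInducedBySemilinearPOmega Qf g (RingEquiv.refl F) β}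
      = ((S.comap (Cfsg.Geo.quadSimilarityGroup Qf).subtype).map (cHom Qf) : Set _) := by
    ext β
    constructor
    · rintro ⟨g, hg, hβ⟩
      exact ⟨⟨g, hS hg⟩, hg, ((isInduced_iff Qf ⟨g, hS hg⟩ β).mp hβ).symm⟩
    · rintro ⟨g, hg, rfl⟩
      exact ⟨g.1, hg, (isInduced_iff Qf g _).mpr rfl⟩
  rw [this, Subgroup.closure_eq]

theorem pgoAut_eq (Qf : (ι → F) → F) :
    Cfsg.pgoAut F Qf = (cHom Qf).range := by
  have h := autSubgroupOf_induced_eq Qf (Cfsg.Geo.quadSimilarityGroup Qf) le_rfl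
  rw [MonoidHom.range_eq_map]
  have e : (Cfsg.Geo.quadSimilarityGroup Qf).comap (Cfsg.Geo.quadSimilarityGroup Qf).subtype
      = ⊤ := by
    ext g
    simp
  rw [← e]
  exact h

theorem poAut_eq (Qf : (ι → F) → F) :
    Cfsg.poAut F Qf = ((Cfsg.isometryGroup F Qf).comap
      (Cfsg.Geo.quadSimilarityGroup Qf).subtype).map (cHom Qf) :=
  autSubgroupOf_induced_eq Qf (Cfsg.isometryGroup F Qf) (isometryGroup_le_sim Qf)

theorem psoAut_eq (Qf : (ι → F) → F) :
    Cfsg.psoAut F Qf = ((Cfsg.specialIsometryGL F Qf).comap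
      (Cfsg.Geo.quadSimilarityGroup Qf).subtype).map (cHom Qf) :=
  autSubgroupOf_induced_eq Qf (Cfsg.specialIsometryGL F Qf)
    (le_trans inf_le_left (isometryGroup_le_sim Qf))

theorem inn_eq (Qf : (ι → F) → F) :
    Cfsg.Inn (Cfsg.POmega F Qf) = ((Cfsg.Geo.omegaGL Qf).comap
      (Cfsg.Geo.quadSimilarityGroup Qf).subtype).map (cHom Qf) := by
  have key : ∀ s : ↥(Cfsg.Omega F Qf),
      MulAut.conj (QuotientGroup.mk s : Cfsg.POmega F Qf)
        = cAut Qf ⟨s.1.1, isometryGroup_le_sim Qf s.1.2⟩ := by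
    intro s
    apply MulEquiv.ext
    intro y
    obtain ⟨t, rfl⟩ := QuotientGroup.mk_surjective y
    rw [cAut_mk, MulAut.conj_apply]
    rfl
  ext β
  constructor
  · rintro ⟨x, rfl⟩
    obtain ⟨s, rfl⟩ := QuotientGroup.mk_surjective x
    exact ⟨⟨s.1.1, isometryGroup_le_sim Qf s.1.2⟩, ⟨s.1, s.2, rfl⟩, (key s).symm⟩
  · rintro ⟨g, ⟨s, hs, hsg⟩, rfl⟩
    refine ⟨QuotientGroup.mk ⟨s, hs⟩, ?_⟩
    rw [key, cHom_apply]
    congr 1
    apply Subtype.ext
    exact hsg

end

end Cfsg.Agent.H49
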