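import Mathlib
import Cfsg.Agent.H49.SimAut

set_option autoImplicit false
set_option linter.unusedSectionVars false

/-! Helper lemmas (helper49): a matrix commuting with all Siegel transformations is a scalar;
hence a similarity inducing the trivial automorphism of `PΩ` is a scalar. -/

namespace Cfsg.Agent.H49

open Module Matrix

section
variable {ι : Type} [Fintype ι] [DecidableEq ι] {F : Type*} [Field F]

theorem scalar_of_commute_siegel (Q : QuadraticForm F (ι → F))
    (hQ : (QuadraticMap.polarBilin Q).Nondegenerate) (h3 : HasTS3 Q) (A : Matrix ι ι F)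
    (hA : ∀ (u v : ι → F) (hu : Q u = 0) (hv : Q v = 0)
      (huv : QuadraticMap.polar (⇑Q) u v = 0) (x : ι → F),
      A *ᵥ (act (siegelG Q u v hu hv huv 1) x) = act (siegelG Q u v hu hv huv 1) (A *ᵥ x)) :
    ∃ l : F, ∀ x : ι → F, A *ᵥ x = l • x := by
  have key1 : ∀ (u v : ι → F), Q u = 0 → Q v = 0 → QuadraticMap.polar (⇑Q) u v = 0 →
      v ∉ Submodule.span F {u} → A *ᵥ u ∈ Submodule.span F {u, v} := by
    intro u v hu hv huv hvu
    obtain ⟨s, hsW, hs⟩ := exists_orth_polar_ne Q hQ (Submodule.span F {u}) v hvu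
    have hus : QuadraticMap.polar (⇑Q) u s = 0 := hsW u (Submodule.mem_span_singleton_self u)
    have h1 := hA u v hu hv huv (-(QuadraticMap.polar (⇑Q) v s)⁻¹ • s)
    rw [act_siegelG, act_siegelG] at h1
    have e1 : QuadraticMap.polar (⇑Q) u (-(QuadraticMap.polar (⇑Q) v s)⁻¹ • s) = 0 := by
      rw [QuadraticMap.polar_smul_right, hus, smul_zero]
    have e2 : QuadraticMap.polar (⇑Q) v (-(QuadraticMap.polar (⇑Q) v s)⁻¹ • s) = -1 := by
      rw [QuadraticMap.polar_smul_right, smul_eq_mul, neg_mul, inv_mul_cancel₀ hs]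
    rw [e1, e2] at h1
    simp only [zero_smul, zero_sub, neg_smul, one_smul, neg_neg, Matrix.mulVec_add] at h1
    have h2 := add_left_cancel h1
    rw [h2]
    exact Submodule.sub_mem _ (Submodule.smul_mem _ _ (Submodule.subset_span (by simp)))
      (Submodule.smul_mem _ _ (Submodule.subset_span (by simp)))
  have hev : ∀ u : ι → F, u ≠ 0 → Q u = 0 → ∃ l : F, A *ᵥ u = l • u := by
    intro u hu0 hu
    obtain ⟨v, hv, hvW, hvu⟩ := exists_singular_orth_of_le_one Q hQ h3 (Submodule.span F {u})
      (finrank_span_singleton_le' u)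
    have huv : QuadraticMap.polar (⇑Q) u v = 0 := hvW u (Submodule.mem_span_singleton_self u)
    obtain ⟨v', hv', hv'W, hv'L⟩ := exists_singular_orth_of_ts Q hQ h3 (Submodule.span F {u, v})
      (isTS_span_pair Q u v hu hv huv) (finrank_span_pair_le u v)
    have huv' : QuadraticMap.polar (⇑Q) u v' = 0 := hv'W u (Submodule.subset_span (by simp))
    have hv'u : v' ∉ Submodule.span F {u} := fun h => hv'L (Submodule.span_mono (by simp) h)
    have m1 := key1 u v hu hv huv hvu
    have m2 := key1 u v' hu hv' huv' hv'u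
    obtain ⟨a, b, hab⟩ := Submodule.mem_span_pair.mp m1
    obtain ⟨a', b', hab'⟩ := Submodule.mem_span_pair.mp m2
    have hb' : b' = 0 := by
      by_contra hb'
      apply hv'L
      have h5 : b' • v' = (a - a') • u + b • v := by
        have h6 : b' • v' = a • u + b • v - a' • u := by
          rw [hab, ← hab']
          abel
        rw [h6, sub_smul]
        abel
      have h7 : v' = b'⁻¹ • ((a - a') • u + b • v) := by
        rw [← h5, smul_smul, inv_mul_cancel₀ hb', one_smul]
      rw [h7]
      exact Submodule.smul_mem _ _ (Submodule.add_mem _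
        (Submodule.smul_mem _ _ (Submodule.subset_span (by simp)))
        (Submodule.smul_mem _ _ (Submodule.subset_span (by simp))))
    refine ⟨a', ?_⟩
    rw [← hab', hb', zero_smul, add_zero]
  have hpair : ∀ (x y : ι → F) (l m : F), x ≠ 0 → y ≠ 0 → Q x = 0 → Q y = 0 →
      QuadraticMap.polar (⇑Q) x y = 0 → A *ᵥ x = l • x → A *ᵥ y = m • y → l = m := by
    intro x y l m hx0 hy0 hx hy hxy hgx hgy
    by_cases hmem : y ∈ Submodule.span F {x}
    · obtain ⟨c, rfl⟩ := Submodule.mem_span_singleton.mp hmem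
      have hc : c ≠ 0 := by
        rintro rfl
        rw [zero_smul] at hy0
        exact hy0 rfl
      rw [Matrix.mulVec_smul, hgx, smul_smul, smul_smul] at hgy
      have h2 := smul_left_injective F hx0 hgy
      have h3 : c * l = c * m := by rw [h2, mul_comm]
      exact mul_left_cancel₀ hc h3
    · have hxy0 : x + y ≠ 0 := by
        intro h0
        apply hmem
        have : y = (-1 : F) • x := by
          rw [neg_smul, one_smul]
          exact eq_neg_of_add_eq_zero_right h0
        rw [this]
        exact Submodule.smul_mem _ _ (Submodule.mem_span_singleton_self x)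
      have hQxy : Q (x + y) = 0 := by rw [Q_add', hx, hy, hxy]; ring
      obtain ⟨n, hn⟩ := hev (x + y) hxy0 hQxy
      rw [Matrix.mulVec_add, hgx, hgy, smul_add] at hn
      have h4 : (m - n) • y = (n - l) • x := by
        rw [sub_smul, sub_smul]
        have : m • y - n • y = n • x - l • x := by
          rw [sub_eq_sub_iff_add_eq_add]
          rw [add_comm (m • y), hn, add_comm]
        exact this
      have hmn : m = n := by
        by_contra hne
        have hne' : m - n ≠ 0 := sub_ne_zero.mpr hne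
        apply hmem
        have : y = ((m - n)⁻¹ * (n - l)) • x := by
          rw [mul_smul, ← h4, smul_smul, inv_mul_cancel₀ hne', one_smul]
        rw [this]
        exact Submodule.smul_mem _ _ (Submodule.mem_span_singleton_self x)
      rw [hmn, sub_self, zero_smul] at h4
      have h5 : n - l = 0 := by
        rcases smul_eq_zero.mp h4.symm with h6 | h6
        · exact h6
        · exact absurd h6 hx0
      rw [hmn]
      exact (sub_eq_zero.mp h5).symm
  -- a base singular vector
  obtain ⟨u₀, hu₀0, hu₀⟩ : ∃ u₀ : ι → F, u₀ ≠ 0 ∧ Q u₀ = 0 := by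
    obtain ⟨U, hU, dU⟩ := h3
    have hUbot : U ≠ ⊥ := by
      intro h
      rw [h, finrank_bot] at dU
      omega
    obtain ⟨u, huU, hu0⟩ := Submodule.exists_mem_ne_zero_of_ne_bot hUbot
    exact ⟨u, hu0, hU u huU⟩
  obtain ⟨l₀, hl₀⟩ := hev u₀ hu₀0 hu₀
  have hsing : ∀ x : ι → F, Q x = 0 → A *ᵥ x = l₀ • x := by
    intro x hx
    by_cases hx0 : x = 0
    · rw [hx0, Matrix.mulVec_zero, smul_zero]
    · obtain ⟨l, hl⟩ := hev x hx0 hx
      obtain ⟨e, he0, he, heW⟩ := exists_singular_orth_of_le_two Q hQ h3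
        (Submodule.span F {u₀, x}) (finrank_span_pair_le u₀ x)
      have hu₀e : QuadraticMap.polar (⇑Q) u₀ e = 0 := heW u₀ (Submodule.subset_span (by simp))
      have hxe : QuadraticMap.polar (⇑Q) x e = 0 := heW x (Submodule.subset_span (by simp))
      obtain ⟨le, hle⟩ := hev e he0 he
      have h1 : l₀ = le := hpair u₀ e l₀ le hu₀0 he0 hu₀ he hu₀e hl₀ hle
      have h2 : l = le := hpair x e l le hx0 he0 hx he hxe hl hle
      rw [hl, h2, h1]
  refine ⟨l₀, fun w => ?_⟩
  by_cases hw : Q w = 0
  · exact hsing w hw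
  · have hw0 : w ≠ 0 := by
      rintro rfl
      exact hw (QuadraticMap.map_zero Q)
    obtain ⟨e, e', he, he', hee, -, -⟩ := exists_hyp_pair_orth_le_one Q hQ h3 ⊥
      (by rw [finrank_bot]; omega)
    obtain ⟨t, ht, -, hwt⟩ := exists_singular_orth_polar_ne Q hQ ⊥ e e' he he' hee
      (by
        intro a ha
        rw [(Submodule.mem_bot F).mp ha, QuadraticMap.polar_zero_left])
      (by
        intro a ha
        rw [(Submodule.mem_bot F).mp ha, QuadraticMap.polar_zero_left])
      w (by
        intro h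
        exact hw0 ((Submodule.mem_bot F).mp h))
    obtain ⟨c, hc⟩ : ∃ c : F, c = Q w * (QuadraticMap.polar (⇑Q) w t)⁻¹ := ⟨_, rfl⟩
    have hQt' : Q (w - c • t) = 0 := by
      rw [Q_sub', QuadraticMap.map_smul, ht, smul_zero, add_zero, QuadraticMap.polar_smul_right,
        hc, smul_eq_mul, mul_assoc, inv_mul_cancel₀ hwt, mul_one, sub_self]
    have e1 : w = (w - c • t) + c • t := by abel
    rw [e1, Matrix.mulVec_add, Matrix.mulVec_smul, hsing _ hQt', hsing t ht, smul_add, smul_comm]

/-- A similarity inducing the trivial automorphism of `PΩ` is a scalar. -/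
theorem scalar_of_cAut_eq_one [Fintype F] (Q : QuadraticForm F (ι → F))
    (hQ : (QuadraticMap.polarBilin Q).Nondegenerate) (h3 : HasTS3 Q)
    (g : ↥(Cfsg.Geo.quadSimilarityGroup (⇑Q))) (h : cAut (⇑Q) g = 1) :
    ∃ l : F, ∀ x : ι → F, ((g : Matrix.GeneralLinearGroup ι F) : Matrix ι ι F) *ᵥ x = l • x := by
  have hfix : ∀ s : ↥(commutator ↥(Cfsg.isometryGroup F (⇑Q))),
      restrictComm (simConj (⇑Q) g) s = s := by
    apply eq_of_mk_eq_of_perfect (omega_perfect Q hQ h3)
    intro s
    have h1 := cAut_mk (⇑Q) g s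
    rw [h] at h1
    have h2 : (QuotientGroup.mk s : Cfsg.POmega F (⇑Q))
        = QuotientGroup.mk (restrictComm (simConj (⇑Q) g) s) := h1
    exact QuotientGroup.eq.mp h2
  apply scalar_of_commute_siegel Q hQ h3
  intro u v hu hv huv x
  have h1 := hfix ⟨siegelG Q u v hu hv huv 1, siegelG_mem_commutator Q hQ h3 u v hu hv huv 1⟩
  have h2 : g.1 * (siegelG Q u v hu hv huv 1).1 * g.1⁻¹ = (siegelG Q u v hu hv huv 1).1 :=
    congrArg (fun s : ↥(commutator ↥(Cfsg.isometryGroup F (⇑Q))) =>
      ((s : ↥(Cfsg.isometryGroup F (⇑Q))) : Matrix.GeneralLinearGroup ι F)) h1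
  have h4 : g.1 * (siegelG Q u v hu hv huv 1).1 = (siegelG Q u v hu hv huv 1).1 * g.1 :=
    mul_inv_eq_iff_eq_mul.mp h2
  have h5 := congrArg (fun k : Matrix.GeneralLinearGroup ι F => (k : Matrix ι ι F) *ᵥ x) h4
  simp only [Units.val_mul, ← Matrix.mulVec_mulVec] at h5
  exact h5

end

end Cfsg.Agent.H49
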