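import Mathlib
import Cfsg.Agent.H49.OmegaSimple
import Cfsg.Agent.H49.SimKer

set_option autoImplicit false
set_option linter.unusedSectionVars false
set_option linter.unusedSimpArgs false
set_option linter.unusedVariables false

/-! Helper lemmas (helper49): Eichler transformations `z ↦ z + f(x,z) v - f(v,z) x - Q(v) f(x,z) x`
attached to a singular vector `x` and a vector `v` orthogonal to it; they form the abelian group
`R_x`, the unipotent radical of the stabiliser of the singular point `⟨x⟩`. -/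

namespace Cfsg.Agent.H49

open Module Matrix

section
variable {ι : Type} [Fintype ι] [DecidableEq ι] {F : Type*} [Field F]

/-- The subspace of vectors orthogonal to a set of vectors. -/
def perp (Q : QuadraticForm F (ι → F)) (S : Set (ι → F)) : Submodule F (ι → F) where
  carrier := {v | ∀ s ∈ S, QuadraticMap.polar (⇑Q) s v = 0}
  add_mem' := by
    intro a b ha hb s hs
    rw [QuadraticMap.polar_add_right, ha s hs, hb s hs, add_zero]
  zero_mem' := by
    intro s _
    exact QuadraticMap.polar_zero_right _ _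
  smul_mem' := by
    intro c a ha s hs
    rw [QuadraticMap.polar_smul_right, ha s hs, smul_zero]

theorem mem_perp (Q : QuadraticForm F (ι → F)) (S : Set (ι → F)) (v : ι → F) :
    v ∈ perp Q S ↔ ∀ s ∈ S, QuadraticMap.polar (⇑Q) s v = 0 := Iff.rfl

theorem mem_perp_singleton (Q : QuadraticForm F (ι → F)) (x v : ι → F) :
    v ∈ perp Q {x} ↔ QuadraticMap.polar (⇑Q) x v = 0 := by
  rw [mem_perp]
  constructor
  · intro h
    exact h x rfl
  · rintro h s rfl
    exact h

theorem mem_perp_pair (Q : QuadraticForm F (ι → F)) (x y v : ι → F) :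
    v ∈ perp Q {x, y} ↔ QuadraticMap.polar (⇑Q) x v = 0 ∧ QuadraticMap.polar (⇑Q) y v = 0 := by
  rw [mem_perp]
  constructor
  · intro h
    exact ⟨h x (by simp), h y (by simp)⟩
  · rintro ⟨h1, h2⟩ s hs
    rcases hs with rfl | rfl
    · exact h1
    · exact h2

/-- In a subspace containing a hyperbolic pair, every vector is a singular vector of the subspace
plus a combination of the pair. -/
theorem exists_sing_decomp (Q : QuadraticForm F (ι → F)) (A : Submodule F (ι → F))
    (e e' : ι → F) (he : Q e = 0) (he' : Q e' = 0) (hee : QuadraticMap.polar (⇑Q) e e' = 1)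
    (heA : e ∈ A) (he'A : e' ∈ A) (z : ι → F) (hz : z ∈ A) :
    ∃ s ∈ A, Q s = 0 ∧ ∃ a b : F, z = s + a • e + b • e' := by
  obtain ⟨z₀, hz₀⟩ : ∃ z₀, z₀ = z - QuadraticMap.polar (⇑Q) e' z • e
      - QuadraticMap.polar (⇑Q) e z • e' := ⟨_, rfl⟩
  have hz₀A : z₀ ∈ A := by
    rw [hz₀]
    exact A.sub_mem (A.sub_mem hz (A.smul_mem _ heA)) (A.smul_mem _ he'A)
  have he'e : QuadraticMap.polar (⇑Q) e' e = 1 := by rw [QuadraticMap.polar_comm]; exact hee
  have h1 : QuadraticMap.polar (⇑Q) e z₀ = 0 := by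
    rw [hz₀, QuadraticMap.polar_sub_right, QuadraticMap.polar_sub_right,
      QuadraticMap.polar_smul_right, QuadraticMap.polar_smul_right, polar_self', he, hee]
    simp
  have h2 : QuadraticMap.polar (⇑Q) e' z₀ = 0 := by
    rw [hz₀, QuadraticMap.polar_sub_right, QuadraticMap.polar_sub_right,
      QuadraticMap.polar_smul_right, QuadraticMap.polar_smul_right, polar_self', he', he'e]
    simp
  have hzz : z = z₀ + QuadraticMap.polar (⇑Q) e' z • e + QuadraticMap.polar (⇑Q) e z • e' := by
    rw [hz₀]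
    abel
  refine ⟨e + z₀ - Q z₀ • e', A.sub_mem (A.add_mem heA hz₀A) (A.smul_mem _ he'A), ?_,
    QuadraticMap.polar (⇑Q) e' z - 1, QuadraticMap.polar (⇑Q) e z + Q z₀, ?_⟩
  · rw [Q_sub_smul, Q_add', he, he', QuadraticMap.polar_add_right, he'e, h2, h1]
    ring
  · conv_lhs => rw [hzz]
    funext k
    simp only [Pi.add_apply, Pi.sub_apply, Pi.smul_apply, smul_eq_mul]
    ring

/-- The matrix of the Eichler transformation
`z ↦ z + f(x,z) v - f(v,z) x - Q(v) f(x,z) x`. -/
def eichMat (Q : QuadraticForm F (ι → F)) (x v : ι → F) : Matrix ι ι F :=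
  1 + Matrix.vecMulVec v (Cfsg.polarVec (⇑Q) x) - Matrix.vecMulVec x (Cfsg.polarVec (⇑Q) v)
    - Q v • Matrix.vecMulVec x (Cfsg.polarVec (⇑Q) x)

theorem eichMat_mulVec (Q : QuadraticForm F (ι → F)) (x v z : ι → F) :
    eichMat Q x v *ᵥ z
      = z + QuadraticMap.polar (⇑Q) x z • v - QuadraticMap.polar (⇑Q) v z • x
        - (Q v * QuadraticMap.polar (⇑Q) x z) • x := by
  rw [eichMat, Matrix.sub_mulVec, Matrix.sub_mulVec, Matrix.add_mulVec, Matrix.one_mulVec,
    Matrix.smul_mulVec, Matrix.vecMulVec_mulVec, Matrix.vecMulVec_mulVec,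
    Matrix.vecMulVec_mulVec, polarVec_dot, polarVec_dot]
  funext k
  simp [mul_comm, mul_assoc, mul_left_comm]

theorem eich_isometry (Q : QuadraticForm F (ι → F)) (x v : ι → F) (hx : Q x = 0)
    (hxv : QuadraticMap.polar (⇑Q) x v = 0) (z : ι → F) :
    Q (eichMat Q x v *ᵥ z) = Q z := by
  rw [eichMat_mulVec]
  have e : z + QuadraticMap.polar (⇑Q) x z • v - QuadraticMap.polar (⇑Q) v z • x
        - (Q v * QuadraticMap.polar (⇑Q) x z) • x
      = z + (QuadraticMap.polar (⇑Q) x z • v
        - (QuadraticMap.polar (⇑Q) v z + Q v * QuadraticMap.polar (⇑Q) x z) • x) := by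
    funext k
    simp only [Pi.add_apply, Pi.sub_apply, Pi.smul_apply, smul_eq_mul]
    ring
  have hvx : QuadraticMap.polar (⇑Q) v x = 0 := by rw [QuadraticMap.polar_comm]; exact hxv
  rw [e, Q_add', Q_sub', QuadraticMap.map_smul, QuadraticMap.map_smul, hx,
    QuadraticMap.polar_smul_left, QuadraticMap.polar_smul_right, hvx,
    QuadraticMap.polar_sub_right, QuadraticMap.polar_smul_right, QuadraticMap.polar_smul_right,
    QuadraticMap.polar_comm (⇑Q) z v, QuadraticMap.polar_comm (⇑Q) z x]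
  simp only [smul_eq_mul]
  ring

theorem eich_mul (Q : QuadraticForm F (ι → F)) (x v w : ι → F) (hx : Q x = 0)
    (hxv : QuadraticMap.polar (⇑Q) x v = 0) (hxw : QuadraticMap.polar (⇑Q) x w = 0) :
    eichMat Q x v * eichMat Q x w = eichMat Q x (v + w) := by
  apply matrix_ext_mulVec
  intro z
  rw [← Matrix.mulVec_mulVec, eichMat_mulVec Q x w, eichMat_mulVec, eichMat_mulVec]
  have hxx : QuadraticMap.polar (⇑Q) x x = 0 := by rw [polar_self', hx, mul_zero]
  have hvx : QuadraticMap.polar (⇑Q) v x = 0 := by rw [QuadraticMap.polar_comm]; exact hxv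
  have e1 : QuadraticMap.polar (⇑Q) x (z + QuadraticMap.polar (⇑Q) x z • w
      - QuadraticMap.polar (⇑Q) w z • x - (Q w * QuadraticMap.polar (⇑Q) x z) • x)
      = QuadraticMap.polar (⇑Q) x z := by
    rw [QuadraticMap.polar_sub_right, QuadraticMap.polar_sub_right, QuadraticMap.polar_add_right,
      QuadraticMap.polar_smul_right, QuadraticMap.polar_smul_right,
      QuadraticMap.polar_smul_right, hxw, hxx]
    simp
  have e2 : QuadraticMap.polar (⇑Q) v (z + QuadraticMap.polar (⇑Q) x z • w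
      - QuadraticMap.polar (⇑Q) w z • x - (Q w * QuadraticMap.polar (⇑Q) x z) • x)
      = QuadraticMap.polar (⇑Q) v z
        + QuadraticMap.polar (⇑Q) x z * QuadraticMap.polar (⇑Q) v w := by
    rw [QuadraticMap.polar_sub_right, QuadraticMap.polar_sub_right, QuadraticMap.polar_add_right,
      QuadraticMap.polar_smul_right, QuadraticMap.polar_smul_right,
      QuadraticMap.polar_smul_right, hvx]
    simp
  rw [e1, e2, Q_add', QuadraticMap.polar_add_left]
  funext k
  simp only [Pi.add_apply, Pi.sub_apply, Pi.smul_apply, smul_eq_mul]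
  ring

theorem eich_zero (Q : QuadraticForm F (ι → F)) (x : ι → F) : eichMat Q x 0 = 1 := by
  apply matrix_ext_mulVec
  intro z
  rw [eichMat_mulVec, Matrix.one_mulVec, QuadraticMap.polar_zero_left, QuadraticMap.map_zero]
  simp

/-- The Eichler transformation attached to a singular vector `x` and a vector `v ⊥ x`. -/
def eichG (Q : QuadraticForm F (ι → F)) (x v : ι → F) (hx : Q x = 0)
    (hxv : QuadraticMap.polar (⇑Q) x v = 0) : ↥(Cfsg.isometryGroup F (⇑Q)) :=
  ⟨⟨eichMat Q x v, eichMat Q x (-v),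
      by rw [eich_mul Q x v (-v) hx hxv (by rw [QuadraticMap.polar_neg_right, hxv, neg_zero]),
        add_neg_cancel, eich_zero],
      by rw [eich_mul Q x (-v) v hx (by rw [QuadraticMap.polar_neg_right, hxv, neg_zero]) hxv,
        neg_add_cancel, eich_zero]⟩,
    mem_isometryGroup_iff.mpr (fun z => eich_isometry Q x v hx hxv z)⟩

theorem act_eichG (Q : QuadraticForm F (ι → F)) (x v : ι → F) (hx : Q x = 0)
    (hxv : QuadraticMap.polar (⇑Q) x v = 0) (z : ι → F) :
    act (eichG Q x v hx hxv) z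
      = z + QuadraticMap.polar (⇑Q) x z • v - QuadraticMap.polar (⇑Q) v z • x
        - (Q v * QuadraticMap.polar (⇑Q) x z) • x :=
  eichMat_mulVec Q x v z

theorem eichG_mul (Q : QuadraticForm F (ι → F)) (x v w : ι → F) (hx : Q x = 0)
    (hxv : QuadraticMap.polar (⇑Q) x v = 0) (hxw : QuadraticMap.polar (⇑Q) x w = 0) :
    eichG Q x v hx hxv * eichG Q x w hx hxw
      = eichG Q x (v + w) hx (by rw [QuadraticMap.polar_add_right, hxv, hxw, add_zero]) := by
  apply Subtype.ext
  apply Units.ext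
  exact eich_mul Q x v w hx hxv hxw

theorem eichG_congr (Q : QuadraticForm F (ι → F)) (x x' v v' : ι → F) (hx : Q x = 0)
    (hx' : Q x' = 0) (hxv : QuadraticMap.polar (⇑Q) x v = 0)
    (hxv' : QuadraticMap.polar (⇑Q) x' v' = 0) (h1 : x = x') (h2 : v = v') :
    eichG Q x v hx hxv = eichG Q x' v' hx' hxv' := by
  subst h1 h2
  rfl

theorem eichG_zero (Q : QuadraticForm F (ι → F)) (x : ι → F) (hx : Q x = 0)
    (h : QuadraticMap.polar (⇑Q) x 0 = 0) : eichG Q x 0 hx h = 1 := by
  apply Subtype.ext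
  apply Units.ext
  exact eich_zero Q x

theorem eichG_inv (Q : QuadraticForm F (ι → F)) (x v : ι → F) (hx : Q x = 0)
    (hxv : QuadraticMap.polar (⇑Q) x v = 0) :
    (eichG Q x v hx hxv)⁻¹
      = eichG Q x (-v) hx (by rw [QuadraticMap.polar_neg_right, hxv, neg_zero]) := by
  rw [inv_eq_iff_mul_eq_one, eichG_mul]
  rw [eichG_congr Q x x (v + -v) 0 hx hx _ (QuadraticMap.polar_zero_right _ _) rfl
    (add_neg_cancel v)]
  exact eichG_zero Q x hx _

theorem siegelG_eq_eichG (Q : QuadraticForm F (ι → F)) (x v : ι → F) (hx : Q x = 0)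
    (hv : Q v = 0) (hxv : QuadraticMap.polar (⇑Q) x v = 0) (c : F) :
    siegelG Q x v hx hv hxv c
      = eichG Q x (c • v) hx (by rw [QuadraticMap.polar_smul_right, hxv, smul_zero]) := by
  apply act_ext
  intro z
  rw [act_siegelG, act_eichG, QuadraticMap.map_smul, hv, QuadraticMap.polar_smul_left]
  funext k
  simp only [Pi.add_apply, Pi.sub_apply, Pi.smul_apply, smul_eq_mul, mul_zero, zero_mul,
    sub_zero]
  ring

theorem conj_eichG (Q : QuadraticForm F (ι → F)) (g : ↥(Cfsg.isometryGroup F (⇑Q)))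
    (x v : ι → F) (hx : Q x = 0) (hxv : QuadraticMap.polar (⇑Q) x v = 0) :
    g * eichG Q x v hx hxv * g⁻¹
      = eichG Q (act g x) (act g v) (by rw [Q_act, hx]) (by rw [polar_act, hxv]) := by
  apply act_ext
  intro z
  rw [act_mul, act_mul, act_eichG, act_eichG, act_sub, act_sub, act_add, act_smul, act_smul,
    act_smul, act_act_inv, polar_act_left Q g x z, polar_act_left Q g v z, Q_act]

theorem eichG_smul_left (Q : QuadraticForm F (ι → F)) (x v : ι → F) (c : F) (hx : Q x = 0)
    (hcx : Q (c • x) = 0) (hxv : QuadraticMap.polar (⇑Q) x v = 0)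
    (hcxv : QuadraticMap.polar (⇑Q) (c • x) v = 0)
    (hxcv : QuadraticMap.polar (⇑Q) x (c • v) = 0) :
    eichG Q (c • x) v hcx hcxv = eichG Q x (c • v) hx hxcv := by
  apply act_ext
  intro z
  rw [act_eichG, act_eichG, QuadraticMap.map_smul, QuadraticMap.polar_smul_left,
    QuadraticMap.polar_smul_left]
  funext k
  simp only [Pi.add_apply, Pi.sub_apply, Pi.smul_apply, smul_eq_mul]
  ring

theorem eichG_add_smul (Q : QuadraticForm F (ι → F)) (x v : ι → F) (t : F) (hx : Q x = 0)
    (hxv : QuadraticMap.polar (⇑Q) x v = 0)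
    (hxv' : QuadraticMap.polar (⇑Q) x (v + t • x) = 0) :
    eichG Q x (v + t • x) hx hxv' = eichG Q x v hx hxv := by
  apply act_ext
  intro z
  have hvx : QuadraticMap.polar (⇑Q) v x = 0 := by rw [QuadraticMap.polar_comm]; exact hxv
  rw [act_eichG, act_eichG, Q_add', QuadraticMap.map_smul, hx, QuadraticMap.polar_smul_right,
    hvx, QuadraticMap.polar_add_left, QuadraticMap.polar_smul_left]
  funext k
  simp only [Pi.add_apply, Pi.sub_apply, Pi.smul_apply, smul_eq_mul, mul_zero, add_zero]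
  ring

/-- Two Eichler transformations at `x` agree only if their vectors differ by a multiple
of `x`. -/
theorem eichG_inj (Q : QuadraticForm F (ι → F)) (x y v v' : ι → F) (hx : Q x = 0)
    (hxy : QuadraticMap.polar (⇑Q) x y = 1)
    (hxv : QuadraticMap.polar (⇑Q) x v = 0) (hxv' : QuadraticMap.polar (⇑Q) x v' = 0)
    (h : eichG Q x v hx hxv = eichG Q x v' hx hxv') : ∃ t : F, v' = v + t • x := by
  have h1 := congrArg (fun g => act g y) h
  simp only [act_eichG, hxy, one_smul, mul_one] at h1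
  refine ⟨QuadraticMap.polar (⇑Q) v' y + Q v' - QuadraticMap.polar (⇑Q) v y - Q v, ?_⟩
  have h2 : v' = v - ((y + v - QuadraticMap.polar (⇑Q) v y • x - Q v • x)
      - (y + v' - QuadraticMap.polar (⇑Q) v' y • x - Q v' • x))
      + (QuadraticMap.polar (⇑Q) v' y + Q v' - QuadraticMap.polar (⇑Q) v y - Q v) • x := by
    funext k
    simp only [Pi.add_apply, Pi.sub_apply, Pi.smul_apply, smul_eq_mul]
    ring
  rw [h1, sub_self, sub_zero] at h2
  exact h2

/-- Eichler transformations lie in `Ω`. -/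
theorem eichG_mem_commutator (Q : QuadraticForm F (ι → F))
    (hQ : (QuadraticMap.polarBilin Q).Nondegenerate) (h3 : HasTS3 Q) (x v : ι → F)
    (hx : Q x = 0) (hxv : QuadraticMap.polar (⇑Q) x v = 0) :
    eichG Q x v hx hxv ∈ commutator ↥(Cfsg.isometryGroup F (⇑Q)) := by
  obtain ⟨e, e', he, he', hee, heW, he'W⟩ := exists_hyp_pair_orth_le_one Q hQ h3
    (Submodule.span F {x}) (finrank_span_singleton_le' x)
  have hxe : QuadraticMap.polar (⇑Q) x e = 0 := heW x (Submodule.mem_span_singleton_self x)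
  have hxe' : QuadraticMap.polar (⇑Q) x e' = 0 := he'W x (Submodule.mem_span_singleton_self x)
  obtain ⟨s, hsA, hs, a, b, hz⟩ := exists_sing_decomp Q (perp Q {x}) e e' he he' hee
    ((mem_perp_singleton Q x e).mpr hxe) ((mem_perp_singleton Q x e').mpr hxe') v
    ((mem_perp_singleton Q x v).mpr hxv)
  have hxs : QuadraticMap.polar (⇑Q) x s = 0 := (mem_perp_singleton Q x s).mp hsA
  have key : eichG Q x v hx hxv = siegelG Q x s hx hs hxs 1 * siegelG Q x e hx he hxe a
      * siegelG Q x e' hx he' hxe' b := by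
    rw [siegelG_eq_eichG, siegelG_eq_eichG, siegelG_eq_eichG, eichG_mul, eichG_mul]
    apply eichG_congr Q x x _ _ hx hx _ _ rfl
    rw [hz, one_smul]
  rw [key]
  exact Subgroup.mul_mem _ (Subgroup.mul_mem _ (siegelG_mem_commutator Q hQ h3 _ _ _ _ _ _)
    (siegelG_mem_commutator Q hQ h3 _ _ _ _ _ _)) (siegelG_mem_commutator Q hQ h3 _ _ _ _ _ _)

end

end Cfsg.Agent.H49
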