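import Mathlib
import Cfsg.Agent.H49.AutEich

set_option autoImplicit false
set_option linter.unusedSectionVars false
set_option linter.unusedSimpArgs false
set_option linter.unusedVariables false

/-! Helper lemmas (helper49): the centraliser of the group `R_x` of Eichler transformations,
"small" isometries (those moving every vector inside a small subspace), and the passage between
`Ω` and `PΩ` for small elements. -/

namespace Cfsg.Agent.H49

open Module Matrix

section
variable {ι : Type} [Fintype ι] [DecidableEq ι] {F : Type*} [Field F]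

/-- An isometry multiplying `x` by `c = ±1` and acting as `c` on `x^⊥ / x` is `c` times an
Eichler transformation. -/
theorem exists_eich_of_scal (Q : QuadraticForm F (ι → F)) (x y : ι → F) (hx : Q x = 0)
    (hy : Q y = 0) (hxy : QuadraticMap.polar (⇑Q) x y = 1)
    (g : ↥(Cfsg.isometryGroup F (⇑Q))) (c : F) (hc : c * c = 1) (hgx : act g x = c • x)
    (hgv : ∀ v : ι → F, QuadraticMap.polar (⇑Q) x v = 0 → ∃ t : F, act g v = c • v + t • x) :
    ∃ (v₀ : ι → F) (h : QuadraticMap.polar (⇑Q) x v₀ = 0),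
      ∀ z : ι → F, act g z = c • act (eichG Q x v₀ hx h) z := by
  obtain ⟨u, hu⟩ : ∃ u, u = c • act g y - y := ⟨_, rfl⟩
  have hgy : act g y = c • (y + u) := by
    rw [hu, add_sub_cancel, smul_smul, hc, one_smul]
  have hp : QuadraticMap.polar (⇑Q) x (act g y) = c := by
    have h1 := polar_act Q g x y
    rw [hgx, QuadraticMap.polar_smul_left, hxy, smul_eq_mul] at h1
    calc QuadraticMap.polar (⇑Q) x (act g y)
        = (c * c) * QuadraticMap.polar (⇑Q) x (act g y) := by rw [hc, one_mul]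
      _ = c * (c * QuadraticMap.polar (⇑Q) x (act g y)) := by ring
      _ = c := by rw [h1, mul_one]
  have hxu : QuadraticMap.polar (⇑Q) x u = 0 := by
    rw [hu, QuadraticMap.polar_sub_right, QuadraticMap.polar_smul_right, hp, hxy, smul_eq_mul,
      hc, sub_self]
  have hQu : Q u + QuadraticMap.polar (⇑Q) y u = 0 := by
    have h1 : Q (act g y) = 0 := by rw [Q_act, hy]
    rw [hgy, QuadraticMap.map_smul, Q_add', hy, zero_add, hc, one_smul] at h1
    exact h1
  refine ⟨u, hxu, fun z => ?_⟩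
  obtain ⟨z₁, hz₁⟩ : ∃ z₁, z₁ = z - QuadraticMap.polar (⇑Q) x z • y := ⟨_, rfl⟩
  have hxz₁ : QuadraticMap.polar (⇑Q) x z₁ = 0 := by
    rw [hz₁, QuadraticMap.polar_sub_right, QuadraticMap.polar_smul_right, hxy]
    simp
  obtain ⟨t, ht⟩ := hgv z₁ hxz₁
  have htc : t = -(c * QuadraticMap.polar (⇑Q) z₁ u) := by
    have h1 := polar_act Q g z₁ y
    rw [ht, hgy, QuadraticMap.polar_add_left, QuadraticMap.polar_smul_left,
      QuadraticMap.polar_smul_left, QuadraticMap.polar_smul_right,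
      QuadraticMap.polar_smul_right, QuadraticMap.polar_add_right,
      QuadraticMap.polar_add_right, hxy, hxu] at h1
    simp only [smul_eq_mul] at h1
    have h2 : t * c = -QuadraticMap.polar (⇑Q) z₁ u := by
      linear_combination h1 - (QuadraticMap.polar (⇑Q) z₁ y + QuadraticMap.polar (⇑Q) z₁ u) * hc
    calc t = t * (c * c) := by rw [hc, mul_one]
      _ = (t * c) * c := by ring
      _ = -(c * QuadraticMap.polar (⇑Q) z₁ u) := by rw [h2]; ring
  have hz : z = QuadraticMap.polar (⇑Q) x z • y + z₁ := by rw [hz₁]; abel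
  have e1 : QuadraticMap.polar (⇑Q) z₁ u
      = QuadraticMap.polar (⇑Q) u z
        - QuadraticMap.polar (⇑Q) x z * QuadraticMap.polar (⇑Q) y u := by
    rw [hz₁, QuadraticMap.polar_sub_left, QuadraticMap.polar_smul_left,
      QuadraticMap.polar_comm (⇑Q) z u, smul_eq_mul]
  have e2 : Q u = -QuadraticMap.polar (⇑Q) y u := by linear_combination hQu
  conv_lhs => rw [hz]
  rw [act_add, act_smul, hgy, ht, htc, act_eichG, e1, e2, hz₁]
  funext k
  simp only [Pi.add_apply, Pi.sub_apply, Pi.smul_apply, Pi.neg_apply, smul_eq_mul]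
  ring

/-- An isometry commuting with all Siegel transformations `E_{x,v}(1)` multiplies `x` by a
scalar `c` and acts as `c⁻¹` on `x^⊥ / x`. -/
theorem commute_siegel_structure (Q : QuadraticForm F (ι → F))
    (hQ : (QuadraticMap.polarBilin Q).Nondegenerate) (h3 : HasTS3 Q) (x : ι → F)
    (hx0 : x ≠ 0) (hx : Q x = 0) (g : ↥(Cfsg.isometryGroup F (⇑Q)))
    (hg : ∀ (v : ι → F) (hv : Q v = 0) (hxv : QuadraticMap.polar (⇑Q) x v = 0),
      g * siegelG Q x v hx hv hxv 1 = siegelG Q x v hx hv hxv 1 * g) :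
    ∃ c : F, c ≠ 0 ∧ act g x = c • x ∧
      ∀ v : ι → F, QuadraticMap.polar (⇑Q) x v = 0 → ∃ t : F, act g v = c⁻¹ • v + t • x := by
  have key : ∀ (h : ↥(Cfsg.isometryGroup F (⇑Q))),
      (∀ (v : ι → F) (hv : Q v = 0) (hxv : QuadraticMap.polar (⇑Q) x v = 0),
        h * siegelG Q x v hx hv hxv 1 = siegelG Q x v hx hv hxv 1 * h) →
      ∀ (v : ι → F) (hv : Q v = 0) (hxv : QuadraticMap.polar (⇑Q) x v = 0) (z : ι → F),
        QuadraticMap.polar (⇑Q) (act h x) z • act h v
          - QuadraticMap.polar (⇑Q) (act h v) z • act h x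
          = QuadraticMap.polar (⇑Q) x z • v - QuadraticMap.polar (⇑Q) v z • x := by
    intro h hh v hv hxv z
    have e1 : h * siegelG Q x v hx hv hxv 1 * h⁻¹ = siegelG Q x v hx hv hxv 1 := by
      rw [hh v hv hxv, mul_inv_cancel_right]
    rw [conj_siegelG] at e1
    have e2 := congrArg (fun k => act k z) e1
    simp only [act_siegelG, one_smul] at e2
    exact add_left_cancel e2
  have hginv : ∀ (v : ι → F) (hv : Q v = 0) (hxv : QuadraticMap.polar (⇑Q) x v = 0),
      g⁻¹ * siegelG Q x v hx hv hxv 1 = siegelG Q x v hx hv hxv 1 * g⁻¹ := by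
    intro v hv hxv
    rw [eq_mul_inv_iff_mul_eq, mul_assoc, ← hg v hv hxv, inv_mul_cancel_left]
  -- step a
  have stepa : ∀ (v : ι → F), Q v = 0 → QuadraticMap.polar (⇑Q) x v = 0 →
      v ∉ Submodule.span F {x} → ∃ α β : F, act g x = α • x + β • v := by
    intro v hv hxv hvx
    obtain ⟨v', hv', hv'W, hvv'⟩ := exists_partner_orth Q hQ (Submodule.span F {x}) v hv
      (polar_span_singleton Q x v hxv) hvx
    have hxv' : QuadraticMap.polar (⇑Q) x v' = 0 :=
      hv'W x (Submodule.mem_span_singleton_self x)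
    have h1 := key g⁻¹ hginv v hv hxv v'
    rw [hxv', hvv', zero_smul, one_smul, zero_sub] at h1
    have h2 := congrArg (act g) h1
    rw [act_sub, act_smul, act_smul, act_act_inv, act_act_inv, act_neg] at h2
    refine ⟨QuadraticMap.polar (⇑Q) (act g⁻¹ v) v', -QuadraticMap.polar (⇑Q) (act g⁻¹ x) v', ?_⟩
    have h3' : act g x = -(QuadraticMap.polar (⇑Q) (act g⁻¹ x) v' • v
        - QuadraticMap.polar (⇑Q) (act g⁻¹ v) v' • x) := by rw [h2, neg_neg]
    rw [h3']
    funext k
    simp only [Pi.add_apply, Pi.sub_apply, Pi.smul_apply, Pi.neg_apply, smul_eq_mul]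
    ring
  obtain ⟨e, e', he, he', hee, heW, he'W⟩ := exists_hyp_pair_orth_le_one Q hQ h3
    (Submodule.span F {x}) (finrank_span_singleton_le' x)
  have hxe : QuadraticMap.polar (⇑Q) x e = 0 := heW x (Submodule.mem_span_singleton_self x)
  have hxe' : QuadraticMap.polar (⇑Q) x e' = 0 := he'W x (Submodule.mem_span_singleton_self x)
  have he'e : QuadraticMap.polar (⇑Q) e' e = 1 := by rw [QuadraticMap.polar_comm]; exact hee
  have hex : e ∉ Submodule.span F {x} := by
    intro h
    obtain ⟨t, rfl⟩ := Submodule.mem_span_singleton.mp h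
    rw [QuadraticMap.polar_smul_left, hxe', smul_zero] at hee
    exact zero_ne_one hee
  have he'x : e' ∉ Submodule.span F {x} := by
    intro h
    obtain ⟨t, rfl⟩ := Submodule.mem_span_singleton.mp h
    rw [QuadraticMap.polar_smul_right, QuadraticMap.polar_comm (⇑Q) e x, hxe, smul_zero] at hee
    exact zero_ne_one hee
  obtain ⟨α₁, β₁, h1⟩ := stepa e he hxe hex
  obtain ⟨α₂, β₂, h2⟩ := stepa e' he' hxe' he'x
  have hβ : β₁ = 0 := by
    have h4 := congrArg (fun w => QuadraticMap.polar (⇑Q) w e') (h1.symm.trans h2)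
    simp only [QuadraticMap.polar_add_left, QuadraticMap.polar_smul_left, hxe', hee,
      polar_self', he', smul_eq_mul, mul_zero, mul_one, zero_add] at h4
    exact h4
  rw [hβ, zero_smul, add_zero] at h1
  have hc0 : α₁ ≠ 0 := by
    intro h0
    rw [h0, zero_smul] at h1
    exact act_ne_zero g hx0 h1
  refine ⟨α₁, hc0, h1, ?_⟩
  obtain ⟨y, hy, hxy⟩ := exists_hyp_partner Q (fun a ha => hQ.1 a ha) x hx0 hx
  have stepc : ∀ (v : ι → F), Q v = 0 → QuadraticMap.polar (⇑Q) x v = 0 →
      ∃ t : F, act g v = α₁⁻¹ • v + t • x := by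
    intro v hv hxv
    have h5 := key g hg v hv hxv y
    rw [h1, QuadraticMap.polar_smul_left, hxy, smul_eq_mul, mul_one, one_smul] at h5
    obtain ⟨p, hp⟩ : ∃ p, p = QuadraticMap.polar (⇑Q) (act g v) y := ⟨_, rfl⟩
    rw [← hp] at h5
    refine ⟨p - α₁⁻¹ * QuadraticMap.polar (⇑Q) v y, ?_⟩
    have h6 : α₁ • act g v = v - QuadraticMap.polar (⇑Q) v y • x + (p * α₁) • x := by
      rw [← h5]
      funext k
      simp only [Pi.add_apply, Pi.sub_apply, Pi.smul_apply, smul_eq_mul]
      ring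
    calc act g v = α₁⁻¹ • (α₁ • act g v) := (inv_smul_smul₀ hc0 _).symm
      _ = α₁⁻¹ • (v - QuadraticMap.polar (⇑Q) v y • x + (p * α₁) • x) := by rw [h6]
      _ = α₁⁻¹ • v + (p - α₁⁻¹ * QuadraticMap.polar (⇑Q) v y) • x := by
        funext k
        simp only [Pi.add_apply, Pi.sub_apply, Pi.smul_apply, smul_eq_mul]
        field_simp
        ring
  intro v hxv
  obtain ⟨s, hsA, hs, a, b, hz⟩ := exists_sing_decomp Q (perp Q {x}) e e' he he' hee
    ((mem_perp_singleton Q x e).mpr hxe) ((mem_perp_singleton Q x e').mpr hxe') v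
    ((mem_perp_singleton Q x v).mpr hxv)
  have hxs : QuadraticMap.polar (⇑Q) x s = 0 := (mem_perp_singleton Q x s).mp hsA
  obtain ⟨t₁, ht₁⟩ := stepc s hs hxs
  obtain ⟨t₂, ht₂⟩ := stepc e he hxe
  obtain ⟨t₃, ht₃⟩ := stepc e' he' hxe'
  refine ⟨t₁ + a * t₂ + b * t₃, ?_⟩
  rw [hz, act_add, act_add, act_smul, act_smul, ht₁, ht₂, ht₃]
  funext k
  simp only [Pi.add_apply, Pi.sub_apply, Pi.smul_apply, smul_eq_mul]
  ring

/-- The centraliser of `R_x`: an isometry commuting with all `E_{x,v}(1)` is `±` an Eichler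
transformation at `x`. -/
theorem centralizer_structure (Q : QuadraticForm F (ι → F))
    (hQ : (QuadraticMap.polarBilin Q).Nondegenerate) (h3 : HasTS3 Q) (x : ι → F)
    (hx0 : x ≠ 0) (hx : Q x = 0) (g : ↥(Cfsg.isometryGroup F (⇑Q)))
    (hg : ∀ (v : ι → F) (hv : Q v = 0) (hxv : QuadraticMap.polar (⇑Q) x v = 0),
      g * siegelG Q x v hx hv hxv 1 = siegelG Q x v hx hv hxv 1 * g) :
    ∃ c : F, c * c = 1 ∧ act g x = c • x ∧
      ∃ (v₀ : ι → F) (h : QuadraticMap.polar (⇑Q) x v₀ = 0),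
        ∀ z : ι → F, act g z = c • act (eichG Q x v₀ hx h) z := by
  obtain ⟨c, hc0, hgx, hgv⟩ := commute_siegel_structure Q hQ h3 x hx0 hx g hg
  have h6 := six_le_of_hasTS3 Q hQ h3
  have h1 := finrank_span_singleton_le' (F := F) x
  obtain ⟨x₁, hx₁, hx₁W⟩ := exists_anisotropic_orthogonal Q hQ (Submodule.span F {x})
    (by omega)
  have hxx₁ : QuadraticMap.polar (⇑Q) x x₁ = 0 := by
    rw [QuadraticMap.polar_comm]
    exact hx₁W x (Submodule.mem_span_singleton_self x)
  obtain ⟨t, ht⟩ := hgv x₁ hxx₁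
  have hcc : c⁻¹ * c⁻¹ = 1 := by
    have h2 : Q (act g x₁) = Q x₁ := Q_act Q g x₁
    rw [ht, Q_add', QuadraticMap.map_smul, QuadraticMap.map_smul, hx,
      QuadraticMap.polar_smul_left, QuadraticMap.polar_smul_right,
      QuadraticMap.polar_comm (⇑Q) x₁ x, hxx₁] at h2
    simp only [smul_eq_mul, mul_zero, add_zero] at h2
    have h4 : (c⁻¹ * c⁻¹ - 1) * Q x₁ = 0 := by linear_combination h2
    rcases mul_eq_zero.mp h4 with h5 | h5
    · linear_combination h5
    · exact absurd h5 hx₁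
  have hcinv : c⁻¹ = c := by
    have : c * (c⁻¹ * c⁻¹) = c⁻¹ := by
      rw [← mul_assoc, mul_inv_cancel₀ hc0, one_mul]
    rw [hcc, mul_one] at this
    exact this.symm
  have hc : c * c = 1 := by
    rw [hcinv] at hcc
    exact hcc
  obtain ⟨y, hy, hxy⟩ := exists_hyp_partner Q (fun a ha => hQ.1 a ha) x hx0 hx
  refine ⟨c, hc, hgx, ?_⟩
  apply exists_eich_of_scal Q x y hx hy hxy g c hc hgx
  intro v hv
  obtain ⟨t, ht⟩ := hgv v hv
  rw [hcinv] at ht
  exact ⟨t, ht⟩

/-- `g` moves every vector inside `W`. -/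
def Moves {Qf : (ι → F) → F} (g : ↥(Cfsg.isometryGroup F Qf)) (W : Submodule F (ι → F)) :
    Prop :=
  ∀ z : ι → F, act g z - z ∈ W

theorem moves_siegelG (Q : QuadraticForm F (ι → F)) (u v : ι → F) (hu : Q u = 0)
    (hv : Q v = 0) (huv : QuadraticMap.polar (⇑Q) u v = 0) (c : F) :
    Moves (siegelG Q u v hu hv huv c) (Submodule.span F {u, v}) := by
  intro z
  rw [act_siegelG, add_sub_cancel_left]
  apply Submodule.smul_mem
  apply Submodule.sub_mem
  · exact Submodule.smul_mem _ _ (Submodule.subset_span (by simp))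
  · exact Submodule.smul_mem _ _ (Submodule.subset_span (by simp))

theorem moves_eichG (Q : QuadraticForm F (ι → F)) (x v : ι → F) (hx : Q x = 0)
    (hxv : QuadraticMap.polar (⇑Q) x v = 0) :
    Moves (eichG Q x v hx hxv) (Submodule.span F {x, v}) := by
  intro z
  rw [act_eichG]
  have e : z + QuadraticMap.polar (⇑Q) x z • v - QuadraticMap.polar (⇑Q) v z • x
      - (Q v * QuadraticMap.polar (⇑Q) x z) • x - z
      = QuadraticMap.polar (⇑Q) x z • v - QuadraticMap.polar (⇑Q) v z • x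
        - (Q v * QuadraticMap.polar (⇑Q) x z) • x := by abel
  rw [e]
  apply Submodule.sub_mem
  · apply Submodule.sub_mem
    · exact Submodule.smul_mem _ _ (Submodule.subset_span (by simp))
    · exact Submodule.smul_mem _ _ (Submodule.subset_span (by simp))
  · exact Submodule.smul_mem _ _ (Submodule.subset_span (by simp))

theorem Moves.mono {Qf : (ι → F) → F} {g : ↥(Cfsg.isometryGroup F Qf)}
    {W W' : Submodule F (ι → F)} (h : Moves g W) (hle : W ≤ W') : Moves g W' :=
  fun z => hle (h z)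

theorem Moves.conj {Qf : (ι → F) → F} {g : ↥(Cfsg.isometryGroup F Qf)}
    {W : Submodule F (ι → F)} (h : Moves g W) (a : ↥(Cfsg.isometryGroup F Qf)) :
    Moves (a * g * a⁻¹)
      (W.map (Matrix.mulVecLin ((a : Matrix.GeneralLinearGroup ι F) : Matrix ι ι F))) := by
  intro z
  refine Submodule.mem_map.mpr ⟨act g (act a⁻¹ z) - act a⁻¹ z, h _, ?_⟩
  show act a (act g (act a⁻¹ z) - act a⁻¹ z) = _
  rw [act_sub, act_act_inv, act_mul, act_mul]

theorem Moves.mul {Qf : (ι → F) → F} {g g' : ↥(Cfsg.isometryGroup F Qf)}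
    {W W' : Submodule F (ι → F)} (h : Moves g W) (h' : Moves g' W') :
    Moves (g * g') (W ⊔ W') := by
  intro z
  have e : act (g * g') z - z = (act g (act g' z) - act g' z) + (act g' z - z) := by
    rw [act_mul]; abel
  rw [e]
  exact Submodule.add_mem_sup (h _) (h' z)

/-- A scalar multiple of a small isometry that is again small is the isometry itself. -/
theorem scalar_eq_one_of_moves {Qf : (ι → F) → F} {g g' : ↥(Cfsg.isometryGroup F Qf)}
    {W W' : Submodule F (ι → F)} (hg : Moves g W) (hg' : Moves g' W')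
    (hdim : finrank F W + finrank F W' < finrank F (ι → F)) (l : F)
    (h : ∀ z : ι → F, act g z = l • act g' z) : l = 1 := by
  by_contra hl
  have hl' : l - 1 ≠ 0 := sub_ne_zero.mpr hl
  have htop : (⊤ : Submodule F (ι → F)) ≤ W ⊔ W' := by
    intro z _
    have e : (l - 1) • z = (act g z - z) - l • (act g' z - z) := by
      rw [h z]
      funext k
      simp only [Pi.add_apply, Pi.sub_apply, Pi.smul_apply, smul_eq_mul]
      ring
    have hm : (l - 1) • z ∈ W ⊔ W' := by
      rw [e]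
      exact Submodule.sub_mem _ (Submodule.mem_sup_left (hg z))
        (Submodule.smul_mem _ _ (Submodule.mem_sup_right (hg' z)))
    have := Submodule.smul_mem (W ⊔ W') (l - 1)⁻¹ hm
    rwa [inv_smul_smul₀ hl'] at this
  have h1 := Submodule.finrank_mono htop
  have h2 := Submodule.finrank_add_le_finrank_add_finrank W W'
  rw [finrank_top] at h1
  omega

/-- Central elements of `Ω` are scalar. -/
theorem center_scalar (Q : QuadraticForm F (ι → F))
    (hQ : (QuadraticMap.polarBilin Q).Nondegenerate) (h3 : HasTS3 Q)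
    (z₀ : ↥(Cfsg.Omega F (⇑Q))) (hz : z₀ ∈ Subgroup.center ↥(Cfsg.Omega F (⇑Q))) :
    ∃ l : F, ∀ x : ι → F, act z₀.1 x = l • x := by
  apply scalar_of_commute_siegel Q hQ h3
  intro u v hu hv huv x
  have h1 := Subgroup.mem_center_iff.mp hz
    ⟨siegelG Q u v hu hv huv 1, siegelG_mem_commutator Q hQ h3 u v hu hv huv 1⟩
  have h2 := congrArg (fun k : ↥(Cfsg.Omega F (⇑Q)) => act k.1 x) h1
  simp only [Subgroup.coe_mul, act_mul] at h2
  exact h2.symm

theorem mk_eq_imp (Q : QuadraticForm F (ι → F))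
    (hQ : (QuadraticMap.polarBilin Q).Nondegenerate) (h3 : HasTS3 Q)
    (a b : ↥(Cfsg.Omega F (⇑Q)))
    (h : (QuotientGroup.mk a : Cfsg.POmega F (⇑Q)) = QuotientGroup.mk b) :
    ∃ l : F, ∀ z : ι → F, act b.1 z = l • act a.1 z := by
  have h1 : a⁻¹ * b ∈ Subgroup.center ↥(Cfsg.Omega F (⇑Q)) := QuotientGroup.eq.mp h
  obtain ⟨l, hl⟩ := center_scalar Q hQ h3 _ h1
  refine ⟨l, fun z => ?_⟩
  have h2 := hl z
  rw [Subgroup.coe_mul, act_mul, Subgroup.coe_inv] at h2
  have h3' := congrArg (act a.1) h2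
  rw [act_act_inv, act_smul] at h3'
  exact h3'

theorem mk_eq_of_scalar (Q : QuadraticForm F (ι → F))
    (a b : ↥(Cfsg.Omega F (⇑Q))) (l : F) (h : ∀ z : ι → F, act b.1 z = l • act a.1 z) :
    (QuotientGroup.mk a : Cfsg.POmega F (⇑Q)) = QuotientGroup.mk b := by
  rw [QuotientGroup.eq, Subgroup.mem_center_iff]
  intro g
  apply Subtype.ext
  apply act_ext
  intro z
  have hs : ∀ w : ι → F, act (a⁻¹ * b : ↥(Cfsg.Omega F (⇑Q))).1 w = l • w := by
    intro w
    rw [Subgroup.coe_mul, act_mul, Subgroup.coe_inv, h w, act_smul, act_inv_act]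
  show act (g.1 * (a⁻¹ * b : ↥(Cfsg.Omega F (⇑Q))).1) z
    = act ((a⁻¹ * b : ↥(Cfsg.Omega F (⇑Q))).1 * g.1) z
  rw [act_mul, act_mul, hs, hs, act_smul]

/-- Two small elements of `Ω` with the same image in `PΩ` are equal. -/
theorem eq_of_mk_eq_of_moves (Q : QuadraticForm F (ι → F))
    (hQ : (QuadraticMap.polarBilin Q).Nondegenerate) (h3 : HasTS3 Q)
    (a b : ↥(Cfsg.Omega F (⇑Q))) (W W' : Submodule F (ι → F)) (ha : Moves a.1 W)
    (hb : Moves b.1 W') (hdim : finrank F W + finrank F W' < finrank F (ι → F))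
    (h : (QuotientGroup.mk a : Cfsg.POmega F (⇑Q)) = QuotientGroup.mk b) : a = b := by
  obtain ⟨l, hl⟩ := mk_eq_imp Q hQ h3 a b h
  have h1 := scalar_eq_one_of_moves hb ha (by omega) l hl
  apply Subtype.ext
  apply act_ext
  intro z
  rw [hl z, h1, one_smul]

/-- If the image of `a` commutes in `PΩ` with the image of a small element `s`, then `a` and
`s` commute. -/
theorem commute_of_mk_commute (Q : QuadraticForm F (ι → F))
    (hQ : (QuadraticMap.polarBilin Q).Nondegenerate) (h3 : HasTS3 Q)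
    (a s : ↥(Cfsg.Omega F (⇑Q))) (W : Submodule F (ι → F)) (hs : Moves s.1 W)
    (hdim : 2 * finrank F W < finrank F (ι → F))
    (h : (QuotientGroup.mk a : Cfsg.POmega F (⇑Q)) * QuotientGroup.mk s
      = QuotientGroup.mk s * QuotientGroup.mk a) : a * s = s * a := by
  have h1 : (QuotientGroup.mk (a * s * a⁻¹) : Cfsg.POmega F (⇑Q)) = QuotientGroup.mk s := by
    rw [QuotientGroup.mk_mul, QuotientGroup.mk_mul, h, QuotientGroup.mk_inv,
      mul_inv_cancel_right]
  have hm : Moves (a * s * a⁻¹ : ↥(Cfsg.Omega F (⇑Q))).1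
      (W.map (Matrix.mulVecLin ((a.1 : Matrix.GeneralLinearGroup ι F) : Matrix ι ι F))) := by
    have := hs.conj a.1
    exact this
  have h2 := eq_of_mk_eq_of_moves Q hQ h3 (a * s * a⁻¹) s _ W hm hs
    (by rw [finrank_map_iso]; omega) h1
  calc a * s = (a * s * a⁻¹) * a := by group
    _ = s * a := by rw [h2]

/-- Siegel transformations as elements of `Ω`. -/
def sieO (Q : QuadraticForm F (ι → F))
    (hQ : (QuadraticMap.polarBilin Q).Nondegenerate) (h3 : HasTS3 Q) (u v : ι → F)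
    (hu : Q u = 0) (hv : Q v = 0) (huv : QuadraticMap.polar (⇑Q) u v = 0) (c : F) :
    ↥(Cfsg.Omega F (⇑Q)) :=
  ⟨siegelG Q u v hu hv huv c, siegelG_mem_commutator Q hQ h3 u v hu hv huv c⟩

/-- Eichler transformations as elements of `Ω`. -/
def eichO (Q : QuadraticForm F (ι → F))
    (hQ : (QuadraticMap.polarBilin Q).Nondegenerate) (h3 : HasTS3 Q) (x v : ι → F)
    (hx : Q x = 0) (hxv : QuadraticMap.polar (⇑Q) x v = 0) : ↥(Cfsg.Omega F (⇑Q)) :=
  ⟨eichG Q x v hx hxv, eichG_mem_commutator Q hQ h3 x v hx hxv⟩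

theorem sieO_coe (Q : QuadraticForm F (ι → F))
    (hQ : (QuadraticMap.polarBilin Q).Nondegenerate) (h3 : HasTS3 Q) (u v : ι → F)
    (hu : Q u = 0) (hv : Q v = 0) (huv : QuadraticMap.polar (⇑Q) u v = 0) (c : F) :
    (sieO Q hQ h3 u v hu hv huv c).1 = siegelG Q u v hu hv huv c := rfl

theorem eichO_coe (Q : QuadraticForm F (ι → F))
    (hQ : (QuadraticMap.polarBilin Q).Nondegenerate) (h3 : HasTS3 Q) (x v : ι → F)
    (hx : Q x = 0) (hxv : QuadraticMap.polar (⇑Q) x v = 0) :
    (eichO Q hQ h3 x v hx hxv).1 = eichG Q x v hx hxv := rfl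

end

end Cfsg.Agent.H49
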