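import Mathlib
import Cfsg.Agent.H49.AutBase

set_option autoImplicit false
set_option linter.unusedSectionVars false
set_option linter.unusedSimpArgs false
set_option linter.unusedVariables false

/-! Helper lemmas (helper49): unipotent subgroups of `Ω` attached to a chain of subspaces; they
are `p`-groups in characteristic `p`. Eigenvalues of `p`-elements. -/

namespace Cfsg.Agent.H49

open Module Matrix

section
variable {ι : Type} [Fintype ι] [DecidableEq ι] {F : Type*} [Field F]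

theorem perp_eq_orthogonal (Q : QuadraticForm F (ι → F)) (L : Submodule F (ι → F)) :
    perp Q (L : Set (ι → F)) = LinearMap.BilinForm.orthogonal (QuadraticMap.polarBilin Q) L := by
  ext v
  rw [mem_perp, LinearMap.BilinForm.mem_orthogonal_iff]
  rfl

/-- A vector orthogonal to `L^⊥` lies in `L`. -/
theorem mem_of_perp_perp (Q : QuadraticForm F (ι → F))
    (hQ : (QuadraticMap.polarBilin Q).Nondegenerate) (L : Submodule F (ι → F)) (v : ι → F)
    (h : ∀ z ∈ perp Q (L : Set (ι → F)), QuadraticMap.polar (⇑Q) z v = 0) : v ∈ L := by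
  rw [← LinearMap.BilinForm.orthogonal_orthogonal hQ (polarBilin_isRefl Q) L,
    LinearMap.BilinForm.mem_orthogonal_iff]
  intro z hz
  rw [← perp_eq_orthogonal] at hz
  exact h z hz

theorem finrank_perp (Q : QuadraticForm F (ι → F))
    (hQ : (QuadraticMap.polarBilin Q).Nondegenerate) (L : Submodule F (ι → F)) :
    finrank F (perp Q (L : Set (ι → F))) + finrank F L = finrank F (ι → F) := by
  rw [perp_eq_orthogonal]
  have := LinearMap.BilinForm.finrank_orthogonal hQ L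
  have h2 := Submodule.finrank_le L
  omega

theorem siegelG_inv (Q : QuadraticForm F (ι → F)) (u v : ι → F) (hu : Q u = 0)
    (hv : Q v = 0) (huv : QuadraticMap.polar (⇑Q) u v = 0) (c : F) :
    (siegelG Q u v hu hv huv c)⁻¹ = siegelG Q u v hu hv huv (-c) := by
  rw [inv_eq_iff_mul_eq_one, siegelG_mul]
  apply act_ext
  intro z
  rw [act_siegelG, act_one, add_neg_cancel, zero_smul, add_zero]

/-- `g` acts trivially on the sections of the chain `0 ≤ W₁ ≤ W₂ ≤ V`. -/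
def ChainP {Qf : (ι → F) → F} (W₁ W₂ : Submodule F (ι → F))
    (g : ↥(Cfsg.isometryGroup F Qf)) : Prop :=
  (∀ z : ι → F, act g z - z ∈ W₂) ∧ (∀ z ∈ W₂, act g z - z ∈ W₁) ∧ (∀ z ∈ W₁, act g z = z)

theorem chainP_one {Qf : (ι → F) → F} (W₁ W₂ : Submodule F (ι → F)) :
    ChainP W₁ W₂ (1 : ↥(Cfsg.isometryGroup F Qf)) := by
  refine ⟨fun z => ?_, fun z _ => ?_, fun z _ => act_one z⟩
  · rw [act_one, sub_self]; exact W₂.zero_mem
  · rw [act_one, sub_self]; exact W₁.zero_mem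

theorem ChainP.mul {Qf : (ι → F) → F} {W₁ W₂ : Submodule F (ι → F)} (hle : W₁ ≤ W₂)
    {g h : ↥(Cfsg.isometryGroup F Qf)} (hg : ChainP W₁ W₂ g) (hh : ChainP W₁ W₂ h) :
    ChainP W₁ W₂ (g * h) := by
  have e : ∀ z : ι → F, act (g * h) z - z = (act g (act h z) - act h z) + (act h z - z) := by
    intro z
    rw [act_mul]; abel
  refine ⟨fun z => ?_, fun z hz => ?_, fun z hz => ?_⟩
  · rw [e]
    exact W₂.add_mem (hg.1 _) (hh.1 z)
  · rw [e]
    have h1 : act h z ∈ W₂ := by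
      have : act h z = z + (act h z - z) := by abel
      rw [this]
      exact W₂.add_mem hz (hle (hh.2.1 z hz))
    exact W₁.add_mem (hg.2.1 _ h1) (hh.2.1 z hz)
  · rw [act_mul, hh.2.2 z hz, hg.2.2 z hz]

theorem ChainP.conj {Qf : (ι → F) → F} {W₁ W₂ : Submodule F (ι → F)}
    {h : ↥(Cfsg.isometryGroup F Qf)} (hh : ChainP W₁ W₂ h) (g : ↥(Cfsg.isometryGroup F Qf))
    (h1 : ∀ w ∈ W₁, act g w ∈ W₁) (h2 : ∀ w ∈ W₂, act g w ∈ W₂)
    (h1' : ∀ w ∈ W₁, act g⁻¹ w ∈ W₁) (h2' : ∀ w ∈ W₂, act g⁻¹ w ∈ W₂) :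
    ChainP W₁ W₂ (g * h * g⁻¹) := by
  have e : ∀ z : ι → F, act (g * h * g⁻¹) z - z = act g (act h (act g⁻¹ z) - act g⁻¹ z) := by
    intro z
    rw [act_sub, act_act_inv, act_mul, act_mul]
  refine ⟨fun z => ?_, fun z hz => ?_, fun z hz => ?_⟩
  · rw [e]
    exact h2 _ (hh.1 _)
  · rw [e]
    exact h1 _ (hh.2.1 _ (h2' z hz))
  · rw [act_mul, act_mul, hh.2.2 _ (h1' z hz), act_act_inv]

/-- The unipotent subgroup of `Ω` attached to the chain `0 ≤ W₁ ≤ W₂ ≤ V`. -/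
def chainSub (Qf : (ι → F) → F) (W₁ W₂ : Submodule F (ι → F)) (hle : W₁ ≤ W₂) :
    Subgroup ↥(Cfsg.Omega F Qf) where
  carrier := {g | ChainP W₁ W₂ g.1 ∧ ChainP W₁ W₂ g.1⁻¹}
  mul_mem' := by
    rintro a b ⟨ha, ha'⟩ ⟨hb, hb'⟩
    refine ⟨ha.mul hle hb, ?_⟩
    show ChainP W₁ W₂ (a.1 * b.1)⁻¹
    rw [_root_.mul_inv_rev]
    exact hb'.mul hle ha'
  one_mem' := by
    refine ⟨chainP_one W₁ W₂, ?_⟩
    show ChainP W₁ W₂ (1 : ↥(Cfsg.isometryGroup F Qf))⁻¹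
    rw [inv_one]
    exact chainP_one W₁ W₂
  inv_mem' := by
    rintro a ⟨ha, ha'⟩
    refine ⟨ha', ?_⟩
    show ChainP W₁ W₂ (a.1⁻¹)⁻¹
    rw [inv_inv]
    exact ha

theorem mem_chainSub {Qf : (ι → F) → F} (W₁ W₂ : Submodule F (ι → F)) (hle : W₁ ≤ W₂)
    (g : ↥(Cfsg.Omega F Qf)) :
    g ∈ chainSub Qf W₁ W₂ hle ↔ ChainP W₁ W₂ g.1 ∧ ChainP W₁ W₂ g.1⁻¹ := Iff.rfl

/-- An element stabilising the chain normalises the chain subgroup. -/
theorem le_normalizer_chainSub {Qf : (ι → F) → F} (W₁ W₂ : Submodule F (ι → F))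
    (hle : W₁ ≤ W₂) (P : Subgroup ↥(Cfsg.Omega F Qf))
    (h1 : ∀ g ∈ P, ∀ w ∈ W₁, act g.1 w ∈ W₁) (h2 : ∀ g ∈ P, ∀ w ∈ W₂, act g.1 w ∈ W₂) :
    P ≤ Subgroup.normalizer (chainSub Qf W₁ W₂ hle : Set ↥(Cfsg.Omega F Qf)) := by
  have key : ∀ g ∈ P, ∀ h ∈ chainSub Qf W₁ W₂ hle, g * h * g⁻¹ ∈ chainSub Qf W₁ W₂ hle := by
    intro g hg h hh
    have hg' := P.inv_mem hg
    refine ⟨hh.1.conj g.1 (h1 g hg) (h2 g hg) (h1 _ hg') (h2 _ hg'), ?_⟩
    have e : (g * h * g⁻¹ : ↥(Cfsg.Omega F Qf)).1⁻¹ = g.1 * h.1⁻¹ * g.1⁻¹ := by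
      show (g.1 * h.1 * g.1⁻¹)⁻¹ = _
      group
    rw [e]
    exact hh.2.conj g.1 (h1 g hg) (h2 g hg) (h1 _ hg') (h2 _ hg')
  intro g hg
  rw [Subgroup.mem_normalizer_iff]
  intro h
  constructor
  · exact key g hg h
  · intro hh
    have := key g⁻¹ (P.inv_mem hg) _ hh
    have e : g⁻¹ * (g * h * g⁻¹) * g⁻¹⁻¹ = h := by group
    rwa [e] at this

theorem chainP_pow (p : ℕ) [Fact p.Prime] [CharP F p] [Nonempty ι] {Qf : (ι → F) → F}
    (W₁ W₂ : Submodule F (ι → F)) (g : ↥(Cfsg.isometryGroup F Qf)) (hg : ChainP W₁ W₂ g) :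
    g ^ (p ^ 2) = 1 := by
  obtain ⟨M, hM⟩ : ∃ M : Matrix ι ι F, M = ((g : Matrix.GeneralLinearGroup ι F) : Matrix ι ι F) :=
    ⟨_, rfl⟩
  have hN : ∀ z : ι → F, (M - 1) *ᵥ z = act g z - z := by
    intro z
    rw [Matrix.sub_mulVec, Matrix.one_mulVec, hM]
    rfl
  have h3 : (M - 1) ^ 3 = 0 := by
    apply matrix_ext_mulVec
    intro z
    rw [pow_succ, pow_two, ← Matrix.mulVec_mulVec, ← Matrix.mulVec_mulVec, Matrix.zero_mulVec,
      hN z, hN, hN]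
    have h1 := hg.1 z
    have h2 := hg.2.1 _ h1
    rw [hg.2.2 _ h2, sub_self]
  have hp2 : 3 ≤ p ^ 2 := by
    have := (Fact.out : p.Prime).two_le
    nlinarith
  have h4 : (M - 1) ^ (p ^ 2) = 0 := pow_eq_zero_of_le hp2 h3
  have h5 : (M - 1) ^ (p ^ 2) = M ^ (p ^ 2) - 1 ^ (p ^ 2) :=
    sub_pow_char_pow_of_commute (p := p) (n := 2) (Commute.one_right M)
  rw [h4, one_pow] at h5
  have h6 : M ^ (p ^ 2) = 1 := (sub_eq_zero.mp h5.symm)
  apply Subtype.ext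
  apply Units.ext
  show (((g ^ (p ^ 2) : ↥(Cfsg.isometryGroup F Qf)) : Matrix.GeneralLinearGroup ι F) :
    Matrix ι ι F) = 1
  rw [Subgroup.coe_pow, Units.val_pow_eq_pow_val, ← hM, h6]

theorem chainSub_isPGroup (p : ℕ) [Fact p.Prime] [CharP F p] [Nonempty ι] {Qf : (ι → F) → F}
    (W₁ W₂ : Submodule F (ι → F)) (hle : W₁ ≤ W₂) :
    IsPGroup p ↥(chainSub Qf W₁ W₂ hle) := by
  intro g
  refine ⟨2, ?_⟩
  apply Subtype.ext
  apply Subtype.ext
  show (g.1.1) ^ (p ^ 2) = 1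
  exact chainP_pow p W₁ W₂ g.1.1 g.2.1

/-- A chain subgroup normalised by a Sylow `p`-subgroup is contained in it. -/
theorem chainSub_le_sylow (p : ℕ) [Fact p.Prime] [CharP F p] [Nonempty ι] {Qf : (ι → F) → F}
    (W₁ W₂ : Submodule F (ι → F)) (hle : W₁ ≤ W₂) (P : Sylow p ↥(Cfsg.Omega F Qf))
    (h1 : ∀ g ∈ P, ∀ w ∈ W₁, act g.1 w ∈ W₁) (h2 : ∀ g ∈ P, ∀ w ∈ W₂, act g.1 w ∈ W₂) :
    chainSub Qf W₁ W₂ hle ≤ (P : Subgroup ↥(Cfsg.Omega F Qf)) := by
  have hsup : IsPGroup p ↥((P : Subgroup ↥(Cfsg.Omega F Qf)) ⊔ chainSub Qf W₁ W₂ hle) :=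
    IsPGroup.to_sup_of_normal_right' P.isPGroup' (chainSub_isPGroup p W₁ W₂ hle)
      (le_normalizer_chainSub W₁ W₂ hle _ h1 h2)
  have := P.is_maximal' hsup le_sup_left
  rw [← this]
  exact le_sup_right

theorem act_pow_fix {Qf : (ι → F) → F} (g : ↥(Cfsg.isometryGroup F Qf)) (x : ι → F)
    (h : act g x = x) (m : ℕ) : act (g ^ m) x = x := by
  induction m with
  | zero => rw [pow_zero, act_one]
  | succ k ih => rw [pow_succ, act_mul, h, ih]

theorem act_pow_eigen {Qf : (ι → F) → F} (g : ↥(Cfsg.isometryGroup F Qf)) (x : ι → F) (c : F)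
    (h : act g x = c • x) (m : ℕ) : act (g ^ m) x = c ^ m • x := by
  induction m with
  | zero => rw [pow_zero, act_one, pow_zero, one_smul]
  | succ k ih => rw [pow_succ, act_mul, h, act_smul, ih, smul_smul, pow_succ, mul_comm]

theorem act_pow_tri {Qf : (ι → F) → F} (g : ↥(Cfsg.isometryGroup F Qf)) (x l : ι → F) (b : F)
    (hx : act g x = x) (hl : ∃ a : F, act g l = a • x + b • l) (m : ℕ) :
    ∃ a : F, act (g ^ m) l = a • x + b ^ m • l := by
  obtain ⟨a, ha⟩ := hl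
  induction m with
  | zero => exact ⟨0, by rw [pow_zero, act_one, pow_zero, one_smul, zero_smul, zero_add]⟩
  | succ k ih =>
    obtain ⟨a', ha'⟩ := ih
    refine ⟨a + b * a', ?_⟩
    rw [pow_succ, act_mul, ha, act_add, act_smul, act_smul, act_pow_fix g x hx, ha']
    funext i
    simp only [Pi.add_apply, Pi.smul_apply, smul_eq_mul]
    ring

/-- In characteristic `p`, a scalar of `p`-power order is `1`. -/
theorem eq_one_of_pow_char (p : ℕ) [Fact p.Prime] [CharP F p] (c : F) (k : ℕ)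
    (h : c ^ (p ^ k) = 1) : c = 1 := by
  have h1 : (c - 1) ^ (p ^ k) = 0 := by
    rw [sub_pow_char_pow, h, one_pow, sub_self]
  exact sub_eq_zero.mp (pow_eq_zero_iff (pow_ne_zero _ (Fact.out : p.Prime).ne_zero) |>.mp h1)

/-- A `p`-element fixing a point fixes its vectors. -/
theorem eigen_one_of_pow (p : ℕ) [Fact p.Prime] [CharP F p] {Qf : (ι → F) → F}
    (g : ↥(Cfsg.isometryGroup F Qf)) (k : ℕ) (hg : g ^ (p ^ k) = 1) (x : ι → F) (hx0 : x ≠ 0)
    (c : F) (h : act g x = c • x) : c = 1 := by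
  have h1 := act_pow_eigen g x c h (p ^ k)
  rw [hg, act_one] at h1
  apply eq_one_of_pow_char p c k
  have h2 : (c ^ (p ^ k) - 1) • x = 0 := by rw [sub_smul, one_smul, ← h1, sub_self]
  rcases smul_eq_zero.mp h2 with h3 | h3
  · exact sub_eq_zero.mp h3
  · exact absurd h3 hx0

theorem eigen_one_of_pow_tri (p : ℕ) [Fact p.Prime] [CharP F p] {Qf : (ι → F) → F}
    (g : ↥(Cfsg.isometryGroup F Qf)) (k : ℕ) (hg : g ^ (p ^ k) = 1) (x l : ι → F)
    (hl : l ∉ Submodule.span F {x}) (b : F) (hx : act g x = x)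
    (h : ∃ a : F, act g l = a • x + b • l) : b = 1 := by
  obtain ⟨a, ha⟩ := act_pow_tri g x l b hx h (p ^ k)
  rw [hg, act_one] at ha
  apply eq_one_of_pow_char p b k
  by_contra hb
  apply hl
  have hb' : 1 - b ^ (p ^ k) ≠ 0 := sub_ne_zero.mpr (fun h => hb h.symm)
  have h2 : (1 - b ^ (p ^ k)) • l = a • x := by
    rw [sub_smul, one_smul]
    nth_rewrite 1 [ha]
    abel
  have h3 : l = (1 - b ^ (p ^ k))⁻¹ • (a • x) := by rw [← h2, inv_smul_smul₀ hb']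
  rw [h3]
  exact Submodule.smul_mem _ _ (Submodule.smul_mem _ _ (Submodule.mem_span_singleton_self x))

end

end Cfsg.Agent.H49
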