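import Mathlib
import Cfsg.Agent.H49.AutEich

set_option autoImplicit false
set_option linter.unusedSectionVars false
set_option linter.unusedSimpArgs false
set_option linter.unusedVariables false

/-! Helper lemmas (helper49): counting singular points and totally singular lines through a point
modulo the characteristic (Chevalley–Warning), and fixed points of `p`-groups on them. -/

namespace Cfsg.Agent.H49

open Module Matrix

/-- **Chevalley–Warning**, counting version: the number of zeros of a quadratic form on a space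
of dimension at least three over a finite field is divisible by the characteristic. -/
theorem card_zeros_dvd {F : Type*} [Field F] [Fintype F] {V : Type*} [AddCommGroup V]
    [Module F V] [FiniteDimensional F V] (Q : QuadraticForm F V)
    (h3 : 3 ≤ Module.finrank F V) (p : ℕ) [CharP F p] : p ∣ Nat.card {v : V // Q v = 0} := by
  classical
  set n := Module.finrank F V with hn
  let b : Module.Basis (Fin n) F V := Module.finBasis F V
  let T := Q.toBilin b
  let P : MvPolynomial (Fin n) F :=
    ∑ i, ∑ j, MvPolynomial.C (T (b i) (b j)) * MvPolynomial.X i * MvPolynomial.X j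
  have heval : ∀ x : Fin n → F, MvPolynomial.eval x P = Q (∑ i, x i • b i) := by
    intro x
    have h1 : Q (∑ i, x i • b i) = T (∑ i, x i • b i) (∑ i, x i • b i) := by
      conv_lhs => rw [← QuadraticMap.toQuadraticMap_toBilin Q b]
      rfl
    rw [h1]
    simp only [P, map_sum, map_mul, MvPolynomial.eval_C, MvPolynomial.eval_X, map_smul,
      LinearMap.coe_sum, Finset.sum_apply, LinearMap.smul_apply, smul_eq_mul, Finset.mul_sum]
    rw [Finset.sum_comm]
    refine Finset.sum_congr rfl fun i _ => Finset.sum_congr rfl fun j _ => ?_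
    ring
  have hdeg : P.totalDegree < Fintype.card (Fin n) := by
    have : P.totalDegree ≤ 2 := by
      apply MvPolynomial.totalDegree_finsetSum_le; intro i _
      apply MvPolynomial.totalDegree_finsetSum_le; intro j _
      calc (MvPolynomial.C (T (b i) (b j)) * MvPolynomial.X i * MvPolynomial.X j).totalDegree
          ≤ (MvPolynomial.C (T (b i) (b j)) * MvPolynomial.X i).totalDegree
            + (MvPolynomial.X j : MvPolynomial (Fin n) F).totalDegree :=
            MvPolynomial.totalDegree_mul _ _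
        _ ≤ ((MvPolynomial.C (T (b i) (b j)) : MvPolynomial (Fin n) F).totalDegree
            + (MvPolynomial.X i : MvPolynomial (Fin n) F).totalDegree)
            + (MvPolynomial.X j : MvPolynomial (Fin n) F).totalDegree :=
            Nat.add_le_add_right (MvPolynomial.totalDegree_mul _ _) _
        _ = 2 := by simp
    rw [Fintype.card_fin]; omega
  have hdvd := char_dvd_card_solutions p hdeg
  have e : {x : Fin n → F // MvPolynomial.eval x P = 0} ≃ {v : V // Q v = 0} :=
    Equiv.subtypeEquiv b.equivFun.symm.toEquiv (by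
      intro x
      rw [heval]
      simp [Module.Basis.equivFun_symm_apply])
  rw [← Nat.card_congr e, Nat.card_eq_fintype_card]
  exact hdvd

/-- Counting by fibres that are orbits of the (free) scalar action. -/
theorem not_dvd_card_of_fibres {F : Type*} [Field F] [Fintype F] (p : ℕ) [Fact p.Prime]
    {V : Type*} [AddCommGroup V] [Module F V] (S : Set V) [Finite S] {β : Type*}
    (Ψ : S → β) (hsurj : Function.Surjective Ψ)
    (hsmul : ∀ w ∈ S, ∀ c : F, c ≠ 0 → c • w ∈ S) (h0 : ∀ w ∈ S, w ≠ 0)
    (hfib : ∀ w w' : S, Ψ w = Ψ w' ↔ ∃ c : F, c ≠ 0 ∧ (w' : V) = c • (w : V))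
    (hS : p ∣ Nat.card S + 1) : ¬ p ∣ Nat.card β := by
  classical
  obtain ⟨r, hr⟩ := hsurj.hasRightInverse
  let f : β × Fˣ → S := fun bc =>
    ⟨(bc.2 : F) • (r bc.1 : V), hsmul _ (r bc.1).2 _ bc.2.ne_zero⟩
  have hΨf : ∀ bc : β × Fˣ, Ψ (f bc) = bc.1 := by
    intro bc
    have : Ψ (r bc.1) = Ψ (f bc) := (hfib _ _).mpr ⟨(bc.2 : F), bc.2.ne_zero, rfl⟩
    rw [← this, hr]
  have hinj : Function.Injective f := by
    rintro ⟨b, c⟩ ⟨b', c'⟩ h
    have hb : b = b' := by
      have := congrArg Ψ h
      rwa [hΨf, hΨf] at this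
    subst hb
    have h1 : (c : F) • (r b : V) = (c' : F) • (r b : V) := congrArg Subtype.val h
    have h2 : ((c : F) - (c' : F)) • (r b : V) = 0 := by rw [sub_smul, h1, sub_self]
    rcases smul_eq_zero.mp h2 with h3 | h3
    · have : c = c' := Units.ext (sub_eq_zero.mp h3)
      rw [this]
    · exact absurd h3 (h0 _ (r b).2)
  have hsurjf : Function.Surjective f := by
    intro w
    have h1 : Ψ (r (Ψ w)) = Ψ w := hr (Ψ w)
    obtain ⟨c, hc, hw⟩ := (hfib _ _).mp h1
    exact ⟨(Ψ w, Units.mk0 c hc), Subtype.ext hw.symm⟩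
  have hcard : Nat.card S = Nat.card β * (Fintype.card F - 1) := by
    rw [← Nat.card_congr (Equiv.ofBijective f ⟨hinj, hsurjf⟩), Nat.card_prod,
      Nat.card_eq_fintype_card (α := Fˣ), Fintype.card_units]
  intro hdvd
  rw [hcard] at hS
  have h1 : p ∣ 1 := (Nat.dvd_add_right (Dvd.dvd.mul_right hdvd _)).mp hS
  exact (Fact.out : p.Prime).one_lt.ne' (Nat.dvd_one.mp h1)

/-- A `p`-group acting on a set with an invariant subset of size prime to `p` has a fixed point
in the subset. -/
theorem exists_fixed_of_invariant {G α : Type*} [Group G] [MulAction G α] (p : ℕ)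
    [Fact p.Prime] (hG : IsPGroup p G) (s : Set α) (hinv : ∀ g : G, ∀ a ∈ s, g • a ∈ s)
    (hcard : ¬ p ∣ Nat.card s) : ∃ a ∈ s, ∀ g : G, g • a = a := by
  let S : SubMulAction G α := ⟨s, fun g a ha => hinv g a ha⟩
  have hcard' : ¬ p ∣ Nat.card ↥S := hcard
  obtain ⟨⟨a, ha⟩, hfix⟩ := hG.nonempty_fixed_point_of_prime_not_dvd_card (↥S) hcard'
  refine ⟨a, ha, fun g => ?_⟩
  have := hfix g
  exact congrArg Subtype.val this

section
variable {ι : Type} [Fintype ι] [DecidableEq ι] {F : Type*} [Field F]

/-- The set of non-zero singular vectors of a subspace. -/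
def singSet (Q : QuadraticForm F (ι → F)) (D : Submodule F (ι → F)) : Set (ι → F) :=
  {w | w ∈ D ∧ Q w = 0 ∧ w ≠ 0}

theorem card_singSet [Fintype F] (Q : QuadraticForm F (ι → F)) (D : Submodule F (ι → F))
    (hD : 3 ≤ finrank F D) (p : ℕ) [CharP F p] : p ∣ Nat.card (singSet Q D) + 1 := by
  classical
  have h1 := card_zeros_dvd (Q.comp D.subtype) hD p
  have e : {w : ↥D // (Q.comp D.subtype) w = 0} ≃ ({w : ι → F | w ∈ D ∧ Q w = 0} : Set (ι → F)) :=
    { toFun := fun w => ⟨w.1.1, w.1.2, w.2⟩
      invFun := fun w => ⟨⟨w.1, w.2.1⟩, w.2.2⟩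
      left_inv := fun w => rfl
      right_inv := fun w => rfl }
  rw [Nat.card_congr e, Nat.card_coe_set_eq] at h1
  have h2 : singSet Q D = {w : ι → F | w ∈ D ∧ Q w = 0} \ {0} := by
    ext w
    simp only [singSet, Set.mem_setOf_eq, Set.mem_diff, Set.mem_singleton_iff]
    tauto
  have h3 : (0 : ι → F) ∈ {w : ι → F | w ∈ D ∧ Q w = 0} := ⟨D.zero_mem, QuadraticMap.map_zero Q⟩
  rw [Nat.card_coe_set_eq, h2, Set.ncard_sdiff_singleton_add_one h3 (Set.toFinite _)]
  exact h1

/-- The number of singular points is prime to the characteristic. -/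
theorem card_spt_not_dvd [Fintype F] (Q : QuadraticForm F (ι → F))
    (hn : 3 ≤ finrank F (ι → F)) (p : ℕ) [Fact p.Prime] [CharP F p] :
    ¬ p ∣ Nat.card (SPt Q) := by
  have hS := card_singSet Q ⊤ (by rw [finrank_top]; exact hn) p
  apply not_dvd_card_of_fibres (F := F) p (singSet Q ⊤)
    (fun w => spanPt Q w.1 w.2.2.2 w.2.2.1) ?_ ?_ ?_ ?_ hS
  · intro q
    obtain ⟨x, hx0, hx, rfl⟩ := exists_spanPt_eq Q q
    exact ⟨⟨x, Submodule.mem_top, hx, hx0⟩, rfl⟩
  · rintro w ⟨_, hw, hw0⟩ c hc
    exact ⟨Submodule.mem_top, by rw [QuadraticMap.map_smul, hw, smul_zero],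
      smul_ne_zero hc hw0⟩
  · rintro w ⟨_, _, hw0⟩
    exact hw0
  · rintro ⟨w, _, hw, hw0⟩ ⟨w', _, hw', hw0'⟩
    rw [spanPt_eq_iff]
    constructor
    · intro h
      have h' : w ∈ Submodule.span F {w'} := h
      obtain ⟨c, hc1⟩ := Submodule.mem_span_singleton.mp h'
      have hc0 : c ≠ 0 := by
        rintro rfl
        rw [zero_smul] at hc1
        exact hw0 hc1.symm
      refine ⟨c⁻¹, inv_ne_zero hc0, ?_⟩
      show w' = c⁻¹ • w
      rw [← hc1, inv_smul_smul₀ hc0]
    · rintro ⟨c, hc0, hc⟩
      have hc' : w' = c • w := hc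
      show w ∈ Submodule.span F {w'}
      rw [Submodule.mem_span_singleton]
      exact ⟨c⁻¹, by rw [hc', inv_smul_smul₀ hc0]⟩

/-- The totally singular lines of a quadratic space. -/
def Ln (Q : QuadraticForm F (ι → F)) : Type _ :=
  {L : Submodule F (ι → F) // finrank F L = 2 ∧ IsTS Q L}

instance lnMulAction (Q : QuadraticForm F (ι → F)) :
    MulAction ↥(Cfsg.isometryGroup F (⇑Q)) (Ln Q) where
  smul g L := ⟨L.1.map (Matrix.mulVecLin ((g : Matrix.GeneralLinearGroup ι F) : Matrix ι ι F)),
    by rw [finrank_map_iso]; exact L.2.1, L.2.2.map_iso g⟩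
  one_smul L := Subtype.ext (map_one_sub L.1)
  mul_smul g h L := Subtype.ext (map_mul_sub g h L.1)

theorem ln_smul_val (Q : QuadraticForm F (ι → F)) (g : ↥(Cfsg.isometryGroup F (⇑Q)))
    (L : Ln Q) :
    (g • L).1 = L.1.map (Matrix.mulVecLin ((g : Matrix.GeneralLinearGroup ι F) : Matrix ι ι F)) :=
  rfl

theorem finrank_span_pair_eq (x w : ι → F) (hx0 : x ≠ 0) (hw : w ∉ Submodule.span F {x}) :
    finrank F (Submodule.span F {x, w}) = 2 := by
  rw [Submodule.span_insert, finrank_sup_span_singleton _ hw, finrank_span_singleton hx0]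

/-- The totally singular line spanned by two orthogonal singular vectors. -/
def spanLn (Q : QuadraticForm F (ι → F)) (x w : ι → F) (hx0 : x ≠ 0)
    (hw : w ∉ Submodule.span F {x}) (hx : Q x = 0) (hQw : Q w = 0)
    (hxw : QuadraticMap.polar (⇑Q) x w = 0) : Ln Q :=
  ⟨Submodule.span F {x, w}, finrank_span_pair_eq x w hx0 hw, isTS_span_pair Q x w hx hQw hxw⟩

theorem spanLn_val (Q : QuadraticForm F (ι → F)) (x w : ι → F) (hx0 : x ≠ 0)
    (hw : w ∉ Submodule.span F {x}) (hx : Q x = 0) (hQw : Q w = 0)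
    (hxw : QuadraticMap.polar (⇑Q) x w = 0) :
    (spanLn Q x w hx0 hw hx hQw hxw).1 = Submodule.span F {x, w} := rfl

/-- Every totally singular line through `x` is spanned by `x` and a singular vector orthogonal
to a given hyperbolic partner `y` of `x`. -/
theorem exists_spanLn_eq (Q : QuadraticForm F (ι → F)) (x y : ι → F) (hx0 : x ≠ 0)
    (hx : Q x = 0) (hxy : QuadraticMap.polar (⇑Q) x y = 1) (L : Ln Q) (hxL : x ∈ L.1) :
    ∃ (w : ι → F) (hw : w ∉ Submodule.span F {x}) (hQw : Q w = 0)
      (hxw : QuadraticMap.polar (⇑Q) x w = 0), QuadraticMap.polar (⇑Q) y w = 0 ∧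
        L = spanLn Q x w hx0 hw hx hQw hxw := by
  have hex : ∃ l ∈ L.1, l ∉ Submodule.span F {x} := by
    by_contra hcon
    push Not at hcon
    have hle : L.1 ≤ Submodule.span F {x} := fun l hl => hcon l hl
    have h1 := Submodule.finrank_mono hle
    have h2 := finrank_span_singleton_le' (F := F) x
    have h3 := L.2.1
    omega
  obtain ⟨l, hlL, hl⟩ := hex
  obtain ⟨w, hwd⟩ : ∃ w, w = l - QuadraticMap.polar (⇑Q) y l • x := ⟨_, rfl⟩
  have hwL : w ∈ L.1 := by
    rw [hwd]
    exact L.1.sub_mem hlL (L.1.smul_mem _ hxL)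
  have hw : w ∉ Submodule.span F {x} := by
    intro h
    apply hl
    have : l = w + QuadraticMap.polar (⇑Q) y l • x := by rw [hwd]; abel
    rw [this]
    exact Submodule.add_mem _ h (Submodule.smul_mem _ _ (Submodule.mem_span_singleton_self x))
  have hyx : QuadraticMap.polar (⇑Q) y x = 1 := by rw [QuadraticMap.polar_comm]; exact hxy
  refine ⟨w, hw, L.2.2 w hwL, L.2.2.polar hxL hwL, ?_, ?_⟩
  · rw [hwd, QuadraticMap.polar_sub_right, QuadraticMap.polar_smul_right, hyx]
    simp
  · apply Subtype.ext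
    rw [spanLn_val]
    symm
    apply Submodule.eq_of_le_of_finrank_eq
    · rw [Submodule.span_le]
      rintro z hz
      rcases hz with rfl | rfl
      · exact hxL
      · exact hwL
    · rw [finrank_span_pair_eq x w hx0 hw, L.2.1]

/-- The number of totally singular lines through a singular point is prime to the
characteristic. -/
theorem card_lnAt_not_dvd [Fintype F] (Q : QuadraticForm F (ι → F))
    (hQ : (QuadraticMap.polarBilin Q).Nondegenerate) (hn : 5 ≤ finrank F (ι → F))
    (x : ι → F) (hx0 : x ≠ 0) (hx : Q x = 0) (p : ℕ) [Fact p.Prime] [CharP F p] :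
    ¬ p ∣ Nat.card ({L : Ln Q | x ∈ L.1} : Set (Ln Q)) := by
  obtain ⟨y, hy, hxy⟩ := exists_hyp_partner Q (fun a ha => hQ.1 a ha) x hx0 hx
  have hyx : QuadraticMap.polar (⇑Q) y x = 1 := by rw [QuadraticMap.polar_comm]; exact hxy
  have hfr : finrank F (perp Q {x, y}) + 2 = finrank F (ι → F) := by
    have := hypCompl_finrank Q x y hx hy hxy
    have e : perp Q {x, y} = hypCompl Q x y := by
      ext v
      rw [mem_perp_pair, mem_hypCompl]
    rw [e]
    exact this
  have hS := card_singSet Q (perp Q {x, y}) (by omega) p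
  have hnot : ∀ w : ι → F, w ∈ singSet Q (perp Q {x, y}) → w ∉ Submodule.span F {x} := by
    rintro w ⟨hwD, hw, hw0⟩ h
    obtain ⟨t, rfl⟩ := Submodule.mem_span_singleton.mp h
    have h1 := ((mem_perp_pair Q x y _).mp hwD).2
    rw [QuadraticMap.polar_smul_right, hyx, smul_eq_mul, mul_one] at h1
    rw [h1, zero_smul] at hw0
    exact hw0 rfl
  apply not_dvd_card_of_fibres (F := F) p (singSet Q (perp Q {x, y}))
    (fun w => (⟨spanLn Q x w.1 hx0 (hnot w.1 w.2) hx w.2.2.1
      ((mem_perp_pair Q x y _).mp w.2.1).1, by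
        show x ∈ Submodule.span F {x, w.1}
        exact Submodule.subset_span (by simp)⟩ : ({L : Ln Q | x ∈ L.1} : Set (Ln Q))))
    ?_ ?_ ?_ ?_ hS
  · rintro ⟨L, hxL⟩
    obtain ⟨w, hw, hQw, hxw, hyw, rfl⟩ := exists_spanLn_eq Q x y hx0 hx hxy L hxL
    have hw0 : w ≠ 0 := by
      rintro rfl
      exact hw (Submodule.zero_mem _)
    exact ⟨⟨w, (mem_perp_pair Q x y w).mpr ⟨hxw, hyw⟩, hQw, hw0⟩, rfl⟩
  · rintro w ⟨hwD, hw, hw0⟩ c hc
    exact ⟨Submodule.smul_mem _ _ hwD, by rw [QuadraticMap.map_smul, hw, smul_zero],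
      smul_ne_zero hc hw0⟩
  · rintro w ⟨_, _, hw0⟩
    exact hw0
  · rintro ⟨w, hwD, hw, hw0⟩ ⟨w', hwD', hw', hw0'⟩
    constructor
    · intro h0
      have h : Submodule.span F {x, w} = Submodule.span F {x, w'} :=
        congrArg (fun L : ({L : Ln Q | x ∈ L.1} : Set (Ln Q)) => L.1.1) h0
      have h1 : w' ∈ Submodule.span F {x, w} := by
        rw [h]
        exact Submodule.subset_span (by simp)
      obtain ⟨a, b, hab⟩ := Submodule.mem_span_pair.mp h1
      have h2 := ((mem_perp_pair Q x y _).mp hwD').2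
      rw [← hab, QuadraticMap.polar_add_right, QuadraticMap.polar_smul_right,
        QuadraticMap.polar_smul_right, hyx, ((mem_perp_pair Q x y _).mp hwD).2] at h2
      simp only [smul_eq_mul, mul_one, mul_zero, add_zero] at h2
      rw [h2, zero_smul, zero_add] at hab
      refine ⟨b, ?_, hab.symm⟩
      rintro rfl
      rw [zero_smul] at hab
      exact hw0' hab.symm
    · rintro ⟨c, hc0, hc⟩
      have hc' : w' = c • w := hc
      have hw1 : w = c⁻¹ • w' := by rw [hc', inv_smul_smul₀ hc0]
      apply Subtype.ext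
      apply Subtype.ext
      show Submodule.span F {x, w} = Submodule.span F {x, w'}
      apply le_antisymm
      · rw [Submodule.span_le]
        intro z hz
        rcases hz with hz | hz
        · rw [hz]
          exact Submodule.subset_span (by simp)
        · have hz' : z = w := hz
          rw [hz', hw1]
          exact Submodule.smul_mem _ _ (Submodule.subset_span (by simp))
      · rw [Submodule.span_le]
        intro z hz
        rcases hz with hz | hz
        · rw [hz]
          exact Submodule.subset_span (by simp)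
        · have hz' : z = w' := hz
          rw [hz', hc']
          exact Submodule.smul_mem _ _ (Submodule.subset_span (by simp))

end

end Cfsg.Agent.H49
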