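import Mathlib
import Cfsg.Agent.H49.AutChain
import Cfsg.Agent.H49.AutCount

set_option autoImplicit false
set_option linter.unusedSectionVars false
set_option linter.unusedSimpArgs false
set_option linter.unusedVariables false

/-! Helper lemmas (helper49): the centre of a Sylow `p`-subgroup of `Ω(Q)` (`p` the
characteristic) is a long root subgroup `{E_{x,l}(t)}` attached to a totally singular line. -/

namespace Cfsg.Agent.H49

open Module Matrix

section
variable {ι : Type} [Fintype ι] [DecidableEq ι] {F : Type*} [Field F]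

theorem chainP_eichG (Q : QuadraticForm F (ι → F)) (x v : ι → F) (hx : Q x = 0)
    (hxv : QuadraticMap.polar (⇑Q) x v = 0) :
    ChainP (Submodule.span F {x}) (perp Q {x}) (eichG Q x v hx hxv) := by
  have hxx : QuadraticMap.polar (⇑Q) x x = 0 := by rw [polar_self', hx, mul_zero]
  refine ⟨fun z => ?_, fun z hz => ?_, fun z hz => ?_⟩
  · rw [mem_perp_singleton, act_eichG, QuadraticMap.polar_sub_right,
      QuadraticMap.polar_sub_right, QuadraticMap.polar_sub_right, QuadraticMap.polar_add_right,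
      QuadraticMap.polar_smul_right, QuadraticMap.polar_smul_right,
      QuadraticMap.polar_smul_right, hxv, hxx]
    simp
  · have hz' := (mem_perp_singleton Q x z).mp hz
    rw [act_eichG, hz', zero_smul, mul_zero, zero_smul, add_zero, sub_zero, sub_sub_cancel_left]
    exact Submodule.neg_mem _ (Submodule.smul_mem _ _ (Submodule.mem_span_singleton_self x))
  · obtain ⟨t, rfl⟩ := Submodule.mem_span_singleton.mp hz
    rw [act_eichG, QuadraticMap.polar_smul_right, hxx, QuadraticMap.polar_smul_right,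
      QuadraticMap.polar_comm (⇑Q) v x, hxv]
    simp

theorem chainP_siegelG (Q : QuadraticForm F (ι → F)) (L : Submodule F (ι → F))
    (hL : IsTS Q L) (a b : ι → F) (ha : a ∈ L) (hb : Q b = 0)
    (hbL : ∀ l ∈ L, QuadraticMap.polar (⇑Q) l b = 0) (c : F) :
    ChainP L (perp Q (L : Set (ι → F))) (siegelG Q a b (hL a ha) hb (hbL a ha) c) := by
  refine ⟨fun z => ?_, fun z hz => ?_, fun z hz => ?_⟩
  · rw [act_siegelG, add_sub_cancel_left]
    apply Submodule.smul_mem
    apply Submodule.sub_mem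
    · apply Submodule.smul_mem
      exact fun l hl => hbL l hl
    · apply Submodule.smul_mem
      exact fun l hl => hL.polar hl ha
  · have h1 : QuadraticMap.polar (⇑Q) a z = 0 := hz a ha
    rw [act_siegelG, add_sub_cancel_left, h1, zero_smul, zero_sub]
    exact L.smul_mem _ (L.neg_mem (L.smul_mem _ ha))
  · have h2 : QuadraticMap.polar (⇑Q) b z = 0 := by
      rw [QuadraticMap.polar_comm]; exact hbL z hz
    rw [act_siegelG, hL.polar ha hz, h2]
    simp

variable [Fintype F]

theorem sylow_fix_point (Q : QuadraticForm F (ι → F)) (hn : 3 ≤ finrank F (ι → F)) (p : ℕ)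
    [Fact p.Prime] [CharP F p] (P : Sylow p ↥(Cfsg.Omega F (⇑Q))) :
    ∃ x : ι → F, x ≠ 0 ∧ Q x = 0 ∧ ∀ u ∈ P, act u.1 x = x := by
  obtain ⟨q, hq⟩ := P.isPGroup'.nonempty_fixed_point_of_prime_not_dvd_card (SPt Q)
    (card_spt_not_dvd Q hn p)
  obtain ⟨x, hx0, hx, rfl⟩ := exists_spanPt_eq Q q
  refine ⟨x, hx0, hx, fun u hu => ?_⟩
  have h1 : (⟨u, hu⟩ : ↥(P : Subgroup ↥(Cfsg.Omega F (⇑Q)))) • spanPt Q x hx0 hx
      = spanPt Q x hx0 hx := hq ⟨u, hu⟩
  have h2 : u.1 • spanPt Q x hx0 hx = spanPt Q x hx0 hx := h1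
  rw [smul_spanPt, spanPt_eq_iff] at h2
  obtain ⟨c, hc⟩ := Submodule.mem_span_singleton.mp h2
  obtain ⟨k, hk⟩ := P.isPGroup' ⟨u, hu⟩
  have hk' : u.1 ^ (p ^ k) = 1 := by
    have := congrArg (fun w : ↥(P : Subgroup ↥(Cfsg.Omega F (⇑Q))) => (w.1.1)) hk
    exact this
  have := eigen_one_of_pow p u.1 k hk' x hx0 c hc.symm
  rw [← hc, this, one_smul]

theorem sylow_fix_line (Q : QuadraticForm F (ι → F))
    (hQ : (QuadraticMap.polarBilin Q).Nondegenerate) (hn : 5 ≤ finrank F (ι → F)) (p : ℕ)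
    [Fact p.Prime] [CharP F p] (P : Sylow p ↥(Cfsg.Omega F (⇑Q))) (x : ι → F) (hx0 : x ≠ 0)
    (hx : Q x = 0) (hfix : ∀ u ∈ P, act u.1 x = x) :
    ∃ L : Ln Q, x ∈ L.1 ∧ ∀ u ∈ P, ∀ w ∈ L.1, act u.1 w ∈ L.1 := by
  obtain ⟨L, hL, hLfix⟩ := exists_fixed_of_invariant p P.isPGroup'
    ({L : Ln Q | x ∈ L.1} : Set (Ln Q)) (by
      rintro ⟨u, hu⟩ L hL
      show x ∈ (u.1 • L).1
      rw [ln_smul_val]
      exact Submodule.mem_map.mpr ⟨x, hL, hfix u hu⟩)
    (card_lnAt_not_dvd Q hQ hn x hx0 hx p)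
  refine ⟨L, hL, fun u hu w hw => ?_⟩
  have h1 : (⟨u, hu⟩ : ↥(P : Subgroup ↥(Cfsg.Omega F (⇑Q)))) • L = L := hLfix ⟨u, hu⟩
  have h2 : (u.1 • L).1 = L.1 := congrArg Subtype.val h1
  rw [ln_smul_val] at h2
  rw [← h2]
  exact Submodule.mem_map.mpr ⟨w, hw, rfl⟩

/-- The centre of a Sylow `p`-subgroup of `Ω` is a long root subgroup. -/
theorem sylow_center (Q : QuadraticForm F (ι → F))
    (hQ : (QuadraticMap.polarBilin Q).Nondegenerate) (h3 : HasTS3 Q) (p : ℕ)
    [Fact p.Prime] [CharP F p] (P : Sylow p ↥(Cfsg.Omega F (⇑Q))) :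
    ∃ (x l : ι → F) (hx0 : x ≠ 0) (hl : l ∉ Submodule.span F {x}) (hx : Q x = 0)
      (hQl : Q l = 0) (hxl : QuadraticMap.polar (⇑Q) x l = 0),
      ∀ z : ↥(Cfsg.Omega F (⇑Q)), (z ∈ P ∧ ∀ u ∈ P, z * u = u * z) ↔
        ∃ t : F, z = sieO Q hQ h3 x l hx hQl hxl t := by
  have h6 := six_le_of_hasTS3 Q hQ h3
  have : Nonempty ι := by
    rw [Module.finrank_fintype_fun_eq_card] at h6
    exact Fintype.card_pos_iff.mp (by omega)
  obtain ⟨x, hx0, hx, hfix⟩ := sylow_fix_point Q (by omega) p P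
  obtain ⟨L, hxL, hLfix⟩ := sylow_fix_line Q hQ (by omega) p P x hx0 hx hfix
  obtain ⟨y, hy, hxy⟩ := exists_hyp_partner Q (fun a ha => hQ.1 a ha) x hx0 hx
  obtain ⟨l, hl, hQl, hxl, hyl, hLeq⟩ := exists_spanLn_eq Q x y hx0 hx hxy L hxL
  have hLval : L.1 = Submodule.span F {x, l} := by rw [hLeq]; rfl
  have hlL : l ∈ L.1 := by rw [hLval]; exact Submodule.subset_span (by simp)
  have hLts : IsTS Q L.1 := L.2.2
  have hxx : QuadraticMap.polar (⇑Q) x x = 0 := by rw [polar_self', hx, mul_zero]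
  have hle₁ : Submodule.span F {x} ≤ perp Q {x} := by
    rw [Submodule.span_le]
    intro z hz
    have hz' : z = x := hz
    rw [SetLike.mem_coe, mem_perp_singleton, hz']
    exact hxx
  have hle₂ : L.1 ≤ perp Q (L.1 : Set (ι → F)) := fun z hz s hs => hLts.polar hs hz
  have hC₁ := chainSub_le_sylow p (Submodule.span F {x}) (perp Q {x}) hle₁ P (by
      intro g hg w hw
      obtain ⟨t, rfl⟩ := Submodule.mem_span_singleton.mp hw
      rw [act_smul, hfix g hg]
      exact Submodule.smul_mem _ _ (Submodule.mem_span_singleton_self x)) (by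
      intro g hg w hw
      rw [mem_perp_singleton] at hw ⊢
      have := polar_act Q g.1 x w
      rw [hfix g hg] at this
      rw [this]
      exact hw)
  have hC₂ := chainSub_le_sylow p L.1 (perp Q (L.1 : Set (ι → F))) hle₂ P hLfix (by
      intro g hg w hw s hs
      rw [polar_act_right]
      apply hw
      exact hLfix g⁻¹ (inv_mem hg) s hs)
  refine ⟨x, l, hx0, hl, hx, hQl, hxl, fun z => ⟨?_, ?_⟩⟩
  · rintro ⟨hzP, hzc⟩
    have hcomm : ∀ (v : ι → F) (hv : Q v = 0) (hxv : QuadraticMap.polar (⇑Q) x v = 0),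
        z.1 * siegelG Q x v hx hv hxv 1 = siegelG Q x v hx hv hxv 1 * z.1 := by
      intro v hv hxv
      have hmem : sieO Q hQ h3 x v hx hv hxv 1 ∈ P := by
        apply hC₁
        rw [mem_chainSub]
        refine ⟨?_, ?_⟩
        · rw [sieO_coe, siegelG_eq_eichG]
          exact chainP_eichG Q x _ hx _
        · rw [sieO_coe, siegelG_inv, siegelG_eq_eichG]
          exact chainP_eichG Q x _ hx _
      exact congrArg Subtype.val (hzc _ hmem)
    obtain ⟨c, hcc, hzx, v₀, hv₀, hz⟩ := centralizer_structure Q hQ h3 x hx0 hx z.1 hcomm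
    have hc1 : c = 1 := by
      have h1 := hfix z hzP
      rw [hzx] at h1
      have h2 : (c - 1) • x = 0 := by rw [sub_smul, one_smul, h1, sub_self]
      rcases smul_eq_zero.mp h2 with h | h
      · exact sub_eq_zero.mp h
      · exact absurd h hx0
    have hzE : z.1 = eichG Q x v₀ hx hv₀ := by
      apply act_ext
      intro w
      rw [hz w, hc1, one_smul]
    have hb : ∀ (b : ι → F) (hb : Q b = 0)
        (hbL : ∀ s ∈ L.1, QuadraticMap.polar (⇑Q) s b = 0),
        ∃ t : F, QuadraticMap.polar (⇑Q) l v₀ • b - QuadraticMap.polar (⇑Q) b v₀ • l = t • x := by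
      intro b hb hbL
      have hmem : sieO Q hQ h3 l b hQl hb (hbL l hlL) 1 ∈ P := by
        apply hC₂
        rw [mem_chainSub]
        refine ⟨?_, ?_⟩
        · rw [sieO_coe]
          exact chainP_siegelG Q L.1 hLts l b hlL hb hbL 1
        · rw [sieO_coe, siegelG_inv]
          exact chainP_siegelG Q L.1 hLts l b hlL hb hbL (-1)
      have h1 : siegelG Q l b hQl hb (hbL l hlL) 1 * z.1
          = z.1 * siegelG Q l b hQl hb (hbL l hlL) 1 :=
        (congrArg Subtype.val (hzc _ hmem)).symm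
      have h2 : siegelG Q l b hQl hb (hbL l hlL) 1 * z.1
          * (siegelG Q l b hQl hb (hbL l hlL) 1)⁻¹ = z.1 := by
        rw [h1, mul_inv_cancel_right]
      have hbx : QuadraticMap.polar (⇑Q) b x = 0 := by
        rw [QuadraticMap.polar_comm]; exact hbL x hxL
      have hEx : act (siegelG Q l b hQl hb (hbL l hlL) 1) x = x := by
        rw [act_siegelG, hLts.polar hlL hxL, hbx]
        simp
      have hv' : QuadraticMap.polar (⇑Q) x (act (siegelG Q l b hQl hb (hbL l hlL) 1) v₀) = 0 := by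
        have := polar_act Q (siegelG Q l b hQl hb (hbL l hlL) 1) x v₀
        rw [hEx] at this
        rw [this]
        exact hv₀
      have h4 : eichG Q x (act (siegelG Q l b hQl hb (hbL l hlL) 1) v₀) hx hv'
          = eichG Q x v₀ hx hv₀ := by
        rw [← hzE, ← h2, hzE, conj_eichG]
        exact eichG_congr Q _ _ _ _ _ _ _ _ hEx.symm rfl
      obtain ⟨t, ht⟩ := eichG_inj Q x y _ _ hx hxy hv' hv₀ h4
      refine ⟨-t, ?_⟩
      rw [act_siegelG, one_smul] at ht
      have h6 : v₀ + ((QuadraticMap.polar (⇑Q) l v₀ • b - QuadraticMap.polar (⇑Q) b v₀ • l)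
          + t • x) = v₀ + 0 := by
        rw [add_zero, ← add_assoc]
        exact ht.symm
      have h5 := add_left_cancel h6
      rw [neg_smul]
      exact eq_neg_of_add_eq_zero_left h5
    obtain ⟨e, e', he, he', hee, heL, he'L⟩ := exists_hyp_pair_orth_ts Q hQ h3 L.1 hLts
      (by rw [L.2.1])
    have hlv : QuadraticMap.polar (⇑Q) l v₀ = 0 := by
      obtain ⟨t, ht⟩ := hb e he heL
      have h1 := congrArg (fun w => QuadraticMap.polar (⇑Q) w e') ht
      simp only [QuadraticMap.polar_sub_left, QuadraticMap.polar_smul_left, hee,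
        he'L l hlL, he'L x hxL, smul_eq_mul, mul_one, mul_zero, sub_zero] at h1
      exact h1
    have hbv : ∀ (b : ι → F), Q b = 0 → (∀ s ∈ L.1, QuadraticMap.polar (⇑Q) s b = 0) →
        QuadraticMap.polar (⇑Q) b v₀ = 0 := by
      intro b hQb hbL
      obtain ⟨t, ht⟩ := hb b hQb hbL
      rw [hlv, zero_smul, zero_sub] at ht
      by_contra hne
      apply hl
      have h1 : l = (QuadraticMap.polar (⇑Q) b v₀)⁻¹ • ((-t) • x) := by
        rw [neg_smul, ← ht, neg_neg, inv_smul_smul₀ hne]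
      rw [h1]
      exact Submodule.smul_mem _ _ (Submodule.smul_mem _ _ (Submodule.mem_span_singleton_self x))
    have hv₀L : v₀ ∈ L.1 := by
      apply mem_of_perp_perp Q hQ L.1
      intro w hw
      obtain ⟨s, hsA, hs, a, b, hwd⟩ := exists_sing_decomp Q (perp Q (L.1 : Set (ι → F))) e e'
        he he' hee heL he'L w hw
      rw [hwd, QuadraticMap.polar_add_left, QuadraticMap.polar_add_left,
        QuadraticMap.polar_smul_left, QuadraticMap.polar_smul_left, hbv s hs hsA,
        hbv e he heL, hbv e' he' he'L]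
      simp
    rw [hLval] at hv₀L
    obtain ⟨a, b, hab⟩ := Submodule.mem_span_pair.mp hv₀L
    refine ⟨b, Subtype.ext ?_⟩
    rw [sieO_coe, hzE, siegelG_eq_eichG]
    have hx1 : QuadraticMap.polar (⇑Q) x (b • l) = 0 := by
      rw [QuadraticMap.polar_smul_right, hxl, smul_zero]
    have hx2 : QuadraticMap.polar (⇑Q) x (b • l + a • x) = 0 := by
      rw [QuadraticMap.polar_add_right, hx1, QuadraticMap.polar_smul_right, hxx, smul_zero,
        add_zero]
    rw [← eichG_add_smul Q x (b • l) a hx hx1 hx2]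
    apply eichG_congr Q _ _ _ _ _ _ _ _ rfl
    rw [← hab, add_comm]
  · rintro ⟨t, rfl⟩
    have hmem : sieO Q hQ h3 x l hx hQl hxl t ∈ P := by
      apply hC₂
      rw [mem_chainSub]
      refine ⟨?_, ?_⟩
      · rw [sieO_coe]
        exact chainP_siegelG Q L.1 hLts x l hxL hQl (fun s hs => hLts.polar hs hlL) t
      · rw [sieO_coe, siegelG_inv]
        exact chainP_siegelG Q L.1 hLts x l hxL hQl (fun s hs => hLts.polar hs hlL) (-t)
    refine ⟨hmem, fun u hu => ?_⟩
    have hux := hfix u hu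
    have hul : act u.1 l ∈ L.1 := hLfix u hu l hlL
    rw [hLval] at hul
    obtain ⟨a, b, hab⟩ := Submodule.mem_span_pair.mp hul
    obtain ⟨k, hk⟩ := P.isPGroup' ⟨u, hu⟩
    have hk' : u.1 ^ (p ^ k) = 1 := by
      have := congrArg (fun w : ↥(P : Subgroup ↥(Cfsg.Omega F (⇑Q))) => (w.1.1)) hk
      exact this
    have hb1 : b = 1 := eigen_one_of_pow_tri p u.1 k hk' x l hl b hux ⟨a, hab.symm⟩
    have h1 : u.1 * siegelG Q x l hx hQl hxl t * u.1⁻¹ = siegelG Q x l hx hQl hxl t := by
      rw [conj_siegelG]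
      apply act_ext
      intro w
      rw [act_siegelG, act_siegelG]
      simp only [hux]
      rw [← hab, hb1, one_smul, QuadraticMap.polar_add_left, QuadraticMap.polar_smul_left]
      funext i
      simp only [Pi.add_apply, Pi.sub_apply, Pi.smul_apply, smul_eq_mul]
      ring
    apply Subtype.ext
    show siegelG Q x l hx hQl hxl t * u.1 = u.1 * siegelG Q x l hx hQl hxl t
    calc siegelG Q x l hx hQl hxl t * u.1
        = (u.1 * siegelG Q x l hx hQl hxl t * u.1⁻¹) * u.1 := by rw [h1]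
      _ = u.1 * siegelG Q x l hx hQl hxl t := by group

end

end Cfsg.Agent.H49
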