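import Mathlib
import Cfsg.Agent.H49.AutSylow

set_option autoImplicit false
set_option linter.unusedSectionVars false
set_option linter.unusedSimpArgs false
set_option linter.unusedVariables false

/-! Helper lemmas (helper49): long root subgroups of `PΩ(Q)` attached to totally singular lines;
they are exactly the centres of the Sylow `p`-subgroups, hence permuted by every automorphism. -/

namespace Cfsg.Agent.H49

open Module Matrix

section general
variable {X : Type*} [Group X]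

/-- The centre of a subgroup, as a set of elements of the ambient group. -/
def zenT (P : Subgroup X) : Set X := {z | z ∈ P ∧ ∀ u ∈ P, z * u = u * z}

theorem zenT_map (α : X ≃* X) (P : Subgroup X) :
    zenT (P.map α.toMonoidHom) = α '' zenT P := by
  ext z
  constructor
  · rintro ⟨hz, hc⟩
    obtain ⟨w, hw, rfl⟩ := Subgroup.mem_map.mp hz
    refine ⟨w, ⟨hw, fun u hu => ?_⟩, rfl⟩
    have h1 := hc (α u) (Subgroup.mem_map_of_mem _ hu)
    apply α.injective
    rw [map_mul, map_mul]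
    exact h1
  · rintro ⟨w, ⟨hw, hc⟩, rfl⟩
    refine ⟨Subgroup.mem_map_of_mem _ hw, fun u hu => ?_⟩
    obtain ⟨u', hu', rfl⟩ := Subgroup.mem_map.mp hu
    show α w * α u' = α u' * α w
    rw [← map_mul, ← map_mul, hc u' hu']

end general

section
variable {ι : Type} [Fintype ι] [DecidableEq ι] {F : Type*} [Field F]

/-- Change of basis for Siegel transformations on a line. -/
theorem siegelG_of_mem_span (Q : QuadraticForm F (ι → F)) (x l : ι → F) (hx : Q x = 0)
    (hl : Q l = 0) (hxl : QuadraticMap.polar (⇑Q) x l = 0) (u v : ι → F) (hu : Q u = 0)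
    (hv : Q v = 0) (huv : QuadraticMap.polar (⇑Q) u v = 0)
    (hu' : u ∈ Submodule.span F {x, l}) (hv' : v ∈ Submodule.span F {x, l}) (c : F) :
    ∃ t : F, siegelG Q u v hu hv huv c = siegelG Q x l hx hl hxl t := by
  obtain ⟨a, b, rfl⟩ := Submodule.mem_span_pair.mp hu'
  obtain ⟨a', b', rfl⟩ := Submodule.mem_span_pair.mp hv'
  refine ⟨(a * b' - b * a') * c, ?_⟩
  apply act_ext
  intro z
  rw [act_siegelG, act_siegelG, QuadraticMap.polar_add_left, QuadraticMap.polar_add_left,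
    QuadraticMap.polar_smul_left, QuadraticMap.polar_smul_left, QuadraticMap.polar_smul_left,
    QuadraticMap.polar_smul_left]
  funext i
  simp only [Pi.add_apply, Pi.sub_apply, Pi.smul_apply, smul_eq_mul]
  ring

/-- The long root subgroup of `PΩ` attached to a totally singular line. -/
def rootT (Q : QuadraticForm F (ι → F))
    (hQ : (QuadraticMap.polarBilin Q).Nondegenerate) (h3 : HasTS3 Q) (L : Ln Q) :
    Set (Cfsg.POmega F (⇑Q)) :=
  {t | ∃ (u v : ι → F) (hu : Q u = 0) (hv : Q v = 0)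
    (huv : QuadraticMap.polar (⇑Q) u v = 0) (c : F), u ∈ L.1 ∧ v ∈ L.1 ∧
      t = QuotientGroup.mk (sieO Q hQ h3 u v hu hv huv c)}

theorem mem_rootT_spanLn (Q : QuadraticForm F (ι → F))
    (hQ : (QuadraticMap.polarBilin Q).Nondegenerate) (h3 : HasTS3 Q) (x l : ι → F)
    (hx0 : x ≠ 0) (hl : l ∉ Submodule.span F {x}) (hx : Q x = 0) (hQl : Q l = 0)
    (hxl : QuadraticMap.polar (⇑Q) x l = 0) (t : Cfsg.POmega F (⇑Q)) :
    t ∈ rootT Q hQ h3 (spanLn Q x l hx0 hl hx hQl hxl) ↔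
      ∃ c : F, t = QuotientGroup.mk (sieO Q hQ h3 x l hx hQl hxl c) := by
  constructor
  · rintro ⟨u, v, hu, hv, huv, c, huL, hvL, rfl⟩
    obtain ⟨t, ht⟩ := siegelG_of_mem_span Q x l hx hQl hxl u v hu hv huv huL hvL c
    refine ⟨t, ?_⟩
    congr 1
    exact Subtype.ext ht
  · rintro ⟨c, rfl⟩
    exact ⟨x, l, hx, hQl, hxl, c, Submodule.subset_span (by simp),
      Submodule.subset_span (by simp), rfl⟩

/-- A line through a given non-zero vector has a basis starting with that vector. -/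
theorem exists_basis_ln_of_mem (Q : QuadraticForm F (ι → F))
    (hQ : (QuadraticMap.polarBilin Q).Nondegenerate) (L : Ln Q) (x : ι → F) (hx0 : x ≠ 0)
    (hx : Q x = 0) (hxL : x ∈ L.1) :
    ∃ (l : ι → F) (hl : l ∉ Submodule.span F {x}) (hQl : Q l = 0)
      (hxl : QuadraticMap.polar (⇑Q) x l = 0), L = spanLn Q x l hx0 hl hx hQl hxl := by
  obtain ⟨y, hy, hxy⟩ := exists_hyp_partner Q (fun a ha => hQ.1 a ha) x hx0 hx
  obtain ⟨l, hl, hQl, hxl, hyl, hLeq⟩ := exists_spanLn_eq Q x y hx0 hx hxy L hxL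
  exact ⟨l, hl, hQl, hxl, hLeq⟩

theorem exists_basis_ln (Q : QuadraticForm F (ι → F))
    (hQ : (QuadraticMap.polarBilin Q).Nondegenerate) (L : Ln Q) :
    ∃ (x l : ι → F) (hx0 : x ≠ 0) (hl : l ∉ Submodule.span F {x}) (hx : Q x = 0) (hQl : Q l = 0)
      (hxl : QuadraticMap.polar (⇑Q) x l = 0), L = spanLn Q x l hx0 hl hx hQl hxl := by
  have hne : L.1 ≠ ⊥ := by
    intro h
    have := L.2.1
    rw [h, finrank_bot] at this
    omega
  obtain ⟨x, hxL, hx0⟩ := Submodule.exists_mem_ne_zero_of_ne_bot hne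
  obtain ⟨l, hl, hQl, hxl, hLeq⟩ := exists_basis_ln_of_mem Q hQ L x hx0 (L.2.2 x hxL) hxL
  exact ⟨x, l, hx0, hl, L.2.2 x hxL, hQl, hxl, hLeq⟩

theorem not_mem_span_symm {x l : ι → F} (hx0 : x ≠ 0) (hl : l ∉ Submodule.span F {x}) :
    x ∉ Submodule.span F {l} := by
  intro h
  obtain ⟨t, rfl⟩ := Submodule.mem_span_singleton.mp h
  have ht : t ≠ 0 := by
    rintro rfl
    exact hx0 (zero_smul _ _)
  apply hl
  rw [Submodule.mem_span_singleton]
  exact ⟨t⁻¹, by rw [inv_smul_smul₀ ht]⟩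

/-- A subspace into which a non-trivial Siegel transformation moves all vectors contains its
line. -/
theorem le_of_moves_siegelG (Q : QuadraticForm F (ι → F))
    (hQ : (QuadraticMap.polarBilin Q).Nondegenerate) (x l : ι → F) (hx0 : x ≠ 0)
    (hl : l ∉ Submodule.span F {x}) (hx : Q x = 0) (hQl : Q l = 0)
    (hxl : QuadraticMap.polar (⇑Q) x l = 0) (W : Submodule F (ι → F))
    (h : Moves (siegelG Q x l hx hQl hxl 1) W) : Submodule.span F {x, l} ≤ W := by
  have hlx : QuadraticMap.polar (⇑Q) l x = 0 := by rw [QuadraticMap.polar_comm]; exact hxl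
  obtain ⟨x', hx', hx'W, hxx'⟩ := exists_partner_orth Q hQ (Submodule.span F {l}) x hx
    (polar_span_singleton Q l x hlx) (not_mem_span_symm hx0 hl)
  have hl0 : l ≠ 0 := by
    rintro rfl
    exact hl (Submodule.zero_mem _)
  obtain ⟨l', hl', hl'W, hll'⟩ := exists_partner_orth Q hQ (Submodule.span F {x}) l hQl
    (polar_span_singleton Q x l hxl) hl
  have h1 := h x'
  rw [act_siegelG, add_sub_cancel_left, hxx', hx'W l (Submodule.mem_span_singleton_self l),
    one_smul, one_smul, zero_smul, sub_zero] at h1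
  have h2 := h l'
  rw [act_siegelG, add_sub_cancel_left, hll', hl'W x (Submodule.mem_span_singleton_self x),
    one_smul, one_smul, zero_smul, zero_sub] at h2
  rw [Submodule.span_le]
  intro z hz
  rcases hz with hz | hz
  · rw [hz]
    have := W.neg_mem h2
    rwa [neg_neg] at this
  · have hz' : z = l := hz
    rw [hz']
    exact h1

variable [Fintype F]

theorem rootT_injective (Q : QuadraticForm F (ι → F))
    (hQ : (QuadraticMap.polarBilin Q).Nondegenerate) (h3 : HasTS3 Q) (L M : Ln Q)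
    (h : rootT Q hQ h3 L = rootT Q hQ h3 M) : L = M := by
  have h6 := six_le_of_hasTS3 Q hQ h3
  obtain ⟨x, l, hx0, hl, hx, hQl, hxl, rfl⟩ := exists_basis_ln Q hQ L
  have h1 : (QuotientGroup.mk (sieO Q hQ h3 x l hx hQl hxl 1) : Cfsg.POmega F (⇑Q))
      ∈ rootT Q hQ h3 M := by
    rw [← h, mem_rootT_spanLn]
    exact ⟨1, rfl⟩
  obtain ⟨u, v, hu, hv, huv, c, huM, hvM, heq⟩ := h1
  have hm1 : Moves (sieO Q hQ h3 x l hx hQl hxl 1).1 (Submodule.span F {x, l}) := by
    rw [sieO_coe]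
    exact moves_siegelG Q x l hx hQl hxl 1
  have hm2 : Moves (sieO Q hQ h3 u v hu hv huv c).1 (Submodule.span F {u, v}) := by
    rw [sieO_coe]
    exact moves_siegelG Q u v hu hv huv c
  have hdim : finrank F (Submodule.span F {x, l}) + finrank F (Submodule.span F {u, v})
      < finrank F (ι → F) := by
    have e1 := finrank_span_pair_le (F := F) x l
    have e2 := finrank_span_pair_le (F := F) u v
    omega
  have h2 := eq_of_mk_eq_of_moves Q hQ h3 (sieO Q hQ h3 x l hx hQl hxl 1)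
    (sieO Q hQ h3 u v hu hv huv c) (Submodule.span F {x, l}) (Submodule.span F {u, v})
    hm1 hm2 hdim heq
  have h4 : Moves (siegelG Q x l hx hQl hxl 1) M.1 := by
    have h5 : siegelG Q x l hx hQl hxl 1 = siegelG Q u v hu hv huv c := by
      have := congrArg Subtype.val h2
      rw [sieO_coe, sieO_coe] at this
      exact this
    rw [h5]
    apply (moves_siegelG Q u v hu hv huv c).mono
    rw [Submodule.span_le]
    intro z hz
    rcases hz with hz | hz
    · rw [hz]; exact huM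
    · have hz' : z = v := hz
      rw [hz']; exact hvM
  have hle := le_of_moves_siegelG Q hQ x l hx0 hl hx hQl hxl M.1 h4
  apply Subtype.ext
  apply Submodule.eq_of_le_of_finrank_eq hle
  rw [M.2.1]
  exact finrank_span_pair_eq x l hx0 hl

/-- The centre of a Sylow `p`-subgroup of `PΩ` is a long root subgroup. -/
theorem sylow_center_T (Q : QuadraticForm F (ι → F))
    (hQ : (QuadraticMap.polarBilin Q).Nondegenerate) (h3 : HasTS3 Q) (p : ℕ)
    [Fact p.Prime] [CharP F p] (P : Sylow p (Cfsg.POmega F (⇑Q))) :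
    ∃ L : Ln Q, zenT (P : Subgroup (Cfsg.POmega F (⇑Q))) = rootT Q hQ h3 L := by
  obtain ⟨P', hP'⟩ := Sylow.mapSurjective_surjective
    (QuotientGroup.mk'_surjective (Subgroup.center ↥(Cfsg.Omega F (⇑Q)))) p P
  have hPmap : (P : Subgroup (Cfsg.POmega F (⇑Q)))
      = (P' : Subgroup ↥(Cfsg.Omega F (⇑Q))).map
        (QuotientGroup.mk' (Subgroup.center ↥(Cfsg.Omega F (⇑Q)))) := by
    rw [← hP']; rfl
  obtain ⟨x, l, hx0, hl, hx, hQl, hxl, hcen⟩ := sylow_center Q hQ h3 p P'
  refine ⟨spanLn Q x l hx0 hl hx hQl hxl, ?_⟩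
  ext t
  rw [mem_rootT_spanLn]
  constructor
  · rintro ⟨htP, htc⟩
    rw [hPmap] at htP
    obtain ⟨z, hz, rfl⟩ := Subgroup.mem_map.mp htP
    have hzc : ∀ u ∈ P', z * u = u * z := by
      intro u hu
      have h1 : (QuotientGroup.mk z : Cfsg.POmega F (⇑Q)) * QuotientGroup.mk u
          = QuotientGroup.mk u * QuotientGroup.mk z :=
        htc (QuotientGroup.mk u) (by rw [hPmap]; exact Subgroup.mem_map_of_mem _ hu)
      have hwP : z * u * z⁻¹ * u⁻¹ ∈ P' :=
        mul_mem (mul_mem (mul_mem hz hu) (inv_mem hz)) (inv_mem hu)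
      have hwc : z * u * z⁻¹ * u⁻¹ ∈ Subgroup.center ↥(Cfsg.Omega F (⇑Q)) := by
        rw [← QuotientGroup.eq_one_iff]
        simp only [QuotientGroup.mk_mul, QuotientGroup.mk_inv]
        rw [h1]
        group
      obtain ⟨c, hc⟩ := center_scalar Q hQ h3 _ hwc
      obtain ⟨k, hk⟩ := P'.isPGroup' ⟨_, hwP⟩
      have hk' : (z * u * z⁻¹ * u⁻¹ : ↥(Cfsg.Omega F (⇑Q))).1 ^ (p ^ k) = 1 :=
        congrArg (fun w : ↥(P' : Subgroup ↥(Cfsg.Omega F (⇑Q))) => w.1.1) hk
      have hc1 : c = 1 := eigen_one_of_pow p _ k hk' x hx0 c (hc x)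
      have hw1 : z * u * z⁻¹ * u⁻¹ = 1 := by
        apply Subtype.ext
        apply act_ext
        intro v
        rw [hc v, hc1, one_smul]
        exact (act_one v).symm
      calc z * u = (z * u * z⁻¹ * u⁻¹) * (u * z) := by group
        _ = u * z := by rw [hw1, one_mul]
    obtain ⟨c, hc⟩ := (hcen z).mp ⟨hz, hzc⟩
    exact ⟨c, by rw [hc]; rfl⟩
  · rintro ⟨c, rfl⟩
    obtain ⟨hz, hzc⟩ := (hcen _).mpr ⟨c, rfl⟩
    refine ⟨by rw [hPmap]; exact Subgroup.mem_map_of_mem _ hz, fun u hu => ?_⟩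
    rw [hPmap] at hu
    obtain ⟨u', hu', rfl⟩ := Subgroup.mem_map.mp hu
    show (QuotientGroup.mk (sieO Q hQ h3 x l hx hQl hxl c) : Cfsg.POmega F (⇑Q))
      * QuotientGroup.mk u' = QuotientGroup.mk u' * QuotientGroup.mk _
    rw [← QuotientGroup.mk_mul, ← QuotientGroup.mk_mul, hzc u' hu']

/-- Conjugation by an element of `Ω` maps root subgroups to root subgroups. -/
theorem conj_rootT (Q : QuadraticForm F (ι → F))
    (hQ : (QuadraticMap.polarBilin Q).Nondegenerate) (h3 : HasTS3 Q)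
    (g : ↥(Cfsg.Omega F (⇑Q))) (L : Ln Q) :
    (MulAut.conj (QuotientGroup.mk g : Cfsg.POmega F (⇑Q))) '' rootT Q hQ h3 L
      = rootT Q hQ h3 (g.1 • L) := by
  ext t
  constructor
  · rintro ⟨_, ⟨u, v, hu, hv, huv, c, huL, hvL, rfl⟩, rfl⟩
    refine ⟨act g.1 u, act g.1 v, by rw [Q_act, hu], by rw [Q_act, hv],
      by rw [polar_act, huv], c, Submodule.mem_map.mpr ⟨u, huL, rfl⟩,
      Submodule.mem_map.mpr ⟨v, hvL, rfl⟩, ?_⟩
    rw [MulAut.conj_apply, ← QuotientGroup.mk_inv, ← QuotientGroup.mk_mul,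
      ← QuotientGroup.mk_mul]
    congr 1
    apply Subtype.ext
    exact conj_siegelG Q g.1 u v hu hv huv c
  · rintro ⟨u', v', hu', hv', huv', c, hu'L, hv'L, rfl⟩
    obtain ⟨u, huL, rfl⟩ := Submodule.mem_map.mp hu'L
    obtain ⟨v, hvL, rfl⟩ := Submodule.mem_map.mp hv'L
    have hu : Q u = 0 := by
      have := hu'
      rwa [show (Matrix.mulVecLin ((g.1 : Matrix.GeneralLinearGroup ι F) : Matrix ι ι F)) u
        = act g.1 u from rfl, Q_act] at this
    have hv : Q v = 0 := by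
      have := hv'
      rwa [show (Matrix.mulVecLin ((g.1 : Matrix.GeneralLinearGroup ι F) : Matrix ι ι F)) v
        = act g.1 v from rfl, Q_act] at this
    have huv : QuadraticMap.polar (⇑Q) u v = 0 := by
      have := huv'
      rwa [show (Matrix.mulVecLin ((g.1 : Matrix.GeneralLinearGroup ι F) : Matrix ι ι F)) u
        = act g.1 u from rfl,
        show (Matrix.mulVecLin ((g.1 : Matrix.GeneralLinearGroup ι F) : Matrix ι ι F)) v
        = act g.1 v from rfl, polar_act] at this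
    refine ⟨QuotientGroup.mk (sieO Q hQ h3 u v hu hv huv c),
      ⟨u, v, hu, hv, huv, c, huL, hvL, rfl⟩, ?_⟩
    rw [MulAut.conj_apply, ← QuotientGroup.mk_inv, ← QuotientGroup.mk_mul,
      ← QuotientGroup.mk_mul]
    congr 1
    apply Subtype.ext
    exact conj_siegelG Q g.1 u v hu hv huv c

theorem sylow_smul_coe {X : Type*} [Group X] (p : ℕ) (α : MulAut X) (P : Sylow p X) :
    ((α • P : Sylow p X) : Subgroup X) = (P : Subgroup X).map α.toMonoidHom := rfl

/-- Every long root subgroup is the centre of a Sylow `p`-subgroup. -/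
theorem exists_sylow_of_ln (Q : QuadraticForm F (ι → F))
    (hQ : (QuadraticMap.polarBilin Q).Nondegenerate) (h3 : HasTS3 Q) (p : ℕ)
    [Fact p.Prime] [CharP F p] (L : Ln Q) :
    ∃ P : Sylow p (Cfsg.POmega F (⇑Q)),
      zenT (P : Subgroup (Cfsg.POmega F (⇑Q))) = rootT Q hQ h3 L := by
  have h6 := six_le_of_hasTS3 Q hQ h3
  obtain ⟨P₀⟩ := (inferInstance : Nonempty (Sylow p (Cfsg.POmega F (⇑Q))))
  obtain ⟨L₀, hL₀⟩ := sylow_center_T Q hQ h3 p P₀
  obtain ⟨g, hgΩ, hgL⟩ := exists_commutator_map_ts_lt Q hQ (Or.inr (by omega)) L₀.1 L.1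
    L₀.2.2 L.2.2 (by rw [L₀.2.1, L.2.1]) (by rw [L.2.1]; omega)
  refine ⟨(MulAut.conj (QuotientGroup.mk (⟨g, hgΩ⟩ : ↥(Cfsg.Omega F (⇑Q))) :
    Cfsg.POmega F (⇑Q))) • P₀, ?_⟩
  rw [sylow_smul_coe, zenT_map, hL₀, conj_rootT]
  congr 1
  exact Subtype.ext hgL

/-- Every automorphism of `PΩ` permutes the long root subgroups. -/
theorem aut_rootT (Q : QuadraticForm F (ι → F))
    (hQ : (QuadraticMap.polarBilin Q).Nondegenerate) (h3 : HasTS3 Q) (p : ℕ)
    [Fact p.Prime] [CharP F p] (α : MulAut (Cfsg.POmega F (⇑Q))) (L : Ln Q) :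
    ∃ L' : Ln Q, α '' rootT Q hQ h3 L = rootT Q hQ h3 L' := by
  obtain ⟨P, hP⟩ := exists_sylow_of_ln Q hQ h3 p L
  obtain ⟨L', hL'⟩ := sylow_center_T Q hQ h3 p (α • P)
  refine ⟨L', ?_⟩
  rw [← hP, ← hL', sylow_smul_coe, zenT_map]

end

end Cfsg.Agent.H49
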