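import Mathlib
import Cfsg.Agent.H49.AutRoot

set_option autoImplicit false
set_option linter.unusedSectionVars false
set_option linter.unusedSimpArgs false
set_option linter.unusedVariables false

/-! Helper lemmas (helper49): group-theoretic recognition of incidence between totally singular
lines from their long root subgroups: commuting, and "all products are root elements". -/

namespace Cfsg.Agent.H49

open Module Matrix

section
variable {ι : Type} [Fintype ι] [DecidableEq ι] {F : Type*} [Field F]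

/-- Two lines are perpendicular. -/
def LPerp (Q : QuadraticForm F (ι → F)) (L M : Ln Q) : Prop :=
  ∀ u ∈ L.1, ∀ v ∈ M.1, QuadraticMap.polar (⇑Q) u v = 0

/-- Two lines meet. -/
def LMeet (Q : QuadraticForm F (ι → F)) (L M : Ln Q) : Prop := L.1 ⊓ M.1 ≠ ⊥

/-- Two distinct lines span a totally singular plane. -/
def LPen (Q : QuadraticForm F (ι → F)) (L M : Ln Q) : Prop :=
  L ≠ M ∧ LPerp Q L M ∧ LMeet Q L M

/-- Two lines meet or are perpendicular. -/
def LComm (Q : QuadraticForm F (ι → F)) (L M : Ln Q) : Prop := LPerp Q L M ∨ LMeet Q L M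

theorem lmeet_iff (Q : QuadraticForm F (ι → F)) (L M : Ln Q) :
    LMeet Q L M ↔ ∃ w : ι → F, w ≠ 0 ∧ w ∈ L.1 ∧ w ∈ M.1 := by
  constructor
  · intro h
    obtain ⟨w, hw, hw0⟩ := Submodule.exists_mem_ne_zero_of_ne_bot h
    exact ⟨w, hw0, (Submodule.mem_inf.mp hw).1, (Submodule.mem_inf.mp hw).2⟩
  · rintro ⟨w, hw0, hwL, hwM⟩ h
    have : w ∈ L.1 ⊓ M.1 := Submodule.mem_inf.mpr ⟨hwL, hwM⟩
    rw [h, Submodule.mem_bot] at this
    exact hw0 this

theorem lperp_spanLn (Q : QuadraticForm F (ι → F)) (x l a b : ι → F) (hx0 : x ≠ 0)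
    (hl : l ∉ Submodule.span F {x}) (hx : Q x = 0) (hQl : Q l = 0)
    (hxl : QuadraticMap.polar (⇑Q) x l = 0) (ha0 : a ≠ 0)
    (hb : b ∉ Submodule.span F {a}) (ha : Q a = 0) (hQb : Q b = 0)
    (hab : QuadraticMap.polar (⇑Q) a b = 0) :
    LPerp Q (spanLn Q x l hx0 hl hx hQl hxl) (spanLn Q a b ha0 hb ha hQb hab) ↔
      QuadraticMap.polar (⇑Q) x a = 0 ∧ QuadraticMap.polar (⇑Q) x b = 0 ∧
      QuadraticMap.polar (⇑Q) l a = 0 ∧ QuadraticMap.polar (⇑Q) l b = 0 := by
  constructor
  · intro h
    exact ⟨h x (Submodule.subset_span (by simp)) a (Submodule.subset_span (by simp)),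
      h x (Submodule.subset_span (by simp)) b (Submodule.subset_span (by simp)),
      h l (Submodule.subset_span (by simp)) a (Submodule.subset_span (by simp)),
      h l (Submodule.subset_span (by simp)) b (Submodule.subset_span (by simp))⟩
  · rintro ⟨h1, h2, h3, h4⟩ u hu v hv
    obtain ⟨c, d, rfl⟩ := Submodule.mem_span_pair.mp hu
    obtain ⟨c', d', rfl⟩ := Submodule.mem_span_pair.mp hv
    simp only [QuadraticMap.polar_add_left, QuadraticMap.polar_add_right,
      QuadraticMap.polar_smul_left, QuadraticMap.polar_smul_right, h1, h2, h3, h4, smul_zero,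
      add_zero]

theorem LPerp.symm {Q : QuadraticForm F (ι → F)} {L M : Ln Q} (h : LPerp Q L M) :
    LPerp Q M L := by
  intro u hu v hv
  rw [QuadraticMap.polar_comm]
  exact h v hv u hu

theorem LMeet.symm {Q : QuadraticForm F (ι → F)} {L M : Ln Q} (h : LMeet Q L M) :
    LMeet Q M L := by
  unfold LMeet at h ⊢
  rwa [inf_comm]

theorem LPen.symm {Q : QuadraticForm F (ι → F)} {L M : Ln Q} (h : LPen Q L M) :
    LPen Q M L := ⟨fun e => h.1 e.symm, h.2.1.symm, h.2.2.symm⟩

theorem siegelG_zero' (Q : QuadraticForm F (ι → F)) (u v : ι → F) (hu : Q u = 0)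
    (hv : Q v = 0) (huv : QuadraticMap.polar (⇑Q) u v = 0) :
    siegelG Q u v hu hv huv 0 = 1 := by
  apply act_ext
  intro z
  rw [act_siegelG, act_one, zero_smul, add_zero]

theorem siegelG_commute_perp (Q : QuadraticForm F (ι → F)) (u v u' v' : ι → F) (hu : Q u = 0)
    (hv : Q v = 0) (huv : QuadraticMap.polar (⇑Q) u v = 0) (hu' : Q u' = 0) (hv' : Q v' = 0)
    (huv' : QuadraticMap.polar (⇑Q) u' v' = 0) (h1 : QuadraticMap.polar (⇑Q) u u' = 0)
    (h2 : QuadraticMap.polar (⇑Q) u v' = 0) (h3 : QuadraticMap.polar (⇑Q) v u' = 0)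
    (h4 : QuadraticMap.polar (⇑Q) v v' = 0) (c c' : F) :
    siegelG Q u v hu hv huv c * siegelG Q u' v' hu' hv' huv' c'
      = siegelG Q u' v' hu' hv' huv' c' * siegelG Q u v hu hv huv c := by
  have e1 : act (siegelG Q u v hu hv huv c) u' = u' := by
    rw [act_siegelG, h1, h3]; simp
  have e2 : act (siegelG Q u v hu hv huv c) v' = v' := by
    rw [act_siegelG, h2, h4]; simp
  have e3 : siegelG Q u v hu hv huv c * siegelG Q u' v' hu' hv' huv' c'
      * (siegelG Q u v hu hv huv c)⁻¹ = siegelG Q u' v' hu' hv' huv' c' := by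
    rw [conj_siegelG]
    exact siegelG_congr Q _ _ _ _ _ _ _ _ _ _ _ _ e1 e2 rfl
  calc siegelG Q u v hu hv huv c * siegelG Q u' v' hu' hv' huv' c'
      = (siegelG Q u v hu hv huv c * siegelG Q u' v' hu' hv' huv' c'
        * (siegelG Q u v hu hv huv c)⁻¹) * siegelG Q u v hu hv huv c := by group
    _ = siegelG Q u' v' hu' hv' huv' c' * siegelG Q u v hu hv huv c := by rw [e3]

theorem eq_zero_of_smul_sub {x l : ι → F} (hx0 : x ≠ 0) (hl : l ∉ Submodule.span F {x})
    (α β : F) (h : α • l - β • x = 0) : α = 0 ∧ β = 0 := by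
  have hα : α = 0 := by
    by_contra hα
    apply hl
    have h1 : l = α⁻¹ • (β • x) := by
      rw [← sub_eq_zero.mp h, inv_smul_smul₀ hα]
    rw [h1]
    exact Submodule.smul_mem _ _ (Submodule.smul_mem _ _ (Submodule.mem_span_singleton_self x))
  refine ⟨hα, ?_⟩
  rw [hα, zero_smul, zero_sub, neg_eq_zero] at h
  rcases smul_eq_zero.mp h with h1 | h1
  · exact h1
  · exact absurd h1 hx0

/-- An isometry commuting with a non-trivial Siegel transformation stabilises its line. -/
theorem act_mem_of_commute (Q : QuadraticForm F (ι → F))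
    (hQ : (QuadraticMap.polarBilin Q).Nondegenerate) (a b : ι → F) (ha0 : a ≠ 0)
    (hb : b ∉ Submodule.span F {a}) (ha : Q a = 0) (hQb : Q b = 0)
    (hab : QuadraticMap.polar (⇑Q) a b = 0) (g : ↥(Cfsg.isometryGroup F (⇑Q)))
    (hg : g * siegelG Q a b ha hQb hab 1 = siegelG Q a b ha hQb hab 1 * g) :
    act g a ∈ Submodule.span F {a, b} ∧ act g b ∈ Submodule.span F {a, b} := by
  have hginv : g⁻¹ * siegelG Q a b ha hQb hab 1 = siegelG Q a b ha hQb hab 1 * g⁻¹ := by
    rw [eq_mul_inv_iff_mul_eq, mul_assoc, ← hg, inv_mul_cancel_left]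
  have e1 : g⁻¹ * siegelG Q a b ha hQb hab 1 * g⁻¹⁻¹ = siegelG Q a b ha hQb hab 1 := by
    rw [hginv, mul_inv_cancel_right]
  rw [conj_siegelG] at e1
  have key : ∀ z : ι → F, QuadraticMap.polar (⇑Q) (act g⁻¹ a) z • b
      - QuadraticMap.polar (⇑Q) (act g⁻¹ b) z • a
      = QuadraticMap.polar (⇑Q) a z • act g b - QuadraticMap.polar (⇑Q) b z • act g a := by
    intro z
    have e2 := congrArg (fun k => act k z) e1
    simp only [act_siegelG, one_smul] at e2
    have e3 := add_left_cancel e2
    have e4 := congrArg (act g) e3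
    simp only [act_sub, act_smul, act_act_inv] at e4
    exact e4
  have hba : QuadraticMap.polar (⇑Q) b a = 0 := by rw [QuadraticMap.polar_comm]; exact hab
  obtain ⟨a', ha', ha'W, haa'⟩ := exists_partner_orth Q hQ (Submodule.span F {b}) a ha
    (polar_span_singleton Q b a hba) (not_mem_span_symm ha0 hb)
  obtain ⟨b', hb', hb'W, hbb'⟩ := exists_partner_orth Q hQ (Submodule.span F {a}) b hQb
    (polar_span_singleton Q a b hab) hb
  have hmem : ∀ s t : F, s • b - t • a ∈ Submodule.span F {a, b} := by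
    intro s t
    exact Submodule.sub_mem _ (Submodule.smul_mem _ _ (Submodule.subset_span (by simp)))
      (Submodule.smul_mem _ _ (Submodule.subset_span (by simp)))
  constructor
  · have h1 := key b'
    rw [hbb', hb'W a (Submodule.mem_span_singleton_self a), zero_smul, one_smul, zero_sub] at h1
    have h2 := hmem (QuadraticMap.polar (⇑Q) (act g⁻¹ a) b') (QuadraticMap.polar (⇑Q) (act g⁻¹ b) b')
    rw [h1] at h2
    have := Submodule.neg_mem _ h2
    rwa [neg_neg] at this
  · have h1 := key a'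
    rw [haa', ha'W b (Submodule.mem_span_singleton_self b), zero_smul, one_smul, sub_zero] at h1
    have h2 := hmem (QuadraticMap.polar (⇑Q) (act g⁻¹ a) a') (QuadraticMap.polar (⇑Q) (act g⁻¹ b) a')
    rw [h1] at h2
    exact h2

/-- If the product of two commuting Siegel transformations on perpendicular disjoint lines moves
all vectors into `W`, then `W` contains the first line. -/
theorem le_of_moves_mul (Q : QuadraticForm F (ι → F))
    (hQ : (QuadraticMap.polarBilin Q).Nondegenerate) (x l a b : ι → F) (hx0 : x ≠ 0)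
    (hl : l ∉ Submodule.span F {x}) (hx : Q x = 0) (hQl : Q l = 0)
    (hxl : QuadraticMap.polar (⇑Q) x l = 0) (ha : Q a = 0) (hQb : Q b = 0)
    (hab : QuadraticMap.polar (⇑Q) a b = 0)
    (h1 : QuadraticMap.polar (⇑Q) x a = 0) (h2 : QuadraticMap.polar (⇑Q) x b = 0)
    (h3 : QuadraticMap.polar (⇑Q) l a = 0) (h4 : QuadraticMap.polar (⇑Q) l b = 0)
    (hdisj : Submodule.span F {x, l} ⊓ Submodule.span F {a, b} = ⊥)
    (W : Submodule F (ι → F))
    (h : Moves (siegelG Q x l hx hQl hxl 1 * siegelG Q a b ha hQb hab 1) W) :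
    Submodule.span F {x, l} ≤ W := by
  have hlx : QuadraticMap.polar (⇑Q) l x = 0 := by rw [QuadraticMap.polar_comm]; exact hxl
  have hxx : QuadraticMap.polar (⇑Q) x x = 0 := by rw [polar_self', hx, mul_zero]
  have hll : QuadraticMap.polar (⇑Q) l l = 0 := by rw [polar_self', hQl, mul_zero]
  have hl0 : l ≠ 0 := by
    rintro rfl
    exact hl (Submodule.zero_mem _)
  -- x is orthogonal to and outside span{l} ⊔ M
  have hx1 : ∀ w ∈ Submodule.span F {l} ⊔ Submodule.span F {a, b},
      QuadraticMap.polar (⇑Q) w x = 0 := by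
    intro w hw
    obtain ⟨w₁, hw₁, w₂, hw₂, rfl⟩ := Submodule.mem_sup.mp hw
    obtain ⟨t, rfl⟩ := Submodule.mem_span_singleton.mp hw₁
    obtain ⟨c, d, rfl⟩ := Submodule.mem_span_pair.mp hw₂
    simp only [QuadraticMap.polar_add_left, QuadraticMap.polar_smul_left, hlx,
      QuadraticMap.polar_comm (⇑Q) a x, QuadraticMap.polar_comm (⇑Q) b x, h1, h2, smul_zero,
      add_zero]
  have hx2 : x ∉ Submodule.span F {l} ⊔ Submodule.span F {a, b} := by
    intro hw
    obtain ⟨w₁, hw₁, w₂, hw₂, hsum⟩ := Submodule.mem_sup.mp hw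
    have h5 : w₂ ∈ Submodule.span F {x, l} ⊓ Submodule.span F {a, b} := by
      refine Submodule.mem_inf.mpr ⟨?_, hw₂⟩
      have : w₂ = x - w₁ := by rw [← hsum]; abel
      rw [this]
      apply Submodule.sub_mem _ (Submodule.subset_span (by simp))
      obtain ⟨t, rfl⟩ := Submodule.mem_span_singleton.mp hw₁
      exact Submodule.smul_mem _ _ (Submodule.subset_span (by simp))
    rw [hdisj, Submodule.mem_bot] at h5
    rw [h5, add_zero] at hsum
    rw [← hsum] at hx0
    exact not_mem_span_symm hx0 (by rw [← hsum] at hl; exact hl) hw₁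
  have hl1 : ∀ w ∈ Submodule.span F {x} ⊔ Submodule.span F {a, b},
      QuadraticMap.polar (⇑Q) w l = 0 := by
    intro w hw
    obtain ⟨w₁, hw₁, w₂, hw₂, rfl⟩ := Submodule.mem_sup.mp hw
    obtain ⟨t, rfl⟩ := Submodule.mem_span_singleton.mp hw₁
    obtain ⟨c, d, rfl⟩ := Submodule.mem_span_pair.mp hw₂
    simp only [QuadraticMap.polar_add_left, QuadraticMap.polar_smul_left, hxl,
      QuadraticMap.polar_comm (⇑Q) a l, QuadraticMap.polar_comm (⇑Q) b l, h3, h4, smul_zero,
      add_zero]
  have hl2 : l ∉ Submodule.span F {x} ⊔ Submodule.span F {a, b} := by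
    intro hw
    obtain ⟨w₁, hw₁, w₂, hw₂, hsum⟩ := Submodule.mem_sup.mp hw
    have h5 : w₂ ∈ Submodule.span F {x, l} ⊓ Submodule.span F {a, b} := by
      refine Submodule.mem_inf.mpr ⟨?_, hw₂⟩
      have : w₂ = l - w₁ := by rw [← hsum]; abel
      rw [this]
      apply Submodule.sub_mem _ (Submodule.subset_span (by simp))
      obtain ⟨t, rfl⟩ := Submodule.mem_span_singleton.mp hw₁
      exact Submodule.smul_mem _ _ (Submodule.subset_span (by simp))
    rw [hdisj, Submodule.mem_bot] at h5
    rw [h5, add_zero] at hsum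
    rw [← hsum] at hl
    exact hl hw₁
  obtain ⟨x', hx', hx'W, hxx'⟩ := exists_partner_orth Q hQ _ x hx hx1 hx2
  obtain ⟨l', hl', hl'W, hll'⟩ := exists_partner_orth Q hQ _ l hQl hl1 hl2
  have hmemW : ∀ z : ι → F, QuadraticMap.polar (⇑Q) a z = 0 → QuadraticMap.polar (⇑Q) b z = 0 →
      QuadraticMap.polar (⇑Q) x z • l - QuadraticMap.polar (⇑Q) l z • x ∈ W := by
    intro z haz hbz
    have h5 := h z
    rw [act_mul, act_siegelG Q a b, haz, hbz, act_siegelG] at h5
    simp only [zero_smul, sub_zero, smul_zero, add_zero, one_smul] at h5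
    rw [add_sub_cancel_left] at h5
    exact h5
  have e1 := hmemW x' (hx'W a (Submodule.mem_sup_right (Submodule.subset_span (by simp))))
    (hx'W b (Submodule.mem_sup_right (Submodule.subset_span (by simp))))
  rw [hxx', hx'W l (Submodule.mem_sup_left (Submodule.mem_span_singleton_self l)), one_smul,
    zero_smul, sub_zero] at e1
  have e2 := hmemW l' (hl'W a (Submodule.mem_sup_right (Submodule.subset_span (by simp))))
    (hl'W b (Submodule.mem_sup_right (Submodule.subset_span (by simp))))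
  rw [hll', hl'W x (Submodule.mem_sup_left (Submodule.mem_span_singleton_self x)), one_smul,
    zero_smul, zero_sub] at e2
  rw [Submodule.span_le]
  intro z hz
  rcases hz with hz | hz
  · rw [hz]
    have := W.neg_mem e2
    rwa [neg_neg] at this
  · have hz' : z = l := hz
    rw [hz']
    exact e1

variable [Fintype F]

/-- The root subgroups of two lines commute elementwise. -/
def GComm (Q : QuadraticForm F (ι → F))
    (hQ : (QuadraticMap.polarBilin Q).Nondegenerate) (h3 : HasTS3 Q) (L M : Ln Q) : Prop :=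
  ∀ a ∈ rootT Q hQ h3 L, ∀ b ∈ rootT Q hQ h3 M, a * b = b * a

/-- The root subgroups of two distinct lines commute and all products are root elements. -/
def GPen (Q : QuadraticForm F (ι → F))
    (hQ : (QuadraticMap.polarBilin Q).Nondegenerate) (h3 : HasTS3 Q) (L M : Ln Q) : Prop :=
  L ≠ M ∧ GComm Q hQ h3 L M ∧
    ∀ a ∈ rootT Q hQ h3 L, ∀ b ∈ rootT Q hQ h3 M, ∃ K : Ln Q, a * b ∈ rootT Q hQ h3 K

theorem gcomm_iff (Q : QuadraticForm F (ι → F))
    (hQ : (QuadraticMap.polarBilin Q).Nondegenerate) (h3 : HasTS3 Q) (L M : Ln Q) :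
    GComm Q hQ h3 L M ↔ LComm Q L M := by
  have h6 := six_le_of_hasTS3 Q hQ h3
  constructor
  · intro hG
    by_cases hmeet : LMeet Q L M
    · exact Or.inr hmeet
    · left
      obtain ⟨x, l, hx0, hl, hx, hQl, hxl, rfl⟩ := exists_basis_ln Q hQ L
      obtain ⟨a, b, ha0, hb, ha, hQb, hab, rfl⟩ := exists_basis_ln Q hQ M
      have hcomm := hG (QuotientGroup.mk (sieO Q hQ h3 x l hx hQl hxl 1))
        ((mem_rootT_spanLn Q hQ h3 x l hx0 hl hx hQl hxl _).mpr ⟨1, rfl⟩)
        (QuotientGroup.mk (sieO Q hQ h3 a b ha hQb hab 1))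
        ((mem_rootT_spanLn Q hQ h3 a b ha0 hb ha hQb hab _).mpr ⟨1, rfl⟩)
      have hm : Moves (sieO Q hQ h3 a b ha hQb hab 1).1 (Submodule.span F {a, b}) := by
        rw [sieO_coe]
        exact moves_siegelG Q a b ha hQb hab 1
      have hc := commute_of_mk_commute Q hQ h3 (sieO Q hQ h3 x l hx hQl hxl 1)
        (sieO Q hQ h3 a b ha hQb hab 1) (Submodule.span F {a, b}) hm (by
          have e2 := finrank_span_pair_le (F := F) a b
          omega) hcomm
      have hc' : siegelG Q x l hx hQl hxl 1 * siegelG Q a b ha hQb hab 1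
          = siegelG Q a b ha hQb hab 1 * siegelG Q x l hx hQl hxl 1 := by
        have := congrArg Subtype.val hc
        exact this
      obtain ⟨hga, hgb⟩ := act_mem_of_commute Q hQ a b ha0 hb ha hQb hab _ hc'
      have hbot : Submodule.span F {x, l} ⊓ Submodule.span F {a, b} = ⊥ := by
        by_contra hne
        exact hmeet hne
      have key : ∀ w : ι → F, w ∈ Submodule.span F {a, b} →
          act (siegelG Q x l hx hQl hxl 1) w ∈ Submodule.span F {a, b} →
          QuadraticMap.polar (⇑Q) x w = 0 ∧ QuadraticMap.polar (⇑Q) l w = 0 := by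
        intro w hw hgw
        have h1 : QuadraticMap.polar (⇑Q) x w • l - QuadraticMap.polar (⇑Q) l w • x
            ∈ Submodule.span F {x, l} ⊓ Submodule.span F {a, b} := by
          refine Submodule.mem_inf.mpr ⟨?_, ?_⟩
          · exact Submodule.sub_mem _ (Submodule.smul_mem _ _ (Submodule.subset_span (by simp)))
              (Submodule.smul_mem _ _ (Submodule.subset_span (by simp)))
          · have h2 := Submodule.sub_mem _ hgw hw
            rw [act_siegelG, add_sub_cancel_left, one_smul] at h2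
            exact h2
        rw [hbot, Submodule.mem_bot] at h1
        exact eq_zero_of_smul_sub hx0 hl _ _ h1
      obtain ⟨k1, k3⟩ := key a (Submodule.subset_span (by simp)) hga
      obtain ⟨k2, k4⟩ := key b (Submodule.subset_span (by simp)) hgb
      exact (lperp_spanLn Q x l a b hx0 hl hx hQl hxl ha0 hb ha hQb hab).mpr ⟨k1, k2, k3, k4⟩
  · rintro (hperp | hmeet)
    · rintro _ ⟨u, v, hu, hv, huv, c, huL, hvL, rfl⟩ _ ⟨u', v', hu', hv', huv', c', hu'M, hv'M, rfl⟩
      rw [← QuotientGroup.mk_mul, ← QuotientGroup.mk_mul]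
      congr 1
      apply Subtype.ext
      exact siegelG_commute_perp Q u v u' v' hu hv huv hu' hv' huv' (hperp u huL u' hu'M)
        (hperp u huL v' hv'M) (hperp v hvL u' hu'M) (hperp v hvL v' hv'M) c c'
    · obtain ⟨w, hw0, hwL, hwM⟩ := (lmeet_iff Q L M).mp hmeet
      have hw : Q w = 0 := L.2.2 w hwL
      obtain ⟨l, hl, hQl, hwl, rfl⟩ := exists_basis_ln_of_mem Q hQ L w hw0 hw hwL
      obtain ⟨m, hm, hQm, hwm, rfl⟩ := exists_basis_ln_of_mem Q hQ M w hw0 hw hwM
      intro a ha b hb
      obtain ⟨c, rfl⟩ := (mem_rootT_spanLn Q hQ h3 w l hw0 hl hw hQl hwl a).mp ha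
      obtain ⟨c', rfl⟩ := (mem_rootT_spanLn Q hQ h3 w m hw0 hm hw hQm hwm b).mp hb
      rw [← QuotientGroup.mk_mul, ← QuotientGroup.mk_mul]
      congr 1
      apply Subtype.ext
      exact siegelG_commute_same Q w l m hw hQl hQm hwl hwm c c'

theorem gpen_iff (Q : QuadraticForm F (ι → F))
    (hQ : (QuadraticMap.polarBilin Q).Nondegenerate) (h3 : HasTS3 Q)
    (hn : 7 ≤ finrank F (ι → F)) (L M : Ln Q) :
    GPen Q hQ h3 L M ↔ LPen Q L M := by
  constructor
  · rintro ⟨hne, hG, hprod⟩
    have hcomm := (gcomm_iff Q hQ h3 L M).mp hG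
    by_cases hmeet : LMeet Q L M
    · refine ⟨hne, ?_, hmeet⟩
      by_contra hperp
      obtain ⟨w, hw0, hwL, hwM⟩ := (lmeet_iff Q L M).mp hmeet
      have hw : Q w = 0 := L.2.2 w hwL
      obtain ⟨l, hl, hQl, hwl, rfl⟩ := exists_basis_ln_of_mem Q hQ L w hw0 hw hwL
      obtain ⟨m, hm, hQm, hwm, rfl⟩ := exists_basis_ln_of_mem Q hQ M w hw0 hw hwM
      have hww : QuadraticMap.polar (⇑Q) w w = 0 := by rw [polar_self', hw, mul_zero]
      have hlw : QuadraticMap.polar (⇑Q) l w = 0 := by rw [QuadraticMap.polar_comm]; exact hwl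
      have hlm : QuadraticMap.polar (⇑Q) l m ≠ 0 := by
        intro h
        exact hperp ((lperp_spanLn Q w l w m hw0 hl hw hQl hwl hw0 hm hw hQm hwm).mpr
          ⟨hww, hwm, hlw, h⟩)
      obtain ⟨K, hK⟩ := hprod (QuotientGroup.mk (sieO Q hQ h3 w l hw hQl hwl 1))
        ((mem_rootT_spanLn Q hQ h3 w l hw0 hl hw hQl hwl _).mpr ⟨1, rfl⟩)
        (QuotientGroup.mk (sieO Q hQ h3 w m hw hQm hwm 1))
        ((mem_rootT_spanLn Q hQ h3 w m hw0 hm hw hQm hwm _).mpr ⟨1, rfl⟩)
      obtain ⟨u, v, hu, hv, huv, c, huK, hvK, heq⟩ := hK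
      rw [← QuotientGroup.mk_mul] at heq
      have hwlm : QuadraticMap.polar (⇑Q) w (l + m) = 0 := by
        rw [QuadraticMap.polar_add_right, hwl, hwm, add_zero]
      have hprodE : (sieO Q hQ h3 w l hw hQl hwl 1 * sieO Q hQ h3 w m hw hQm hwm 1).1
          = eichG Q w (l + m) hw hwlm := by
        show siegelG Q w l hw hQl hwl 1 * siegelG Q w m hw hQm hwm 1 = _
        rw [siegelG_eq_eichG, siegelG_eq_eichG, eichG_mul]
        exact eichG_congr Q _ _ _ _ _ _ _ _ rfl (by rw [one_smul, one_smul])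
      have hm1 : Moves (sieO Q hQ h3 w l hw hQl hwl 1 * sieO Q hQ h3 w m hw hQm hwm 1).1
          (Submodule.span F {w, l + m}) := by
        rw [hprodE]
        exact moves_eichG Q w (l + m) hw hwlm
      have hm2 : Moves (sieO Q hQ h3 u v hu hv huv c).1 (Submodule.span F {u, v}) := by
        rw [sieO_coe]
        exact moves_siegelG Q u v hu hv huv c
      have h2 := eq_of_mk_eq_of_moves Q hQ h3 _ _ _ _ hm1 hm2 (by
        have e1 := finrank_span_pair_le (F := F) w (l + m)
        have e2 := finrank_span_pair_le (F := F) u v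
        omega) heq
      have h4 : eichG Q w (l + m) hw hwlm = siegelG Q u v hu hv huv c := by
        rw [← hprodE, h2, sieO_coe]
      obtain ⟨y, hy, hwy⟩ := exists_hyp_partner Q (fun a ha => hQ.1 a ha) w hw0 hw
      have h5 : act (eichG Q w (l + m) hw hwlm) y - y ∈ K.1 := by
        rw [h4]
        have h6 := moves_siegelG Q u v hu hv huv c y
        have hle : Submodule.span F {u, v} ≤ K.1 := by
          rw [Submodule.span_le]
          intro z hz
          rcases hz with hz | hz
          · rw [hz]; exact huK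
          · have hz' : z = v := hz
            rw [hz']; exact hvK
        exact hle h6
      have h6 := K.2.2 _ h5
      rw [act_eichG, hwy] at h6
      have e : y + (1 : F) • (l + m) - QuadraticMap.polar (⇑Q) (l + m) y • w
          - (Q (l + m) * 1) • w - y
          = (l + m) - (QuadraticMap.polar (⇑Q) (l + m) y + Q (l + m)) • w := by
        funext i
        simp only [Pi.add_apply, Pi.sub_apply, Pi.smul_apply, smul_eq_mul]
        ring
      rw [e, Q_sub_smul, hw, hwlm, Q_add', hQl, hQm] at h6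
      apply hlm
      linear_combination h6
    · exfalso
      have hperp : LPerp Q L M := by
        rcases hcomm with h | h
        · exact h
        · exact absurd h hmeet
      obtain ⟨x, l, hx0, hl, hx, hQl, hxl, rfl⟩ := exists_basis_ln Q hQ L
      obtain ⟨a, b, ha0, hb, ha, hQb, hab, rfl⟩ := exists_basis_ln Q hQ M
      obtain ⟨k1, k2, k3, k4⟩ :=
        (lperp_spanLn Q x l a b hx0 hl hx hQl hxl ha0 hb ha hQb hab).mp hperp
      have hbot : Submodule.span F {x, l} ⊓ Submodule.span F {a, b} = ⊥ := by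
        by_contra hne'
        exact hmeet hne'
      obtain ⟨K, hK⟩ := hprod (QuotientGroup.mk (sieO Q hQ h3 x l hx hQl hxl 1))
        ((mem_rootT_spanLn Q hQ h3 x l hx0 hl hx hQl hxl _).mpr ⟨1, rfl⟩)
        (QuotientGroup.mk (sieO Q hQ h3 a b ha hQb hab 1))
        ((mem_rootT_spanLn Q hQ h3 a b ha0 hb ha hQb hab _).mpr ⟨1, rfl⟩)
      obtain ⟨u, v, hu, hv, huv, c, huK, hvK, heq⟩ := hK
      rw [← QuotientGroup.mk_mul] at heq
      have hm1 : Moves (sieO Q hQ h3 x l hx hQl hxl 1 * sieO Q hQ h3 a b ha hQb hab 1).1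
          (Submodule.span F {x, l} ⊔ Submodule.span F {a, b}) :=
        (moves_siegelG Q x l hx hQl hxl 1).mul (moves_siegelG Q a b ha hQb hab 1)
      have hm2 : Moves (sieO Q hQ h3 u v hu hv huv c).1 (Submodule.span F {u, v}) := by
        rw [sieO_coe]
        exact moves_siegelG Q u v hu hv huv c
      have h2 := eq_of_mk_eq_of_moves Q hQ h3 _ _ _ _ hm1 hm2 (by
        have e1 := finrank_span_pair_le (F := F) x l
        have e2 := finrank_span_pair_le (F := F) a b
        have e3 := finrank_span_pair_le (F := F) u v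
        have e4 := Submodule.finrank_add_le_finrank_add_finrank (Submodule.span F {x, l})
          (Submodule.span F {a, b})
        omega) heq
      have hle : Submodule.span F {u, v} ≤ K.1 := by
        rw [Submodule.span_le]
        intro z hz
        rcases hz with hz | hz
        · rw [hz]; exact huK
        · have hz' : z = v := hz
          rw [hz']; exact hvK
      have h4 : Moves (siegelG Q x l hx hQl hxl 1 * siegelG Q a b ha hQb hab 1) K.1 := by
        have h5 : siegelG Q x l hx hQl hxl 1 * siegelG Q a b ha hQb hab 1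
            = siegelG Q u v hu hv huv c := by
          have := congrArg Subtype.val h2
          exact this
        rw [h5]
        exact (moves_siegelG Q u v hu hv huv c).mono hle
      have hL := le_of_moves_mul Q hQ x l a b hx0 hl hx hQl hxl ha hQb hab k1 k2 k3 k4 hbot
        K.1 h4
      have h4' : Moves (siegelG Q a b ha hQb hab 1 * siegelG Q x l hx hQl hxl 1) K.1 := by
        rw [← siegelG_commute_perp Q x l a b hx hQl hxl ha hQb hab k1 k2 k3 k4 1 1]
        exact h4
      have hM := le_of_moves_mul Q hQ a b x l ha0 hb ha hQb hab hx hQl hxl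
        (by rw [QuadraticMap.polar_comm]; exact k1) (by rw [QuadraticMap.polar_comm]; exact k3)
        (by rw [QuadraticMap.polar_comm]; exact k2) (by rw [QuadraticMap.polar_comm]; exact k4)
        (by rw [inf_comm]; exact hbot) K.1 h4'
      have eL : Submodule.span F {x, l} = K.1 :=
        Submodule.eq_of_le_of_finrank_eq hL (by rw [K.2.1]; exact finrank_span_pair_eq x l hx0 hl)
      have eM : Submodule.span F {a, b} = K.1 :=
        Submodule.eq_of_le_of_finrank_eq hM (by rw [K.2.1]; exact finrank_span_pair_eq a b ha0 hb)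
      apply hne
      apply Subtype.ext
      show Submodule.span F {x, l} = Submodule.span F {a, b}
      rw [eL, eM]
  · rintro ⟨hne, hperp, hmeet⟩
    refine ⟨hne, (gcomm_iff Q hQ h3 L M).mpr (Or.inl hperp), ?_⟩
    obtain ⟨w, hw0, hwL, hwM⟩ := (lmeet_iff Q L M).mp hmeet
    have hw : Q w = 0 := L.2.2 w hwL
    obtain ⟨l, hl, hQl, hwl, rfl⟩ := exists_basis_ln_of_mem Q hQ L w hw0 hw hwL
    obtain ⟨m, hm, hQm, hwm, rfl⟩ := exists_basis_ln_of_mem Q hQ M w hw0 hw hwM
    have hlm : QuadraticMap.polar (⇑Q) l m = 0 :=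
      hperp l (Submodule.subset_span (by simp)) m (Submodule.subset_span (by simp))
    intro a ha b hb
    obtain ⟨c, rfl⟩ := (mem_rootT_spanLn Q hQ h3 w l hw0 hl hw hQl hwl a).mp ha
    obtain ⟨c', rfl⟩ := (mem_rootT_spanLn Q hQ h3 w m hw0 hm hw hQm hwm b).mp hb
    obtain ⟨v, hvd⟩ : ∃ v, v = c • l + c' • m := ⟨_, rfl⟩
    have hQv : Q v = 0 := by
      rw [hvd, Q_add', QuadraticMap.map_smul, QuadraticMap.map_smul, hQl, hQm,
        QuadraticMap.polar_smul_left, QuadraticMap.polar_smul_right, hlm]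
      simp
    have hwv : QuadraticMap.polar (⇑Q) w v = 0 := by
      rw [hvd, QuadraticMap.polar_add_right, QuadraticMap.polar_smul_right,
        QuadraticMap.polar_smul_right, hwl, hwm]
      simp
    have hprodE : siegelG Q w l hw hQl hwl c * siegelG Q w m hw hQm hwm c'
        = eichG Q w v hw hwv := by
      rw [siegelG_eq_eichG, siegelG_eq_eichG, eichG_mul]
      exact eichG_congr Q _ _ _ _ _ _ _ _ rfl hvd.symm
    rw [← QuotientGroup.mk_mul]
    by_cases hv : v ∈ Submodule.span F {w}
    · refine ⟨spanLn Q w l hw0 hl hw hQl hwl, ?_⟩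
      rw [mem_rootT_spanLn]
      refine ⟨0, ?_⟩
      congr 1
      apply Subtype.ext
      show siegelG Q w l hw hQl hwl c * siegelG Q w m hw hQm hwm c' = siegelG Q w l hw hQl hwl 0
      rw [hprodE, siegelG_zero']
      obtain ⟨t, ht⟩ := Submodule.mem_span_singleton.mp hv
      have h0 : QuadraticMap.polar (⇑Q) w (0 + t • w) = 0 := by
        rw [zero_add, ht]; exact hwv
      rw [eichG_congr Q w w v (0 + t • w) hw hw hwv h0 rfl (by rw [zero_add, ht]),
        eichG_add_smul Q w 0 t hw (QuadraticMap.polar_zero_right _ _) h0]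
      exact eichG_zero Q w hw _
    · refine ⟨spanLn Q w v hw0 hv hw hQv hwv, ?_⟩
      rw [mem_rootT_spanLn]
      refine ⟨1, ?_⟩
      congr 1
      apply Subtype.ext
      show siegelG Q w l hw hQl hwl c * siegelG Q w m hw hQm hwm c' = siegelG Q w v hw hQv hwv 1
      rw [hprodE, siegelG_eq_eichG]
      exact eichG_congr Q _ _ _ _ _ _ _ _ rfl (by rw [one_smul])

end

end Cfsg.Agent.H49
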