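import Mathlib
import Cfsg.Agent.H49.AutRel

set_option autoImplicit false
set_option linter.unusedSectionVars false
set_option linter.unusedSimpArgs false
set_option linter.unusedVariables false

/-! Helper lemmas (helper49): a bijection of the totally singular lines preserving the relations
"span a totally singular plane" and "meet or perpendicular" preserves "meet", hence induces a
bijection of the singular points (dimension at least 7, no totally singular 4-spaces in dimension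
at most 8). -/

namespace Cfsg.Agent.H49

open Module Matrix

/-- The relation used to separate perpendicular disjoint lines from concurrent non-perpendicular
lines: there is a common neighbour `K₁` having a neighbour among the common neighbours, such that
among any three distinct common neighbours adjacent to `K₁` two are adjacent. -/
def DisjRel {α : Type*} (P : α → α → Prop) (L M : α) : Prop :=
  ∃ K₁, P K₁ L ∧ P K₁ M ∧ (∃ K₂, P K₂ L ∧ P K₂ M ∧ P K₂ K₁) ∧
    ∀ A B C, P A L → P A M → P A K₁ → P B L → P B M → P B K₁ → P C L → P C M → P C K₁ →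
      A ≠ B → A ≠ C → B ≠ C → (P A B ∨ P A C ∨ P B C)

theorem DisjRel.map {α : Type*} {P : α → α → Prop} (f g : α → α) (hgf : ∀ a, g (f a) = a)
    (hfg : ∀ a, f (g a) = a) (hP : ∀ a b, P (f a) (f b) ↔ P a b) {L M : α}
    (h : DisjRel P L M) : DisjRel P (f L) (f M) := by
  obtain ⟨K₁, h1, h2, ⟨K₂, h3, h4, h5⟩, h6⟩ := h
  refine ⟨f K₁, (hP _ _).mpr h1, (hP _ _).mpr h2,
    ⟨f K₂, (hP _ _).mpr h3, (hP _ _).mpr h4, (hP _ _).mpr h5⟩, ?_⟩
  intro A B C a1 a2 a3 b1 b2 b3 c1 c2 c3 hAB hAC hBC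
  have key : ∀ X Y : α, P X (f Y) → P (g X) Y := by
    intro X Y hXY
    rw [← hfg X] at hXY
    exact (hP _ _).mp hXY
  have key2 : ∀ X Y : α, P (g X) (g Y) → P X Y := by
    intro X Y hXY
    have := (hP _ _).mpr hXY
    rwa [hfg, hfg] at this
  have hne : ∀ X Y : α, X ≠ Y → g X ≠ g Y := by
    intro X Y hXY e
    apply hXY
    rw [← hfg X, e, hfg]
  rcases h6 (g A) (g B) (g C) (key _ _ a1) (key _ _ a2) (key _ _ a3) (key _ _ b1) (key _ _ b2)
    (key _ _ b3) (key _ _ c1) (key _ _ c2) (key _ _ c3) (hne _ _ hAB) (hne _ _ hAC)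
    (hne _ _ hBC) with h | h | h
  · exact Or.inl (key2 _ _ h)
  · exact Or.inr (Or.inl (key2 _ _ h))
  · exact Or.inr (Or.inr (key2 _ _ h))

theorem disjRel_map_iff {α : Type*} {P : α → α → Prop} (f g : α → α) (hgf : ∀ a, g (f a) = a)
    (hfg : ∀ a, f (g a) = a) (hP : ∀ a b, P (f a) (f b) ↔ P a b) (L M : α) :
    DisjRel P (f L) (f M) ↔ DisjRel P L M := by
  constructor
  · intro h
    have hP' : ∀ a b, P (g a) (g b) ↔ P a b := by
      intro a b
      have := hP (g a) (g b)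
      rw [hfg, hfg] at this
      exact this.symm
    have := DisjRel.map g f hfg hgf hP' h
    rwa [hgf, hgf] at this
  · exact DisjRel.map f g hgf hfg hP

section
variable {ι : Type} [Fintype ι] [DecidableEq ι] {F : Type*} [Field F]

theorem isTS_sup_singleton {Q : QuadraticForm F (ι → F)} {U : Submodule F (ι → F)}
    (hU : IsTS Q U) {x : ι → F} (hx : Q x = 0)
    (hxU : ∀ u ∈ U, QuadraticMap.polar (⇑Q) u x = 0) :
    IsTS Q (U ⊔ Submodule.span F {x}) := by
  intro y hy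
  obtain ⟨u, hu, z, hz, rfl⟩ := Submodule.mem_sup.mp hy
  obtain ⟨c, rfl⟩ := Submodule.mem_span_singleton.mp hz
  rw [Q_add', hU u hu, QuadraticMap.map_smul, hx, QuadraticMap.polar_smul_right, hxU u hu]
  simp

theorem isTS_two_mul_finrank_le {Q : QuadraticForm F (ι → F)}
    (hQ : (QuadraticMap.polarBilin Q).Nondegenerate) {U : Submodule F (ι → F)}
    (hU : IsTS Q U) : 2 * finrank F U ≤ finrank F (ι → F) := by
  have h1 := Submodule.finrank_mono hU.le_orthogonal
  have h2 := LinearMap.BilinForm.finrank_orthogonal hQ U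
  have h3 := Submodule.finrank_le U
  omega

theorem ln_ext {Q : QuadraticForm F (ι → F)} {L M : Ln Q} (h : L.1 ≤ M.1) : L = M := by
  apply Subtype.ext
  exact Submodule.eq_of_le_of_finrank_eq h (by rw [L.2.1, M.2.1])

theorem ln_eq_span {Q : QuadraticForm F (ι → F)} (L : Ln Q) (w p : ι → F) (hw0 : w ≠ 0)
    (hp : p ∉ Submodule.span F {w}) (hwL : w ∈ L.1) (hpL : p ∈ L.1) :
    Submodule.span F {w, p} = L.1 := by
  apply Submodule.eq_of_le_of_finrank_eq
  · rw [Submodule.span_le]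
    intro z hz
    rcases hz with hz | hz
    · rw [hz]; exact hwL
    · have hz' : z = p := hz
      rw [hz']; exact hpL
  · rw [finrank_span_pair_eq w p hw0 hp, L.2.1]

/-- Two lines through `w` that are not perpendicular: a line meeting both passes through `w`. -/
theorem mem_of_meet_both (Q : QuadraticForm F (ι → F)) (L M K : Ln Q) (w : ι → F)
    (hw0 : w ≠ 0) (hwL : w ∈ L.1) (hwM : w ∈ M.1) (hnp : ¬ LPerp Q L M)
    (hKL : LMeet Q K L) (hKM : LMeet Q K M) : w ∈ K.1 := by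
  by_contra hwK
  obtain ⟨p, hp0, hpK, hpL⟩ := (lmeet_iff Q K L).mp hKL
  obtain ⟨r, hr0, hrK, hrM⟩ := (lmeet_iff Q K M).mp hKM
  have hp : p ∉ Submodule.span F {w} := by
    intro h
    obtain ⟨t, rfl⟩ := Submodule.mem_span_singleton.mp h
    have ht : t ≠ 0 := by
      rintro rfl
      exact hp0 (zero_smul _ _)
    apply hwK
    have : w = t⁻¹ • (t • w) := by rw [inv_smul_smul₀ ht]
    rw [this]
    exact K.1.smul_mem _ hpK
  have hr : r ∉ Submodule.span F {w} := by
    intro h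
    obtain ⟨t, rfl⟩ := Submodule.mem_span_singleton.mp h
    have ht : t ≠ 0 := by
      rintro rfl
      exact hr0 (zero_smul _ _)
    apply hwK
    have : w = t⁻¹ • (t • w) := by rw [inv_smul_smul₀ ht]
    rw [this]
    exact K.1.smul_mem _ hrK
  have hL := ln_eq_span L w p hw0 hp hwL hpL
  have hM := ln_eq_span M w r hw0 hr hwM hrM
  apply hnp
  intro u hu v hv
  rw [← hL] at hu
  rw [← hM] at hv
  obtain ⟨c, d, rfl⟩ := Submodule.mem_span_pair.mp hu
  obtain ⟨c', d', rfl⟩ := Submodule.mem_span_pair.mp hv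
  have h1 : QuadraticMap.polar (⇑Q) w w = 0 := L.2.2.polar hwL hwL
  have h2 : QuadraticMap.polar (⇑Q) w r = 0 := M.2.2.polar hwM hrM
  have h3 : QuadraticMap.polar (⇑Q) p w = 0 := L.2.2.polar hpL hwL
  have h4 : QuadraticMap.polar (⇑Q) p r = 0 := K.2.2.polar hpK hrK
  simp only [QuadraticMap.polar_add_left, QuadraticMap.polar_add_right,
    QuadraticMap.polar_smul_left, QuadraticMap.polar_smul_right, h1, h2, h3, h4, smul_zero,
    add_zero]

theorem star_iff (Q : QuadraticForm F (ι → F)) (L M : Ln Q) (w : ι → F)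
    (hw0 : w ≠ 0) (hwL : w ∈ L.1) (hwM : w ∈ M.1) (hnp : ¬ LPerp Q L M) (K : Ln Q) :
    w ∈ K.1 ↔ LMeet Q K L ∧ LMeet Q K M := by
  constructor
  · intro hwK
    exact ⟨(lmeet_iff Q K L).mpr ⟨w, hw0, hwK, hwL⟩, (lmeet_iff Q K M).mpr ⟨w, hw0, hwK, hwM⟩⟩
  · rintro ⟨h1, h2⟩
    exact mem_of_meet_both Q L M K w hw0 hwL hwM hnp h1 h2

/-- Perpendicular disjoint lines satisfy `DisjRel`. -/
theorem disjRel_of_perp (Q : QuadraticForm F (ι → F))
    (hQ : (QuadraticMap.polarBilin Q).Nondegenerate) (L M : Ln Q) (hperp : LPerp Q L M)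
    (hmeet : ¬ LMeet Q L M) : DisjRel (LPen Q) L M := by
  obtain ⟨x, l, hx0, hl, hx, hQl, hxl, hLeq⟩ := exists_basis_ln Q hQ L
  obtain ⟨a, b, ha0, hb, ha, hQb, hab, hMeq⟩ := exists_basis_ln Q hQ M
  have hLval : L.1 = Submodule.span F {x, l} := by rw [hLeq]; rfl
  have hMval : M.1 = Submodule.span F {a, b} := by rw [hMeq]; rfl
  have hxL : x ∈ L.1 := by rw [hLval]; exact Submodule.subset_span (by simp)
  have haM : a ∈ M.1 := by rw [hMval]; exact Submodule.subset_span (by simp)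
  have hbM : b ∈ M.1 := by rw [hMval]; exact Submodule.subset_span (by simp)
  have hb0 : b ≠ 0 := by
    rintro rfl
    exact hb (Submodule.zero_mem _)
  have hbot : L.1 ⊓ M.1 = ⊥ := by
    by_contra h
    exact hmeet h
  have hnotM : ∀ v ∈ L.1, v ∈ M.1 → v = 0 := by
    intro v hv hvM
    have := Submodule.mem_inf.mpr ⟨hv, hvM⟩
    rwa [hbot, Submodule.mem_bot] at this
  have hax : a ∉ Submodule.span F {x} := by
    intro h
    obtain ⟨t, rfl⟩ := Submodule.mem_span_singleton.mp h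
    exact ha0 (hnotM _ (L.1.smul_mem _ hxL) haM)
  have hbx : b ∉ Submodule.span F {x} := by
    intro h
    obtain ⟨t, rfl⟩ := Submodule.mem_span_singleton.mp h
    exact hb0 (hnotM _ (L.1.smul_mem _ hxL) hbM)
  have hxa : QuadraticMap.polar (⇑Q) x a = 0 := hperp x hxL a haM
  have hxb : QuadraticMap.polar (⇑Q) x b = 0 := hperp x hxL b hbM
  obtain ⟨K₁, hK₁⟩ : ∃ K : Ln Q, K.1 = Submodule.span F {x, a} :=
    ⟨spanLn Q x a hx0 hax hx ha hxa, rfl⟩
  obtain ⟨K₂, hK₂⟩ : ∃ K : Ln Q, K.1 = Submodule.span F {x, b} :=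
    ⟨spanLn Q x b hx0 hbx hx hQb hxb, rfl⟩
  have hW : ∀ u ∈ L.1 ⊔ M.1, ∀ v ∈ L.1 ⊔ M.1, QuadraticMap.polar (⇑Q) u v = 0 := by
    intro u hu v hv
    obtain ⟨u₁, hu₁, u₂, hu₂, rfl⟩ := Submodule.mem_sup.mp hu
    obtain ⟨v₁, hv₁, v₂, hv₂, rfl⟩ := Submodule.mem_sup.mp hv
    rw [QuadraticMap.polar_add_left, QuadraticMap.polar_add_right, QuadraticMap.polar_add_right,
      L.2.2.polar hu₁ hv₁, hperp u₁ hu₁ v₂ hv₂, M.2.2.polar hu₂ hv₂,
      QuadraticMap.polar_comm (⇑Q) u₂ v₁, hperp v₁ hv₁ u₂ hu₂]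
    simp
  have pen_common : ∀ (A B : Ln Q), A ≠ B → ∀ w : ι → F, w ≠ 0 → w ∈ A.1 → w ∈ B.1 →
      A.1 ≤ L.1 ⊔ M.1 → B.1 ≤ L.1 ⊔ M.1 → LPen Q A B := fun A B hne w hw0 hwA hwB hA hB =>
    ⟨hne, fun u hu v hv => hW u (hA hu) v (hB hv), (lmeet_iff Q A B).mpr ⟨w, hw0, hwA, hwB⟩⟩
  have hxK₁ : x ∈ K₁.1 := by rw [hK₁]; exact Submodule.subset_span (by simp)
  have haK₁ : a ∈ K₁.1 := by rw [hK₁]; exact Submodule.subset_span (by simp)
  have hxK₂ : x ∈ K₂.1 := by rw [hK₂]; exact Submodule.subset_span (by simp)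
  have hbK₂ : b ∈ K₂.1 := by rw [hK₂]; exact Submodule.subset_span (by simp)
  have hK₁W : K₁.1 ≤ L.1 ⊔ M.1 := by
    rw [hK₁, Submodule.span_le]
    intro z hz
    rcases hz with hz | hz
    · rw [hz]; exact Submodule.mem_sup_left hxL
    · have hz' : z = a := hz
      rw [hz']; exact Submodule.mem_sup_right haM
  have hK₂W : K₂.1 ≤ L.1 ⊔ M.1 := by
    rw [hK₂, Submodule.span_le]
    intro z hz
    rcases hz with hz | hz
    · rw [hz]; exact Submodule.mem_sup_left hxL
    · have hz' : z = b := hz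
      rw [hz']; exact Submodule.mem_sup_right hbM
  have hxM : x ∉ M.1 := fun h => hx0 (hnotM x hxL h)
  have haL : a ∉ L.1 := fun h => ha0 (hnotM a h haM)
  have hbL : b ∉ L.1 := fun h => hb0 (hnotM b h hbM)
  have hK₁L : K₁ ≠ L := fun h => haL (by rw [← h]; exact haK₁)
  have hK₁M : K₁ ≠ M := fun h => hxM (by rw [← h]; exact hxK₁)
  have hK₂L : K₂ ≠ L := fun h => hbL (by rw [← h]; exact hbK₂)
  have hK₂M : K₂ ≠ M := fun h => hxM (by rw [← h]; exact hxK₂)
  have hK₂K₁ : K₂ ≠ K₁ := by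
    intro h
    have hbK₁ : b ∈ K₁.1 := by rw [← h]; exact hbK₂
    rw [hK₁] at hbK₁
    obtain ⟨α, β, hαβ⟩ := Submodule.mem_span_pair.mp hbK₁
    have h1 : α • x = 0 := by
      apply hnotM _ (L.1.smul_mem _ hxL)
      have : α • x = b - β • a := by rw [← hαβ]; abel
      rw [this]
      exact M.1.sub_mem hbM (M.1.smul_mem _ haM)
    rw [h1, zero_add] at hαβ
    exact hb (Submodule.mem_span_singleton.mpr ⟨β, hαβ⟩)
  refine ⟨K₁, pen_common K₁ L hK₁L x hx0 hxK₁ hxL hK₁W le_sup_left,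
    pen_common K₁ M hK₁M a ha0 haK₁ haM hK₁W le_sup_right,
    ⟨K₂, pen_common K₂ L hK₂L x hx0 hxK₂ hxL hK₂W le_sup_left,
      pen_common K₂ M hK₂M b hb0 hbK₂ hbM hK₂W le_sup_right,
      pen_common K₂ K₁ hK₂K₁ x hx0 hxK₂ hxK₁ hK₂W hK₁W⟩, ?_⟩
  have typeK : ∀ A : Ln Q, LPen Q A L → LPen Q A M → LPen Q A K₁ →
      (x ∈ A.1 ∨ a ∈ A.1) ∧ A.1 ≤ L.1 ⊔ M.1 := by
    intro A hAL hAM hAK
    obtain ⟨p, hp0, hpA, hpL⟩ := (lmeet_iff Q A L).mp hAL.2.2
    obtain ⟨r, hr0, hrA, hrM⟩ := (lmeet_iff Q A M).mp hAM.2.2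
    have hrp : r ∉ Submodule.span F {p} := by
      intro h
      obtain ⟨t, rfl⟩ := Submodule.mem_span_singleton.mp h
      exact hr0 (hnotM _ (L.1.smul_mem _ hpL) hrM)
    have hAeq := ln_eq_span A p r hp0 hrp hpA hrA
    refine ⟨?_, ?_⟩
    · obtain ⟨w, hw0, hwA, hwK⟩ := (lmeet_iff Q A K₁).mp hAK.2.2
      rw [← hAeq] at hwA
      rw [hK₁] at hwK
      obtain ⟨α, β, hαβ⟩ := Submodule.mem_span_pair.mp hwA
      obtain ⟨γ, δ, hγδ⟩ := Submodule.mem_span_pair.mp hwK
      have h1 : α • p - γ • x = 0 := by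
        apply hnotM _ (L.1.sub_mem (L.1.smul_mem _ hpL) (L.1.smul_mem _ hxL))
        have : α • p - γ • x = δ • a - β • r := by
          have e : α • p + β • r = γ • x + δ • a := by rw [hαβ, hγδ]
          have e2 : α • p - γ • x = (α • p + β • r) - β • r - γ • x := by abel
          rw [e2, e]
          abel
        rw [this]
        exact M.1.sub_mem (M.1.smul_mem _ haM) (M.1.smul_mem _ hrM)
      by_cases hγ : γ = 0
      · right
        have h2 : β • r = δ • a := by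
          have e : α • p + β • r = γ • x + δ • a := by rw [hαβ, hγδ]
          have e2 : β • r = (α • p + β • r) - γ • x - (α • p - γ • x) := by abel
          rw [e2, e, h1]
          abel
        have hδ : δ ≠ 0 := by
          rintro rfl
          rw [hγ, zero_smul, zero_smul, add_zero] at hγδ
          exact hw0 hγδ.symm
        have : a = δ⁻¹ • (β • r) := by rw [h2, inv_smul_smul₀ hδ]
        rw [this]
        exact A.1.smul_mem _ (A.1.smul_mem _ hrA)
      · left
        have : x = γ⁻¹ • (α • p) := by rw [sub_eq_zero.mp h1, inv_smul_smul₀ hγ]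
        rw [this]
        exact A.1.smul_mem _ (A.1.smul_mem _ hpA)
    · rw [← hAeq, Submodule.span_le]
      intro z hz
      rcases hz with hz | hz
      · rw [hz]; exact Submodule.mem_sup_left hpL
      · have hz' : z = r := hz
        rw [hz']; exact Submodule.mem_sup_right hrM
  intro A B C a1 a2 a3 b1 b2 b3 c1 c2 c3 hAB hAC hBC
  obtain ⟨hA, hAW⟩ := typeK A a1 a2 a3
  obtain ⟨hB, hBW⟩ := typeK B b1 b2 b3
  obtain ⟨hC, hCW⟩ := typeK C c1 c2 c3
  rcases hA with hA | hA <;> rcases hB with hB | hB <;> rcases hC with hC | hC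
  · exact Or.inl (pen_common A B hAB x hx0 hA hB hAW hBW)
  · exact Or.inl (pen_common A B hAB x hx0 hA hB hAW hBW)
  · exact Or.inr (Or.inl (pen_common A C hAC x hx0 hA hC hAW hCW))
  · exact Or.inr (Or.inr (pen_common B C hBC a ha0 hB hC hBW hCW))
  · exact Or.inr (Or.inr (pen_common B C hBC x hx0 hB hC hBW hCW))
  · exact Or.inr (Or.inl (pen_common A C hAC a ha0 hA hC hAW hCW))
  · exact Or.inl (pen_common A B hAB a ha0 hA hB hAW hBW)
  · exact Or.inl (pen_common A B hAB a ha0 hA hB hAW hBW)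

end

end Cfsg.Agent.H49
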