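import Mathlib
import Cfsg.Agent.H49.AutGeom

set_option autoImplicit false
set_option linter.unusedSectionVars false
set_option linter.unusedSimpArgs false
set_option linter.unusedVariables false

/-! Helper lemmas (helper49): concurrent non-perpendicular lines do not satisfy `DisjRel`. -/

namespace Cfsg.Agent.H49

open Module Matrix

section
variable {ι : Type} [Fintype ι] [DecidableEq ι] {F : Type*} [Field F]

theorem finrank_sup_span_singleton_le (S : Submodule F (ι → F)) (w : ι → F) :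
    finrank F (S ⊔ Submodule.span F {w} : Submodule F (ι → F)) ≤ finrank F S + 1 := by
  have h := Submodule.finrank_add_le_finrank_add_finrank S (Submodule.span F {w})
  have h1 := finrank_span_singleton_le' (F := F) w
  omega

/-- The line `span {w, s}` is adjacent to the line `span {w, l}` when `s ⊥ w, l` and some
`r ⊥ w, l` is not orthogonal to `s`. -/
theorem lpen_through (Q : QuadraticForm F (ι → F)) (L K : Ln Q) (w l s r : ι → F) (hw0 : w ≠ 0)
    (hLval : L.1 = Submodule.span F {w, l}) (hKval : K.1 = Submodule.span F {w, s})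
    (hws : QuadraticMap.polar (⇑Q) w s = 0) (hls : QuadraticMap.polar (⇑Q) l s = 0)
    (hrw : QuadraticMap.polar (⇑Q) r w = 0) (hrl : QuadraticMap.polar (⇑Q) r l = 0)
    (hrs : QuadraticMap.polar (⇑Q) r s ≠ 0) : LPen Q K L := by
  have hwL : w ∈ L.1 := by rw [hLval]; exact Submodule.subset_span (by simp)
  have hlL : l ∈ L.1 := by rw [hLval]; exact Submodule.subset_span (by simp)
  have hwK : w ∈ K.1 := by rw [hKval]; exact Submodule.subset_span (by simp)
  have hsK : s ∈ K.1 := by rw [hKval]; exact Submodule.subset_span (by simp)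
  have hww : QuadraticMap.polar (⇑Q) w w = 0 := L.2.2.polar hwL hwL
  have hwl : QuadraticMap.polar (⇑Q) w l = 0 := L.2.2.polar hwL hlL
  refine ⟨?_, ?_, (lmeet_iff Q K L).mpr ⟨w, hw0, hwK, hwL⟩⟩
  · intro h
    have hsL : s ∈ L.1 := by rw [← h]; exact hsK
    rw [hLval] at hsL
    obtain ⟨c, d, rfl⟩ := Submodule.mem_span_pair.mp hsL
    apply hrs
    rw [QuadraticMap.polar_add_right, QuadraticMap.polar_smul_right,
      QuadraticMap.polar_smul_right, hrw, hrl]
    simp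
  · intro u hu v hv
    rw [hKval] at hu
    rw [hLval] at hv
    obtain ⟨c, d, rfl⟩ := Submodule.mem_span_pair.mp hu
    obtain ⟨c', d', rfl⟩ := Submodule.mem_span_pair.mp hv
    have h1 : QuadraticMap.polar (⇑Q) s w = 0 := by rw [QuadraticMap.polar_comm]; exact hws
    have h2 : QuadraticMap.polar (⇑Q) s l = 0 := by rw [QuadraticMap.polar_comm]; exact hls
    simp only [QuadraticMap.polar_add_left, QuadraticMap.polar_add_right,
      QuadraticMap.polar_smul_left, QuadraticMap.polar_smul_right, hww, hwl, h1, h2, smul_zero,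
      add_zero]

/-- Concurrent non-perpendicular lines do not satisfy `DisjRel`. -/
theorem not_disjRel_of_meet (Q : QuadraticForm F (ι → F))
    (hQ : (QuadraticMap.polarBilin Q).Nondegenerate)
    (h8 : finrank F (ι → F) ≤ 8 → ∀ U : Submodule F (ι → F), IsTS Q U → finrank F U ≤ 3)
    (L M : Ln Q) (hmeet : LMeet Q L M) (hnp : ¬ LPerp Q L M) : ¬ DisjRel (LPen Q) L M := by
  rintro ⟨K₁, hK₁L, hK₁M, ⟨K₂, hK₂L, hK₂M, hK₂K₁⟩, hall⟩
  obtain ⟨w, hw0, hwL, hwM⟩ := (lmeet_iff Q L M).mp hmeet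
  have hw : Q w = 0 := L.2.2 w hwL
  have hwK₁ : w ∈ K₁.1 := mem_of_meet_both Q L M K₁ w hw0 hwL hwM hnp hK₁L.2.2 hK₁M.2.2
  have hwK₂ : w ∈ K₂.1 := mem_of_meet_both Q L M K₂ w hw0 hwL hwM hnp hK₂L.2.2 hK₂M.2.2
  obtain ⟨l, hl, hQl, hwl, hLeq⟩ := exists_basis_ln_of_mem Q hQ L w hw0 hw hwL
  obtain ⟨m, hm, hQm, hwm, hMeq⟩ := exists_basis_ln_of_mem Q hQ M w hw0 hw hwM
  obtain ⟨k₁, hk₁, hQk₁, hwk₁, hK₁eq⟩ := exists_basis_ln_of_mem Q hQ K₁ w hw0 hw hwK₁
  obtain ⟨k₂, hk₂, hQk₂, hwk₂, hK₂eq⟩ := exists_basis_ln_of_mem Q hQ K₂ w hw0 hw hwK₂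
  have hLval : L.1 = Submodule.span F {w, l} := by rw [hLeq]; rfl
  have hMval : M.1 = Submodule.span F {w, m} := by rw [hMeq]; rfl
  have hK₁val : K₁.1 = Submodule.span F {w, k₁} := by rw [hK₁eq]; rfl
  have hK₂val : K₂.1 = Submodule.span F {w, k₂} := by rw [hK₂eq]; rfl
  have hlL : l ∈ L.1 := by rw [hLval]; exact Submodule.subset_span (by simp)
  have hmM : m ∈ M.1 := by rw [hMval]; exact Submodule.subset_span (by simp)
  have hk₁K : k₁ ∈ K₁.1 := by rw [hK₁val]; exact Submodule.subset_span (by simp)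
  have hk₂K : k₂ ∈ K₂.1 := by rw [hK₂val]; exact Submodule.subset_span (by simp)
  have hww : QuadraticMap.polar (⇑Q) w w = 0 := L.2.2.polar hwL hwL
  have hll : QuadraticMap.polar (⇑Q) l l = 0 := L.2.2.polar hlL hlL
  have hmm : QuadraticMap.polar (⇑Q) m m = 0 := M.2.2.polar hmM hmM
  have hlm : QuadraticMap.polar (⇑Q) l m ≠ 0 := by
    intro h
    apply hnp
    intro u hu v hv
    rw [hLval] at hu
    rw [hMval] at hv
    obtain ⟨c, d, rfl⟩ := Submodule.mem_span_pair.mp hu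
    obtain ⟨c', d', rfl⟩ := Submodule.mem_span_pair.mp hv
    have h1 : QuadraticMap.polar (⇑Q) l w = 0 := L.2.2.polar hlL hwL
    simp only [QuadraticMap.polar_add_left, QuadraticMap.polar_add_right,
      QuadraticMap.polar_smul_left, QuadraticMap.polar_smul_right, hww, hwm, h1, h, smul_zero,
      add_zero]
  have hml : QuadraticMap.polar (⇑Q) m l ≠ 0 := by rw [QuadraticMap.polar_comm]; exact hlm
  have hk₁l : QuadraticMap.polar (⇑Q) k₁ l = 0 := hK₁L.2.1 k₁ hk₁K l hlL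
  have hk₁m : QuadraticMap.polar (⇑Q) k₁ m = 0 := hK₁M.2.1 k₁ hk₁K m hmM
  have hk₂l : QuadraticMap.polar (⇑Q) k₂ l = 0 := hK₂L.2.1 k₂ hk₂K l hlL
  have hk₂m : QuadraticMap.polar (⇑Q) k₂ m = 0 := hK₂M.2.1 k₂ hk₂K m hmM
  have hk₂k₁ : QuadraticMap.polar (⇑Q) k₂ k₁ = 0 := hK₂K₁.2.1 k₂ hk₂K k₁ hk₁K
  have hk₂w : QuadraticMap.polar (⇑Q) k₂ w = 0 := K₂.2.2.polar hk₂K hwK₂
  have hk₂k₂ : QuadraticMap.polar (⇑Q) k₂ k₂ = 0 := K₂.2.2.polar hk₂K hk₂K
  have hk₂K₁ : k₂ ∉ K₁.1 := by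
    intro h
    apply hK₂K₁.1
    apply ln_ext
    rw [hK₂val, Submodule.span_le]
    intro z hz
    rcases hz with hz | hz
    · rw [hz]; exact hwK₁
    · have hz' : z = k₂ := hz
      rw [hz']; exact h
  have hK₁k₂ : ∀ u ∈ K₁.1, QuadraticMap.polar (⇑Q) u k₂ = 0 := by
    intro u hu
    rw [QuadraticMap.polar_comm]
    exact hK₂K₁.2.1 k₂ hk₂K u hu
  have hK₁l : ∀ u ∈ K₁.1, QuadraticMap.polar (⇑Q) u l = 0 := fun u hu => hK₁L.2.1 u hu l hlL
  have hK₁m : ∀ u ∈ K₁.1, QuadraticMap.polar (⇑Q) u m = 0 := fun u hu => hK₁M.2.1 u hu m hmM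
  by_cases hn : finrank F (ι → F) ≤ 8
  · have hU1 : IsTS Q (K₁.1 ⊔ Submodule.span F {k₂}) := isTS_sup_singleton K₁.2.2 hQk₂ hK₁k₂
    have hU1l : ∀ u ∈ K₁.1 ⊔ Submodule.span F {k₂}, QuadraticMap.polar (⇑Q) u l = 0 := by
      intro u hu
      obtain ⟨u₁, hu₁, z, hz, rfl⟩ := Submodule.mem_sup.mp hu
      obtain ⟨c, rfl⟩ := Submodule.mem_span_singleton.mp hz
      rw [QuadraticMap.polar_add_left, QuadraticMap.polar_smul_left, hK₁l u₁ hu₁, hk₂l]
      simp
    have hU1m : ∀ u ∈ K₁.1 ⊔ Submodule.span F {k₂}, QuadraticMap.polar (⇑Q) u m = 0 := by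
      intro u hu
      obtain ⟨u₁, hu₁, z, hz, rfl⟩ := Submodule.mem_sup.mp hu
      obtain ⟨c, rfl⟩ := Submodule.mem_span_singleton.mp hz
      rw [QuadraticMap.polar_add_left, QuadraticMap.polar_smul_left, hK₁m u₁ hu₁, hk₂m]
      simp
    have hU2 : IsTS Q (K₁.1 ⊔ Submodule.span F {k₂} ⊔ Submodule.span F {l}) :=
      isTS_sup_singleton hU1 hQl hU1l
    have hl' : l ∉ K₁.1 ⊔ Submodule.span F {k₂} := fun h => hlm (hU1m l h)
    have hf1 := finrank_sup_span_singleton K₁.1 hk₂K₁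
    have hf2 := finrank_sup_span_singleton (K₁.1 ⊔ Submodule.span F {k₂}) hl'
    have hf3 := h8 hn _ hU2
    have hf4 := K₁.2.1
    omega
  · obtain ⟨W₄, hW₄⟩ : ∃ W : Submodule F (ι → F),
        W = K₁.1 ⊔ Submodule.span F {l} ⊔ Submodule.span F {m} := ⟨_, rfl⟩
    have memW₄ : ∀ a ∈ W₄, ∃ u ∈ K₁.1, ∃ c d : F, a = u + c • l + d • m := by
      intro a ha
      rw [hW₄] at ha
      obtain ⟨a₁, ha₁, z, hz, rfl⟩ := Submodule.mem_sup.mp ha
      obtain ⟨d, rfl⟩ := Submodule.mem_span_singleton.mp hz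
      obtain ⟨u, hu, z', hz', rfl⟩ := Submodule.mem_sup.mp ha₁
      obtain ⟨c, rfl⟩ := Submodule.mem_span_singleton.mp hz'
      exact ⟨u, hu, c, d, rfl⟩
    have hK₁W₄ : K₁.1 ≤ W₄ := by rw [hW₄]; exact le_sup_of_le_left le_sup_left
    have hlW₄ : l ∈ W₄ := by
      rw [hW₄]
      exact Submodule.mem_sup_left (Submodule.mem_sup_right (Submodule.mem_span_singleton_self l))
    have hmW₄ : m ∈ W₄ := by
      rw [hW₄]
      exact Submodule.mem_sup_right (Submodule.mem_span_singleton_self m)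
    have hlk₂ : QuadraticMap.polar (⇑Q) l k₂ = 0 := by rw [QuadraticMap.polar_comm]; exact hk₂l
    have hmk₂ : QuadraticMap.polar (⇑Q) m k₂ = 0 := by rw [QuadraticMap.polar_comm]; exact hk₂m
    have hW₄k₂ : ∀ a ∈ W₄, QuadraticMap.polar (⇑Q) a k₂ = 0 := by
      intro a ha
      obtain ⟨u, hu, c, d, rfl⟩ := memW₄ a ha
      rw [QuadraticMap.polar_add_left, QuadraticMap.polar_add_left, QuadraticMap.polar_smul_left,
        QuadraticMap.polar_smul_left, hK₁k₂ u hu, hlk₂, hmk₂]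
      simp
    have hk₂W₄ : k₂ ∉ W₄ := by
      intro h
      obtain ⟨u, hu, c, d, hk⟩ := memW₄ k₂ h
      have e1 : QuadraticMap.polar (⇑Q) (u + c • l + d • m) m = 0 := by rw [← hk]; exact hk₂m
      have e2 : QuadraticMap.polar (⇑Q) (u + c • l + d • m) l = 0 := by rw [← hk]; exact hk₂l
      rw [QuadraticMap.polar_add_left, QuadraticMap.polar_add_left, QuadraticMap.polar_smul_left,
        QuadraticMap.polar_smul_left, hK₁m u hu, hmm, smul_zero, add_zero, zero_add,
        smul_eq_mul] at e1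
      rw [QuadraticMap.polar_add_left, QuadraticMap.polar_add_left, QuadraticMap.polar_smul_left,
        QuadraticMap.polar_smul_left, hK₁l u hu, hll, smul_zero, add_zero, zero_add,
        smul_eq_mul] at e2
      have hc : c = 0 := by
        rcases mul_eq_zero.mp e1 with h | h
        · exact h
        · exact absurd h hlm
      have hd : d = 0 := by
        rcases mul_eq_zero.mp e2 with h | h
        · exact h
        · exact absurd h hml
      rw [hc, hd, zero_smul, zero_smul, add_zero, add_zero] at hk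
      exact hk₂K₁ (by rw [hk]; exact hu)
    obtain ⟨f, hQf, hW₄f, hk₂f⟩ := exists_partner_orth Q hQ W₄ k₂ hQk₂ hW₄k₂ hk₂W₄
    obtain ⟨W₆, hW₆⟩ : ∃ W : Submodule F (ι → F),
        W = W₄ ⊔ Submodule.span F {k₂} ⊔ Submodule.span F {f} := ⟨_, rfl⟩
    have hW₄W₆ : W₄ ≤ W₆ := by rw [hW₆]; exact le_sup_of_le_left le_sup_left
    have hk₂W₆ : k₂ ∈ W₆ := by
      rw [hW₆]
      exact Submodule.mem_sup_left (Submodule.mem_sup_right (Submodule.mem_span_singleton_self _))
    have hfW₆ : f ∈ W₆ := by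
      rw [hW₆]
      exact Submodule.mem_sup_right (Submodule.mem_span_singleton_self _)
    have hfin6 : finrank F W₆ ≤ 6 := by
      have e1 := finrank_sup_span_singleton_le K₁.1 l
      have e2 := finrank_sup_span_singleton_le (K₁.1 ⊔ Submodule.span F {l}) m
      have e3 := finrank_sup_span_singleton_le
        (K₁.1 ⊔ Submodule.span F {l} ⊔ Submodule.span F {m}) k₂
      have e4 := finrank_sup_span_singleton_le
        (K₁.1 ⊔ Submodule.span F {l} ⊔ Submodule.span F {m} ⊔ Submodule.span F {k₂}) f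
      have e5 := K₁.2.1
      rw [hW₆, hW₄]
      omega
    have hperp := finrank_perp Q hQ W₆
    have hz : ∃ z ∈ perp Q (W₆ : Set (ι → F)), Q z ≠ 0 := by
      by_contra hcon
      push Not at hcon
      have hT : IsTS Q (perp Q (W₆ : Set (ι → F))) := fun z hz => hcon z hz
      have hTk₂ : ∀ u ∈ perp Q (W₆ : Set (ι → F)), QuadraticMap.polar (⇑Q) u k₂ = 0 := by
        intro u hu
        rw [QuadraticMap.polar_comm]
        exact hu k₂ hk₂W₆
      have hT1 := isTS_sup_singleton hT hQk₂ hTk₂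
      have hT1l : ∀ u ∈ perp Q (W₆ : Set (ι → F)) ⊔ Submodule.span F {k₂},
          QuadraticMap.polar (⇑Q) u l = 0 := by
        intro u hu
        obtain ⟨u₁, hu₁, z, hz, rfl⟩ := Submodule.mem_sup.mp hu
        obtain ⟨c, rfl⟩ := Submodule.mem_span_singleton.mp hz
        have h1 : QuadraticMap.polar (⇑Q) u₁ l = 0 := by
          rw [QuadraticMap.polar_comm]; exact hu₁ l (hW₄W₆ hlW₄)
        rw [QuadraticMap.polar_add_left, QuadraticMap.polar_smul_left, h1, hk₂l]
        simp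
      have hT1m : ∀ u ∈ perp Q (W₆ : Set (ι → F)) ⊔ Submodule.span F {k₂},
          QuadraticMap.polar (⇑Q) u m = 0 := by
        intro u hu
        obtain ⟨u₁, hu₁, z, hz, rfl⟩ := Submodule.mem_sup.mp hu
        obtain ⟨c, rfl⟩ := Submodule.mem_span_singleton.mp hz
        have h1 : QuadraticMap.polar (⇑Q) u₁ m = 0 := by
          rw [QuadraticMap.polar_comm]; exact hu₁ m (hW₄W₆ hmW₄)
        rw [QuadraticMap.polar_add_left, QuadraticMap.polar_smul_left, h1, hk₂m]
        simp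
      have hT2 := isTS_sup_singleton hT1 hQl hT1l
      have hk₂T : k₂ ∉ perp Q (W₆ : Set (ι → F)) := by
        intro h
        have := h f hfW₆
        rw [QuadraticMap.polar_comm, hk₂f] at this
        exact one_ne_zero this
      have hlT : l ∉ perp Q (W₆ : Set (ι → F)) ⊔ Submodule.span F {k₂} :=
        fun h => hlm (hT1m l h)
      have f1 := finrank_sup_span_singleton _ hk₂T
      have f2 := finrank_sup_span_singleton _ hlT
      have f3 := isTS_two_mul_finrank_le hQ hT2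
      omega
    obtain ⟨z, hzT, hQz⟩ := hz
    have hk₂z : QuadraticMap.polar (⇑Q) k₂ z = 0 := hzT k₂ hk₂W₆
    have hfz : QuadraticMap.polar (⇑Q) f z = 0 := hzT f hfW₆
    have hwz : QuadraticMap.polar (⇑Q) w z = 0 := hzT w (hW₄W₆ (hK₁W₄ hwK₁))
    have hk₁z : QuadraticMap.polar (⇑Q) k₁ z = 0 := hzT k₁ (hW₄W₆ (hK₁W₄ hk₁K))
    have hlz : QuadraticMap.polar (⇑Q) l z = 0 := hzT l (hW₄W₆ hlW₄)
    have hmz : QuadraticMap.polar (⇑Q) m z = 0 := hzT m (hW₄W₆ hmW₄)
    have hwf : QuadraticMap.polar (⇑Q) w f = 0 := hW₄f w (hK₁W₄ hwK₁)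
    have hk₁f : QuadraticMap.polar (⇑Q) k₁ f = 0 := hW₄f k₁ (hK₁W₄ hk₁K)
    have hlf : QuadraticMap.polar (⇑Q) l f = 0 := hW₄f l hlW₄
    have hmf : QuadraticMap.polar (⇑Q) m f = 0 := hW₄f m hmW₄
    have hfk₂ : QuadraticMap.polar (⇑Q) f k₂ = 1 := by rw [QuadraticMap.polar_comm]; exact hk₂f
    have hff : QuadraticMap.polar (⇑Q) f f = 0 := by rw [polar_self', hQf, mul_zero]
    have hwk₂' : QuadraticMap.polar (⇑Q) w k₂ = 0 := by rw [QuadraticMap.polar_comm]; exact hk₂w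
    have hk₁k₂ : QuadraticMap.polar (⇑Q) k₁ k₂ = 0 := by
      rw [QuadraticMap.polar_comm]; exact hk₂k₁
    obtain ⟨s, hs⟩ : ∃ s, s = k₂ + z - Q z • f := ⟨_, rfl⟩
    have hQs : Q s = 0 := by
      rw [hs, Q_sub_smul, Q_add', QuadraticMap.polar_add_right, hQk₂, hQf, hk₂z, hfk₂, hfz]
      ring
    have pol_s : ∀ a : ι → F, QuadraticMap.polar (⇑Q) a s =
        QuadraticMap.polar (⇑Q) a k₂ + QuadraticMap.polar (⇑Q) a z
          - Q z * QuadraticMap.polar (⇑Q) a f := by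
      intro a
      rw [hs, QuadraticMap.polar_sub_right, QuadraticMap.polar_add_right,
        QuadraticMap.polar_smul_right, smul_eq_mul]
    have hws : QuadraticMap.polar (⇑Q) w s = 0 := by rw [pol_s, hwk₂', hwz, hwf]; ring
    have hls : QuadraticMap.polar (⇑Q) l s = 0 := by rw [pol_s, hlk₂, hlz, hlf]; ring
    have hms : QuadraticMap.polar (⇑Q) m s = 0 := by rw [pol_s, hmk₂, hmz, hmf]; ring
    have hk₁s : QuadraticMap.polar (⇑Q) k₁ s = 0 := by rw [pol_s, hk₁k₂, hk₁z, hk₁f]; ring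
    have hfs : QuadraticMap.polar (⇑Q) f s = 1 := by rw [pol_s, hfk₂, hfz, hff]; ring
    have hk₂s : QuadraticMap.polar (⇑Q) k₂ s = - Q z := by rw [pol_s, hk₂k₂, hk₂z, hk₂f]; ring
    have hfw : QuadraticMap.polar (⇑Q) f w = 0 := by rw [QuadraticMap.polar_comm]; exact hwf
    have hfl : QuadraticMap.polar (⇑Q) f l = 0 := by rw [QuadraticMap.polar_comm]; exact hlf
    have hfm : QuadraticMap.polar (⇑Q) f m = 0 := by rw [QuadraticMap.polar_comm]; exact hmf
    have hfk₁ : QuadraticMap.polar (⇑Q) f k₁ = 0 := by rw [QuadraticMap.polar_comm]; exact hk₁f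
    have hfw_ne : f ∉ Submodule.span F {w} := by
      intro h
      obtain ⟨t, rfl⟩ := Submodule.mem_span_singleton.mp h
      rw [QuadraticMap.polar_smul_right, hk₂w, smul_zero] at hk₂f
      exact zero_ne_one hk₂f
    have hsw_ne : s ∉ Submodule.span F {w} := by
      intro h
      obtain ⟨t, ht⟩ := Submodule.mem_span_singleton.mp h
      rw [← ht, QuadraticMap.polar_smul_right, hfw, smul_zero] at hfs
      exact zero_ne_one hfs
    obtain ⟨B, hB⟩ : ∃ K : Ln Q, K.1 = Submodule.span F {w, f} :=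
      ⟨spanLn Q w f hw0 hfw_ne hw hQf hwf, rfl⟩
    obtain ⟨C, hC⟩ : ∃ K : Ln Q, K.1 = Submodule.span F {w, s} :=
      ⟨spanLn Q w s hw0 hsw_ne hw hQs hws, rfl⟩
    have hfB : f ∈ B.1 := by rw [hB]; exact Submodule.subset_span (by simp)
    have hsC : s ∈ C.1 := by rw [hC]; exact Submodule.subset_span (by simp)
    have h1ne : QuadraticMap.polar (⇑Q) k₂ f ≠ 0 := by rw [hk₂f]; exact one_ne_zero
    have h2ne : QuadraticMap.polar (⇑Q) f s ≠ 0 := by rw [hfs]; exact one_ne_zero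
    have h3ne : QuadraticMap.polar (⇑Q) k₂ s ≠ 0 := by rw [hk₂s]; exact neg_ne_zero.mpr hQz
    have hBL : LPen Q B L := lpen_through Q L B w l f k₂ hw0 hLval hB hwf hlf hk₂w hk₂l h1ne
    have hBM : LPen Q B M := lpen_through Q M B w m f k₂ hw0 hMval hB hwf hmf hk₂w hk₂m h1ne
    have hBK : LPen Q B K₁ :=
      lpen_through Q K₁ B w k₁ f k₂ hw0 hK₁val hB hwf hk₁f hk₂w hk₂k₁ h1ne
    have hCL : LPen Q C L := lpen_through Q L C w l s f hw0 hLval hC hws hls hfw hfl h2ne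
    have hCM : LPen Q C M := lpen_through Q M C w m s f hw0 hMval hC hws hms hfw hfm h2ne
    have hCK : LPen Q C K₁ :=
      lpen_through Q K₁ C w k₁ s f hw0 hK₁val hC hws hk₁s hfw hfk₁ h2ne
    have hK₂B : K₂ ≠ B := by
      intro h
      have hfK : f ∈ K₂.1 := by rw [h]; exact hfB
      exact h1ne (K₂.2.2.polar hk₂K hfK)
    have hK₂C : K₂ ≠ C := by
      intro h
      have hsK : s ∈ K₂.1 := by rw [h]; exact hsC
      exact h3ne (K₂.2.2.polar hk₂K hsK)
    have hBC : B ≠ C := by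
      intro h
      have hsB : s ∈ B.1 := by rw [h]; exact hsC
      exact h2ne (B.2.2.polar hfB hsB)
    rcases hall K₂ B C hK₂L hK₂M hK₂K₁ hBL hBM hBK hCL hCM hCK hK₂B hK₂C hBC with h | h | h
    · exact h1ne (h.2.1 k₂ hk₂K f hfB)
    · exact h3ne (h.2.1 k₂ hk₂K s hsC)
    · exact h2ne (h.2.1 f hfB s hsC)

theorem lmeet_self (Q : QuadraticForm F (ι → F)) (L : Ln Q) : LMeet Q L L := by
  unfold LMeet
  rw [inf_idem]
  intro h
  have := L.2.1
  rw [h, finrank_bot] at this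
  omega

/-- Concurrency expressed through the relations `LPen` and `LComm`. -/
theorem lmeet_iff_rel (Q : QuadraticForm F (ι → F))
    (hQ : (QuadraticMap.polarBilin Q).Nondegenerate)
    (h8 : finrank F (ι → F) ≤ 8 → ∀ U : Submodule F (ι → F), IsTS Q U → finrank F U ≤ 3)
    (L M : Ln Q) :
    LMeet Q L M ↔ L = M ∨ LPen Q L M ∨ (LComm Q L M ∧ ¬ DisjRel (LPen Q) L M) := by
  constructor
  · intro h
    by_cases hLM : L = M
    · exact Or.inl hLM
    · by_cases hp : LPerp Q L M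
      · exact Or.inr (Or.inl ⟨hLM, hp, h⟩)
      · exact Or.inr (Or.inr ⟨Or.inr h, not_disjRel_of_meet Q hQ h8 L M h hp⟩)
  · rintro (h | h | ⟨h1, h2⟩)
    · rw [h]; exact lmeet_self Q M
    · exact h.2.2
    · by_contra hm
      rcases h1 with h1 | h1
      · exact h2 (disjRel_of_perp Q hQ L M h1 hm)
      · exact hm h1

/-- A bijection of the lines preserving `LPen` and `LComm` preserves concurrency. -/
theorem lmeet_map_iff (Q : QuadraticForm F (ι → F))
    (hQ : (QuadraticMap.polarBilin Q).Nondegenerate)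
    (h8 : finrank F (ι → F) ≤ 8 → ∀ U : Submodule F (ι → F), IsTS Q U → finrank F U ≤ 3)
    (lam mu : Ln Q → Ln Q) (hml : ∀ L, mu (lam L) = L) (hlm : ∀ L, lam (mu L) = L)
    (hpen : ∀ L M, LPen Q (lam L) (lam M) ↔ LPen Q L M)
    (hcomm : ∀ L M, LComm Q (lam L) (lam M) ↔ LComm Q L M) (L M : Ln Q) :
    LMeet Q (lam L) (lam M) ↔ LMeet Q L M := by
  rw [lmeet_iff_rel Q hQ h8, lmeet_iff_rel Q hQ h8 L M, hpen, hcomm,
    disjRel_map_iff lam mu hml hlm hpen]
  have : lam L = lam M ↔ L = M := ⟨fun h => by rw [← hml L, h, hml], fun h => by rw [h]⟩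
  rw [this]

/-- Two lines through a singular point, not perpendicular to each other. -/
theorem exists_two_lines (Q : QuadraticForm F (ι → F))
    (hQ : (QuadraticMap.polarBilin Q).Nondegenerate) (h3 : HasTS3 Q) (x : ι → F) (hx0 : x ≠ 0)
    (hx : Q x = 0) :
    ∃ (e e' : ι → F) (L M : Ln Q), Q e = 0 ∧ Q e' = 0 ∧ QuadraticMap.polar (⇑Q) e e' = 1 ∧
      QuadraticMap.polar (⇑Q) x e = 0 ∧ QuadraticMap.polar (⇑Q) x e' = 0 ∧
      L.1 = Submodule.span F {x, e} ∧ M.1 = Submodule.span F {x, e'} ∧ ¬ LPerp Q L M ∧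
      L ≠ M := by
  obtain ⟨e, e', he, he', hee, heW, he'W⟩ := exists_hyp_pair_orth_le_one Q hQ h3
    (Submodule.span F {x}) (finrank_span_singleton_le' x)
  have hxe : QuadraticMap.polar (⇑Q) x e = 0 := heW x (Submodule.mem_span_singleton_self x)
  have hxe' : QuadraticMap.polar (⇑Q) x e' = 0 := he'W x (Submodule.mem_span_singleton_self x)
  have hex : e ∉ Submodule.span F {x} := by
    intro h
    obtain ⟨t, rfl⟩ := Submodule.mem_span_singleton.mp h
    rw [QuadraticMap.polar_smul_left, hxe', smul_zero] at hee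
    exact zero_ne_one hee
  have he'x : e' ∉ Submodule.span F {x} := by
    intro h
    obtain ⟨t, rfl⟩ := Submodule.mem_span_singleton.mp h
    rw [QuadraticMap.polar_smul_right, QuadraticMap.polar_comm, hxe, smul_zero] at hee
    exact zero_ne_one hee
  obtain ⟨L, hL⟩ : ∃ K : Ln Q, K.1 = Submodule.span F {x, e} :=
    ⟨spanLn Q x e hx0 hex hx he hxe, rfl⟩
  obtain ⟨M, hM⟩ : ∃ K : Ln Q, K.1 = Submodule.span F {x, e'} :=
    ⟨spanLn Q x e' hx0 he'x hx he' hxe', rfl⟩
  have heL : e ∈ L.1 := by rw [hL]; exact Submodule.subset_span (by simp)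
  have he'M : e' ∈ M.1 := by rw [hM]; exact Submodule.subset_span (by simp)
  have hnp : ¬ LPerp Q L M := by
    intro h
    have := h e heL e' he'M
    rw [hee] at this
    exact one_ne_zero this
  refine ⟨e, e', L, M, he, he', hee, hxe, hxe', hL, hM, hnp, ?_⟩
  rintro rfl
  exact hnp (fun u hu v hv => L.2.2.polar hu hv)

/-- The induced bijection of the singular points. -/
theorem exists_point_map (Q : QuadraticForm F (ι → F))
    (hQ : (QuadraticMap.polarBilin Q).Nondegenerate) (h3 : HasTS3 Q)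
    (h8 : finrank F (ι → F) ≤ 8 → ∀ U : Submodule F (ι → F), IsTS Q U → finrank F U ≤ 3)
    (lam mu : Ln Q → Ln Q) (hml : ∀ L, mu (lam L) = L) (hlm : ∀ L, lam (mu L) = L)
    (hpen : ∀ L M, LPen Q (lam L) (lam M) ↔ LPen Q L M)
    (hcomm : ∀ L M, LComm Q (lam L) (lam M) ↔ LComm Q L M) (x : ι → F) (hx0 : x ≠ 0)
    (hx : Q x = 0) :
    ∃ x' : ι → F, x' ≠ 0 ∧ Q x' = 0 ∧ ∀ K : Ln Q, x ∈ K.1 ↔ x' ∈ (lam K).1 := by
  obtain ⟨e, e', L, M, he, he', hee, hxe, hxe', hL, hM, hnp, hLM⟩ :=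
    exists_two_lines Q hQ h3 x hx0 hx
  have hxL : x ∈ L.1 := by rw [hL]; exact Submodule.subset_span (by simp)
  have hxM : x ∈ M.1 := by rw [hM]; exact Submodule.subset_span (by simp)
  have hmeet : LMeet Q L M := (lmeet_iff Q L M).mpr ⟨x, hx0, hxL, hxM⟩
  have hmeet' : LMeet Q (lam L) (lam M) :=
    (lmeet_map_iff Q hQ h8 lam mu hml hlm hpen hcomm L M).mpr hmeet
  have hnp' : ¬ LPerp Q (lam L) (lam M) := by
    intro h
    have hpen' : LPen Q (lam L) (lam M) :=
      ⟨fun e => hLM (by rw [← hml L, e, hml]), h, hmeet'⟩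
    exact hnp ((hpen L M).mp hpen').2.1
  obtain ⟨x', hx'0, hx'L, hx'M⟩ := (lmeet_iff Q _ _).mp hmeet'
  refine ⟨x', hx'0, (lam L).2.2 x' hx'L, fun K => ?_⟩
  rw [star_iff Q L M x hx0 hxL hxM hnp K,
    star_iff Q (lam L) (lam M) x' hx'0 hx'L hx'M hnp' (lam K),
    lmeet_map_iff Q hQ h8 lam mu hml hlm hpen hcomm,
    lmeet_map_iff Q hQ h8 lam mu hml hlm hpen hcomm]

/-- A vector lying on every line through `x` is a multiple of `x`. -/
theorem mem_span_of_same_lines (Q : QuadraticForm F (ι → F))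
    (hQ : (QuadraticMap.polarBilin Q).Nondegenerate) (h3 : HasTS3 Q) (x x'' : ι → F)
    (hx0 : x ≠ 0) (hx : Q x = 0) (h : ∀ K : Ln Q, x ∈ K.1 → x'' ∈ K.1) :
    x'' ∈ Submodule.span F {x} := by
  obtain ⟨e, e', L, M, he, he', hee, hxe, hxe', hL, hM, hnp, hLM⟩ :=
    exists_two_lines Q hQ h3 x hx0 hx
  have hxL : x ∈ L.1 := by rw [hL]; exact Submodule.subset_span (by simp)
  have hxM : x ∈ M.1 := by rw [hM]; exact Submodule.subset_span (by simp)
  have h1 := h L hxL
  have h2 := h M hxM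
  rw [hL] at h1
  rw [hM] at h2
  obtain ⟨a, b, hab⟩ := Submodule.mem_span_pair.mp h1
  obtain ⟨a', b', hab'⟩ := Submodule.mem_span_pair.mp h2
  have e1 : QuadraticMap.polar (⇑Q) (a • x + b • e) e' = b := by
    rw [QuadraticMap.polar_add_left, QuadraticMap.polar_smul_left, QuadraticMap.polar_smul_left,
      hxe', hee]
    simp
  have e2 : QuadraticMap.polar (⇑Q) (a' • x + b' • e') e' = 0 := by
    rw [QuadraticMap.polar_add_left, QuadraticMap.polar_smul_left, QuadraticMap.polar_smul_left,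
      hxe', polar_self', he']
    simp
  rw [hab] at e1
  rw [hab'] at e2
  have hb : b = 0 := by rw [← e1, e2]
  rw [hb, zero_smul, add_zero] at hab
  exact Submodule.mem_span_singleton.mpr ⟨a, hab⟩

end

end Cfsg.Agent.H49
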