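import Mathlib
import Cfsg.Agent.H49.AutGeom2

set_option autoImplicit false
set_option linter.unusedSectionVars false
set_option linter.unusedSimpArgs false
set_option linter.unusedVariables false

/-! Helper lemmas (helper49): an automorphism of `PΩ` permutes the lines, hence the singular
points, and maps the unipotent radical `RT x` of a point stabiliser onto the unipotent radical of
the image point. -/

namespace Cfsg.Agent.H49

open Module Matrix

section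
variable {ι : Type} [Fintype ι] [DecidableEq ι] {F : Type*} [Field F] [Fintype F]

/-- `lam` is the permutation of the lines induced by the automorphism `α`. -/
def LineMap (Q : QuadraticForm F (ι → F))
    (hQ : (QuadraticMap.polarBilin Q).Nondegenerate) (h3 : HasTS3 Q)
    (α : MulAut (Cfsg.POmega F (⇑Q))) (lam : Ln Q → Ln Q) : Prop :=
  ∀ L, α '' rootT Q hQ h3 L = rootT Q hQ h3 (lam L)

theorem exists_lineMap (Q : QuadraticForm F (ι → F))
    (hQ : (QuadraticMap.polarBilin Q).Nondegenerate) (h3 : HasTS3 Q)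
    (α : MulAut (Cfsg.POmega F (⇑Q))) : ∃ lam : Ln Q → Ln Q, LineMap Q hQ h3 α lam := by
  obtain ⟨p, hp⟩ := CharP.exists F
  have : Fact p.Prime := ⟨CharP.char_is_prime F p⟩
  choose lam hlam using fun L => aut_rootT Q hQ h3 p α L
  exact ⟨lam, hlam⟩

theorem LineMap.injective {Q : QuadraticForm F (ι → F)}
    {hQ : (QuadraticMap.polarBilin Q).Nondegenerate} {h3 : HasTS3 Q}
    {α : MulAut (Cfsg.POmega F (⇑Q))} {lam : Ln Q → Ln Q} (h : LineMap Q hQ h3 α lam) :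
    Function.Injective lam := by
  intro L M hLM
  apply rootT_injective Q hQ h3
  have h1 : α '' rootT Q hQ h3 L = α '' rootT Q hQ h3 M := by rw [h L, h M, hLM]
  exact α.injective.image_injective h1

theorem lineMap_left_inv {Q : QuadraticForm F (ι → F)}
    {hQ : (QuadraticMap.polarBilin Q).Nondegenerate} {h3 : HasTS3 Q}
    {α : MulAut (Cfsg.POmega F (⇑Q))} {lam mu : Ln Q → Ln Q} (h : LineMap Q hQ h3 α lam)
    (h' : LineMap Q hQ h3 α⁻¹ mu) (L : Ln Q) : mu (lam L) = L := by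
  apply rootT_injective Q hQ h3
  rw [← h', ← h, Set.image_image]
  simp

theorem lineMap_right_inv {Q : QuadraticForm F (ι → F)}
    {hQ : (QuadraticMap.polarBilin Q).Nondegenerate} {h3 : HasTS3 Q}
    {α : MulAut (Cfsg.POmega F (⇑Q))} {lam mu : Ln Q → Ln Q} (h : LineMap Q hQ h3 α lam)
    (h' : LineMap Q hQ h3 α⁻¹ mu) (L : Ln Q) : lam (mu L) = L := by
  apply rootT_injective Q hQ h3
  rw [← h, ← h', Set.image_image]
  simp

theorem LineMap.gcomm {Q : QuadraticForm F (ι → F)}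
    {hQ : (QuadraticMap.polarBilin Q).Nondegenerate} {h3 : HasTS3 Q}
    {α : MulAut (Cfsg.POmega F (⇑Q))} {lam : Ln Q → Ln Q} (h : LineMap Q hQ h3 α lam)
    {L M : Ln Q} (hc : GComm Q hQ h3 L M) : GComm Q hQ h3 (lam L) (lam M) := by
  intro a ha b hb
  rw [← h L] at ha
  rw [← h M] at hb
  obtain ⟨a₀, ha₀, rfl⟩ := ha
  obtain ⟨b₀, hb₀, rfl⟩ := hb
  rw [← map_mul, ← map_mul, hc a₀ ha₀ b₀ hb₀]

theorem LineMap.gpen {Q : QuadraticForm F (ι → F)}
    {hQ : (QuadraticMap.polarBilin Q).Nondegenerate} {h3 : HasTS3 Q}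
    {α : MulAut (Cfsg.POmega F (⇑Q))} {lam : Ln Q → Ln Q} (h : LineMap Q hQ h3 α lam)
    {L M : Ln Q} (hp : GPen Q hQ h3 L M) : GPen Q hQ h3 (lam L) (lam M) := by
  obtain ⟨hne, hc, hprod⟩ := hp
  refine ⟨fun e => hne (h.injective e), h.gcomm hc, ?_⟩
  intro a ha b hb
  rw [← h L] at ha
  rw [← h M] at hb
  obtain ⟨a₀, ha₀, rfl⟩ := ha
  obtain ⟨b₀, hb₀, rfl⟩ := hb
  obtain ⟨K, hK⟩ := hprod a₀ ha₀ b₀ hb₀
  refine ⟨lam K, ?_⟩
  rw [← h K, ← map_mul]
  exact ⟨_, hK, rfl⟩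

theorem lineMap_pen_iff (Q : QuadraticForm F (ι → F))
    (hQ : (QuadraticMap.polarBilin Q).Nondegenerate) (h3 : HasTS3 Q)
    (hn : 7 ≤ finrank F (ι → F))
    {α : MulAut (Cfsg.POmega F (⇑Q))} {lam mu : Ln Q → Ln Q} (h : LineMap Q hQ h3 α lam)
    (h' : LineMap Q hQ h3 α⁻¹ mu) (L M : Ln Q) : LPen Q (lam L) (lam M) ↔ LPen Q L M := by
  rw [← gpen_iff Q hQ h3 hn, ← gpen_iff Q hQ h3 hn]
  constructor
  · intro hp
    have := h'.gpen hp
    rwa [lineMap_left_inv h h', lineMap_left_inv h h'] at this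
  · exact fun hp => h.gpen hp

theorem lineMap_comm_iff (Q : QuadraticForm F (ι → F))
    (hQ : (QuadraticMap.polarBilin Q).Nondegenerate) (h3 : HasTS3 Q)
    {α : MulAut (Cfsg.POmega F (⇑Q))} {lam mu : Ln Q → Ln Q} (h : LineMap Q hQ h3 α lam)
    (h' : LineMap Q hQ h3 α⁻¹ mu) (L M : Ln Q) : LComm Q (lam L) (lam M) ↔ LComm Q L M := by
  rw [← gcomm_iff Q hQ h3, ← gcomm_iff Q hQ h3]
  constructor
  · intro hp
    have := h'.gcomm hp
    rwa [lineMap_left_inv h h', lineMap_left_inv h h'] at this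
  · exact fun hp => h.gcomm hp

/-- The image of a singular point under the point map induced by an automorphism. -/
theorem exists_pt (Q : QuadraticForm F (ι → F))
    (hQ : (QuadraticMap.polarBilin Q).Nondegenerate) (h3 : HasTS3 Q)
    (hn : 7 ≤ finrank F (ι → F))
    (h8 : finrank F (ι → F) ≤ 8 → ∀ U : Submodule F (ι → F), IsTS Q U → finrank F U ≤ 3)
    {α : MulAut (Cfsg.POmega F (⇑Q))} {lam mu : Ln Q → Ln Q} (h : LineMap Q hQ h3 α lam)
    (h' : LineMap Q hQ h3 α⁻¹ mu) (x : ι → F) (hx0 : x ≠ 0) (hx : Q x = 0) :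
    ∃ x' : ι → F, x' ≠ 0 ∧ Q x' = 0 ∧ ∀ K : Ln Q, x ∈ K.1 ↔ x' ∈ (lam K).1 :=
  exists_point_map Q hQ h3 h8 lam mu (lineMap_left_inv h h') (lineMap_right_inv h h')
    (lineMap_pen_iff Q hQ h3 hn h h') (lineMap_comm_iff Q hQ h3 h h') x hx0 hx

/-- The image in `PΩ` of the group of Eichler transformations at the singular vector `x`. -/
def RT (Q : QuadraticForm F (ι → F))
    (hQ : (QuadraticMap.polarBilin Q).Nondegenerate) (h3 : HasTS3 Q) (x : ι → F) :
    Set (Cfsg.POmega F (⇑Q)) :=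
  {t | ∃ (v : ι → F) (hx : Q x = 0) (hxv : QuadraticMap.polar (⇑Q) x v = 0),
    t = QuotientGroup.mk (eichO Q hQ h3 x v hx hxv)}

theorem eichO_mem_RT (Q : QuadraticForm F (ι → F))
    (hQ : (QuadraticMap.polarBilin Q).Nondegenerate) (h3 : HasTS3 Q) (x v : ι → F)
    (hx : Q x = 0) (hxv : QuadraticMap.polar (⇑Q) x v = 0) :
    (QuotientGroup.mk (eichO Q hQ h3 x v hx hxv) : Cfsg.POmega F (⇑Q)) ∈ RT Q hQ h3 x :=
  ⟨v, hx, hxv, rfl⟩

theorem RT_one (Q : QuadraticForm F (ι → F))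
    (hQ : (QuadraticMap.polarBilin Q).Nondegenerate) (h3 : HasTS3 Q) (x : ι → F)
    (hx : Q x = 0) : (1 : Cfsg.POmega F (⇑Q)) ∈ RT Q hQ h3 x := by
  have h0 : QuadraticMap.polar (⇑Q) x 0 = 0 := QuadraticMap.polar_zero_right _ _
  refine ⟨0, hx, h0, ?_⟩
  have : eichO Q hQ h3 x 0 hx h0 = 1 := Subtype.ext (eichG_zero Q x hx h0)
  rw [this]
  rfl

theorem RT_mul (Q : QuadraticForm F (ι → F))
    (hQ : (QuadraticMap.polarBilin Q).Nondegenerate) (h3 : HasTS3 Q) {x : ι → F}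
    {a b : Cfsg.POmega F (⇑Q)} (ha : a ∈ RT Q hQ h3 x) (hb : b ∈ RT Q hQ h3 x) :
    a * b ∈ RT Q hQ h3 x := by
  obtain ⟨v, hx, hxv, rfl⟩ := ha
  obtain ⟨w, hx', hxw, rfl⟩ := hb
  refine ⟨v + w, hx, by rw [QuadraticMap.polar_add_right, hxv, hxw, add_zero], ?_⟩
  rw [← QuotientGroup.mk_mul]
  congr 1
  exact Subtype.ext (eichG_mul Q x v w hx hxv hxw)

theorem RT_inv (Q : QuadraticForm F (ι → F))
    (hQ : (QuadraticMap.polarBilin Q).Nondegenerate) (h3 : HasTS3 Q) {x : ι → F}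
    {a : Cfsg.POmega F (⇑Q)} (ha : a ∈ RT Q hQ h3 x) : a⁻¹ ∈ RT Q hQ h3 x := by
  obtain ⟨v, hx, hxv, rfl⟩ := ha
  refine ⟨-v, hx, by rw [QuadraticMap.polar_neg_right, hxv, neg_zero], ?_⟩
  rw [← QuotientGroup.mk_inv]
  congr 1
  exact Subtype.ext (eichG_inv Q x v hx hxv)

/-- `RT x` as a subgroup. -/
def RTsub (Q : QuadraticForm F (ι → F))
    (hQ : (QuadraticMap.polarBilin Q).Nondegenerate) (h3 : HasTS3 Q) (x : ι → F)
    (hx : Q x = 0) : Subgroup (Cfsg.POmega F (⇑Q)) where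
  carrier := RT Q hQ h3 x
  mul_mem' := fun ha hb => RT_mul Q hQ h3 ha hb
  one_mem' := RT_one Q hQ h3 x hx
  inv_mem' := fun ha => RT_inv Q hQ h3 ha

theorem mem_RTsub (Q : QuadraticForm F (ι → F))
    (hQ : (QuadraticMap.polarBilin Q).Nondegenerate) (h3 : HasTS3 Q) (x : ι → F)
    (hx : Q x = 0) (t : Cfsg.POmega F (⇑Q)) : t ∈ RTsub Q hQ h3 x hx ↔ t ∈ RT Q hQ h3 x :=
  Iff.rfl

theorem sieO_mem_RT (Q : QuadraticForm F (ι → F))
    (hQ : (QuadraticMap.polarBilin Q).Nondegenerate) (h3 : HasTS3 Q) (x s : ι → F)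
    (hx : Q x = 0) (hs : Q s = 0) (hxs : QuadraticMap.polar (⇑Q) x s = 0) (c : F) :
    (QuotientGroup.mk (sieO Q hQ h3 x s hx hs hxs c) : Cfsg.POmega F (⇑Q)) ∈ RT Q hQ h3 x := by
  refine ⟨c • s, hx, by rw [QuadraticMap.polar_smul_right, hxs, smul_zero], ?_⟩
  congr 1
  exact Subtype.ext (siegelG_eq_eichG Q x s hx hs hxs c)

theorem RT_smul (Q : QuadraticForm F (ι → F))
    (hQ : (QuadraticMap.polarBilin Q).Nondegenerate) (h3 : HasTS3 Q) (x : ι → F) (c : F)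
    (hc : c ≠ 0) : RT Q hQ h3 (c • x) = RT Q hQ h3 x := by
  ext t
  constructor
  · rintro ⟨v, hcx, hcxv, rfl⟩
    have hx : Q x = 0 := by
      rw [QuadraticMap.map_smul, smul_eq_mul] at hcx
      rcases mul_eq_zero.mp hcx with h | h
      · exact absurd (mul_self_eq_zero.mp h) hc
      · exact h
    have hxv : QuadraticMap.polar (⇑Q) x v = 0 := by
      rw [QuadraticMap.polar_smul_left, smul_eq_mul] at hcxv
      rcases mul_eq_zero.mp hcxv with h | h
      · exact absurd h hc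
      · exact h
    have hxcv : QuadraticMap.polar (⇑Q) x (c • v) = 0 := by
      rw [QuadraticMap.polar_smul_right, hxv, smul_zero]
    refine ⟨c • v, hx, hxcv, ?_⟩
    congr 1
    exact Subtype.ext (eichG_smul_left Q x v c hx hcx hxv hcxv hxcv)
  · rintro ⟨v, hx, hxv, rfl⟩
    have hcx : Q (c • x) = 0 := by rw [QuadraticMap.map_smul, hx, smul_zero]
    have hxv' : QuadraticMap.polar (⇑Q) x (c⁻¹ • v) = 0 := by
      rw [QuadraticMap.polar_smul_right, hxv, smul_zero]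
    have hcxv : QuadraticMap.polar (⇑Q) (c • x) (c⁻¹ • v) = 0 := by
      rw [QuadraticMap.polar_smul_left, hxv', smul_zero]
    have hxv'' : QuadraticMap.polar (⇑Q) x (c • c⁻¹ • v) = 0 := by
      rw [QuadraticMap.polar_smul_right, hxv', smul_zero]
    refine ⟨c⁻¹ • v, hcx, hcxv, ?_⟩
    congr 1
    apply Subtype.ext
    show eichG Q x v hx hxv = eichG Q (c • x) (c⁻¹ • v) hcx hcxv
    rw [eichG_smul_left Q x (c⁻¹ • v) c hx hcx hxv' hcxv hxv'']
    exact eichG_congr Q x x _ _ hx hx _ _ rfl (by rw [smul_smul, mul_inv_cancel₀ hc, one_smul])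

theorem conj_RT (Q : QuadraticForm F (ι → F))
    (hQ : (QuadraticMap.polarBilin Q).Nondegenerate) (h3 : HasTS3 Q)
    (g : ↥(Cfsg.Omega F (⇑Q))) (x : ι → F) (t : Cfsg.POmega F (⇑Q))
    (ht : t ∈ RT Q hQ h3 x) :
    (QuotientGroup.mk g : Cfsg.POmega F (⇑Q)) * t * (QuotientGroup.mk g)⁻¹
      ∈ RT Q hQ h3 (act g.1 x) := by
  obtain ⟨v, hx, hxv, rfl⟩ := ht
  refine ⟨act g.1 v, by rw [Q_act, hx], by rw [polar_act, hxv], ?_⟩
  rw [← QuotientGroup.mk_inv, ← QuotientGroup.mk_mul, ← QuotientGroup.mk_mul]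
  congr 1
  exact Subtype.ext (conj_eichG Q g.1 x v hx hxv)

/-- `RT x` is generated by the root elements through `x`. -/
theorem RT_subset_of_roots (Q : QuadraticForm F (ι → F))
    (hQ : (QuadraticMap.polarBilin Q).Nondegenerate) (h3 : HasTS3 Q) (x : ι → F)
    (hx : Q x = 0) (H : Subgroup (Cfsg.POmega F (⇑Q)))
    (hH : ∀ (s : ι → F) (hs : Q s = 0) (hxs : QuadraticMap.polar (⇑Q) x s = 0) (c : F),
      (QuotientGroup.mk (sieO Q hQ h3 x s hx hs hxs c) : Cfsg.POmega F (⇑Q)) ∈ H) :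
    RT Q hQ h3 x ⊆ H := by
  rintro _ ⟨v, hx', hxv, rfl⟩
  obtain ⟨e, e', he, he', hee, heW, he'W⟩ := exists_hyp_pair_orth_le_one Q hQ h3
    (Submodule.span F {x}) (finrank_span_singleton_le' x)
  have hxe : QuadraticMap.polar (⇑Q) x e = 0 := heW x (Submodule.mem_span_singleton_self x)
  have hxe' : QuadraticMap.polar (⇑Q) x e' = 0 := he'W x (Submodule.mem_span_singleton_self x)
  obtain ⟨s, hsA, hs, a, b, hz⟩ := exists_sing_decomp Q (perp Q {x}) e e' he he' hee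
    ((mem_perp_singleton Q x e).mpr hxe) ((mem_perp_singleton Q x e').mpr hxe') v
    ((mem_perp_singleton Q x v).mpr hxv)
  have hxs : QuadraticMap.polar (⇑Q) x s = 0 := (mem_perp_singleton Q x s).mp hsA
  have key : eichO Q hQ h3 x v hx hxv = sieO Q hQ h3 x s hx hs hxs 1
      * sieO Q hQ h3 x e hx he hxe a * sieO Q hQ h3 x e' hx he' hxe' b := by
    apply Subtype.ext
    show eichG Q x v hx hxv = siegelG Q x s hx hs hxs 1 * siegelG Q x e hx he hxe a
      * siegelG Q x e' hx he' hxe' b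
    rw [siegelG_eq_eichG, siegelG_eq_eichG, siegelG_eq_eichG, eichG_mul, eichG_mul]
    apply eichG_congr Q x x _ _ hx hx _ _ rfl
    rw [hz, one_smul]
  show (QuotientGroup.mk (eichO Q hQ h3 x v hx hxv) : Cfsg.POmega F (⇑Q)) ∈ H
  rw [key, QuotientGroup.mk_mul, QuotientGroup.mk_mul]
  exact H.mul_mem (H.mul_mem (hH s hs hxs 1) (hH e he hxe a)) (hH e' he' hxe' b)

theorem sieO_eq_one_of_mem_span (Q : QuadraticForm F (ι → F))
    (hQ : (QuadraticMap.polarBilin Q).Nondegenerate) (h3 : HasTS3 Q) (x s : ι → F)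
    (hx : Q x = 0) (hs : Q s = 0) (hxs : QuadraticMap.polar (⇑Q) x s = 0) (c : F)
    (hsx : s ∈ Submodule.span F {x}) : sieO Q hQ h3 x s hx hs hxs c = 1 := by
  apply Subtype.ext
  show siegelG Q x s hx hs hxs c = 1
  apply act_ext
  intro z
  obtain ⟨t, rfl⟩ := Submodule.mem_span_singleton.mp hsx
  rw [act_siegelG, act_one, QuadraticMap.polar_smul_left]
  funext k
  simp only [Pi.add_apply, Pi.sub_apply, Pi.smul_apply, smul_eq_mul]
  ring

theorem aut_RT_le (Q : QuadraticForm F (ι → F))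
    (hQ : (QuadraticMap.polarBilin Q).Nondegenerate) (h3 : HasTS3 Q)
    {α : MulAut (Cfsg.POmega F (⇑Q))} {lam : Ln Q → Ln Q} (h : LineMap Q hQ h3 α lam)
    (x x' : ι → F) (hx0 : x ≠ 0) (hx : Q x = 0) (hx'0 : x' ≠ 0) (hx' : Q x' = 0)
    (hpt : ∀ K : Ln Q, x ∈ K.1 → x' ∈ (lam K).1) (t : Cfsg.POmega F (⇑Q))
    (ht : t ∈ RT Q hQ h3 x) : α t ∈ RT Q hQ h3 x' := by
  have hsub := RT_subset_of_roots Q hQ h3 x hx
    ((RTsub Q hQ h3 x' hx').comap (α : Cfsg.POmega F (⇑Q) →* Cfsg.POmega F (⇑Q))) ?_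
  · exact hsub ht
  · intro s hs hxs c
    show α (QuotientGroup.mk (sieO Q hQ h3 x s hx hs hxs c)) ∈ RT Q hQ h3 x'
    by_cases hsx : s ∈ Submodule.span F {x}
    · rw [sieO_eq_one_of_mem_span Q hQ h3 x s hx hs hxs c hsx]
      have : α ((QuotientGroup.mk (1 : ↥(Cfsg.Omega F (⇑Q))) : Cfsg.POmega F (⇑Q))) = 1 := by
        rw [QuotientGroup.mk_one, map_one]
      rw [this]
      exact RT_one Q hQ h3 x' hx'
    · have h1 : (QuotientGroup.mk (sieO Q hQ h3 x s hx hs hxs c) : Cfsg.POmega F (⇑Q))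
          ∈ rootT Q hQ h3 (spanLn Q x s hx0 hsx hx hs hxs) :=
        (mem_rootT_spanLn Q hQ h3 x s hx0 hsx hx hs hxs _).mpr ⟨c, rfl⟩
      have h2 : α (QuotientGroup.mk (sieO Q hQ h3 x s hx hs hxs c))
          ∈ rootT Q hQ h3 (lam (spanLn Q x s hx0 hsx hx hs hxs)) := by
        rw [← h]
        exact ⟨_, h1, rfl⟩
      have hx'K : x' ∈ (lam (spanLn Q x s hx0 hsx hx hs hxs)).1 :=
        hpt _ (Submodule.subset_span (by simp))
      obtain ⟨l', hl', hQl', hx'l', hKeq⟩ := exists_basis_ln_of_mem Q hQ _ x' hx'0 hx' hx'K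
      rw [hKeq, mem_rootT_spanLn] at h2
      obtain ⟨c', hc'⟩ := h2
      rw [hc']
      exact sieO_mem_RT Q hQ h3 x' l' hx' hQl' hx'l' c'

/-- An automorphism maps `RT x` onto `RT x'`, where `x'` is the image point of `x`. -/
theorem aut_RT (Q : QuadraticForm F (ι → F))
    (hQ : (QuadraticMap.polarBilin Q).Nondegenerate) (h3 : HasTS3 Q)
    {α : MulAut (Cfsg.POmega F (⇑Q))} {lam mu : Ln Q → Ln Q} (h : LineMap Q hQ h3 α lam)
    (h' : LineMap Q hQ h3 α⁻¹ mu)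
    (x x' : ι → F) (hx0 : x ≠ 0) (hx : Q x = 0) (hx'0 : x' ≠ 0) (hx' : Q x' = 0)
    (hpt : ∀ K : Ln Q, x ∈ K.1 ↔ x' ∈ (lam K).1) (t : Cfsg.POmega F (⇑Q)) :
    t ∈ RT Q hQ h3 x ↔ α t ∈ RT Q hQ h3 x' := by
  constructor
  · exact aut_RT_le Q hQ h3 h x x' hx0 hx hx'0 hx' (fun K hK => (hpt K).mp hK) t
  · intro ht
    have hpt' : ∀ K' : Ln Q, x' ∈ K'.1 → x ∈ (mu K').1 := by
      intro K' hK'
      rw [hpt (mu K'), lineMap_right_inv h h']
      exact hK'
    have := aut_RT_le Q hQ h3 h' x' x hx'0 hx' hx0 hx hpt' (α t) ht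
    simpa using this

/-- The point map preserves non-orthogonality. -/
theorem polar_ne_of_pt (Q : QuadraticForm F (ι → F))
    (hQ : (QuadraticMap.polarBilin Q).Nondegenerate) (h3 : HasTS3 Q)
    {lam mu : Ln Q → Ln Q} (hlm : ∀ L, lam (mu L) = L) (x y x' y' : ι → F) (hx0 : x ≠ 0)
    (hx : Q x = 0) (hx'0 : x' ≠ 0) (hx' : Q x' = 0) (hy' : Q y' = 0)
    (hptx : ∀ K : Ln Q, x ∈ K.1 ↔ x' ∈ (lam K).1) (hpty : ∀ K : Ln Q, y ∈ K.1 ↔ y' ∈ (lam K).1)
    (hxy : QuadraticMap.polar (⇑Q) x y ≠ 0) : QuadraticMap.polar (⇑Q) x' y' ≠ 0 := by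
  intro hperp
  apply hxy
  by_cases hdep : y' ∈ Submodule.span F {x'}
  · have hy : y ∈ Submodule.span F {x} := by
      apply mem_span_of_same_lines Q hQ h3 x y hx0 hx
      intro K hK
      rw [hpty K]
      obtain ⟨c, rfl⟩ := Submodule.mem_span_singleton.mp hdep
      exact (lam K).1.smul_mem _ ((hptx K).mp hK)
    obtain ⟨c, rfl⟩ := Submodule.mem_span_singleton.mp hy
    rw [QuadraticMap.polar_smul_right, polar_self', hx]
    simp
  · have hxK : x ∈ (mu (spanLn Q x' y' hx'0 hdep hx' hy' hperp)).1 := by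
      rw [hptx, hlm]
      exact Submodule.subset_span (by simp)
    have hyK : y ∈ (mu (spanLn Q x' y' hx'0 hdep hx' hy' hperp)).1 := by
      rw [hpty, hlm]
      exact Submodule.subset_span (by simp)
    exact (mu (spanLn Q x' y' hx'0 hdep hx' hy' hperp)).2.2.polar hxK hyK

end

end Cfsg.Agent.H49
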