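import Mathlib
import Cfsg.Agent.H49.AutPts

set_option autoImplicit false
set_option linter.unusedSectionVars false
set_option linter.unusedSimpArgs false
set_option linter.unusedVariables false

/-! Helper lemmas (helper49): the unipotent radicals `RT x` inside `PΩ`: parametrisation,
recognition of the point, centraliser, generation of `PΩ`, structure of the elements
normalising two opposite radicals. -/

namespace Cfsg.Agent.H49

open Module Matrix

section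
variable {ι : Type} [Fintype ι] [DecidableEq ι] {F : Type*} [Field F] [Fintype F]

open Classical in
/-- The image in `PΩ` of the Eichler transformation at `x` with vector `v` (trivial when the
hypotheses fail). -/
noncomputable def eT (Q : QuadraticForm F (ι → F))
    (hQ : (QuadraticMap.polarBilin Q).Nondegenerate) (h3 : HasTS3 Q) (x v : ι → F) :
    Cfsg.POmega F (⇑Q) :=
  if h : Q x = 0 ∧ QuadraticMap.polar (⇑Q) x v = 0 then
    QuotientGroup.mk (eichO Q hQ h3 x v h.1 h.2) else 1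

theorem eT_eq (Q : QuadraticForm F (ι → F))
    (hQ : (QuadraticMap.polarBilin Q).Nondegenerate) (h3 : HasTS3 Q) (x v : ι → F)
    (hx : Q x = 0) (hxv : QuadraticMap.polar (⇑Q) x v = 0) :
    eT Q hQ h3 x v = QuotientGroup.mk (eichO Q hQ h3 x v hx hxv) := by
  unfold eT
  rw [dif_pos ⟨hx, hxv⟩]

theorem eT_mem_RT (Q : QuadraticForm F (ι → F))
    (hQ : (QuadraticMap.polarBilin Q).Nondegenerate) (h3 : HasTS3 Q) (x v : ι → F)
    (hx : Q x = 0) (hxv : QuadraticMap.polar (⇑Q) x v = 0) :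
    eT Q hQ h3 x v ∈ RT Q hQ h3 x := by
  rw [eT_eq Q hQ h3 x v hx hxv]
  exact eichO_mem_RT Q hQ h3 x v hx hxv

theorem mem_RT_iff (Q : QuadraticForm F (ι → F))
    (hQ : (QuadraticMap.polarBilin Q).Nondegenerate) (h3 : HasTS3 Q) (x : ι → F)
    (t : Cfsg.POmega F (⇑Q)) :
    t ∈ RT Q hQ h3 x ↔ Q x = 0 ∧ ∃ v, QuadraticMap.polar (⇑Q) x v = 0 ∧ t = eT Q hQ h3 x v := by
  constructor
  · rintro ⟨v, hx, hxv, rfl⟩
    exact ⟨hx, v, hxv, (eT_eq Q hQ h3 x v hx hxv).symm⟩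
  · rintro ⟨hx, v, hxv, rfl⟩
    exact eT_mem_RT Q hQ h3 x v hx hxv

theorem eT_add (Q : QuadraticForm F (ι → F))
    (hQ : (QuadraticMap.polarBilin Q).Nondegenerate) (h3 : HasTS3 Q) (x v w : ι → F)
    (hx : Q x = 0) (hxv : QuadraticMap.polar (⇑Q) x v = 0)
    (hxw : QuadraticMap.polar (⇑Q) x w = 0) :
    eT Q hQ h3 x (v + w) = eT Q hQ h3 x v * eT Q hQ h3 x w := by
  have hxvw : QuadraticMap.polar (⇑Q) x (v + w) = 0 := by
    rw [QuadraticMap.polar_add_right, hxv, hxw, add_zero]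
  rw [eT_eq Q hQ h3 x v hx hxv, eT_eq Q hQ h3 x w hx hxw, eT_eq Q hQ h3 x (v + w) hx hxvw,
    ← QuotientGroup.mk_mul]
  congr 1
  exact (Subtype.ext (eichG_mul Q x v w hx hxv hxw)).symm

theorem eT_zero (Q : QuadraticForm F (ι → F))
    (hQ : (QuadraticMap.polarBilin Q).Nondegenerate) (h3 : HasTS3 Q) (x : ι → F) :
    eT Q hQ h3 x 0 = 1 := by
  by_cases hx : Q x = 0
  · have h0 : QuadraticMap.polar (⇑Q) x 0 = 0 := QuadraticMap.polar_zero_right _ _
    rw [eT_eq Q hQ h3 x 0 hx h0]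
    have : eichO Q hQ h3 x 0 hx h0 = 1 := Subtype.ext (eichG_zero Q x hx h0)
    rw [this]
    rfl
  · unfold eT
    rw [dif_neg (fun h => hx h.1)]

theorem eT_add_smul (Q : QuadraticForm F (ι → F))
    (hQ : (QuadraticMap.polarBilin Q).Nondegenerate) (h3 : HasTS3 Q) (x v : ι → F) (t : F)
    (hx : Q x = 0) (hxv : QuadraticMap.polar (⇑Q) x v = 0) :
    eT Q hQ h3 x (v + t • x) = eT Q hQ h3 x v := by
  have hxv' : QuadraticMap.polar (⇑Q) x (v + t • x) = 0 := by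
    rw [QuadraticMap.polar_add_right, QuadraticMap.polar_smul_right, hxv, polar_self', hx]
    simp
  rw [eT_eq Q hQ h3 x _ hx hxv', eT_eq Q hQ h3 x v hx hxv]
  congr 1
  exact Subtype.ext (eichG_add_smul Q x v t hx hxv hxv')

theorem eT_smul_left (Q : QuadraticForm F (ι → F))
    (hQ : (QuadraticMap.polarBilin Q).Nondegenerate) (h3 : HasTS3 Q) (x v : ι → F) (c : F)
    (hx : Q x = 0) (hxv : QuadraticMap.polar (⇑Q) x v = 0) :
    eT Q hQ h3 (c • x) v = eT Q hQ h3 x (c • v) := by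
  have hcx : Q (c • x) = 0 := by rw [QuadraticMap.map_smul, hx, smul_zero]
  have hcxv : QuadraticMap.polar (⇑Q) (c • x) v = 0 := by
    rw [QuadraticMap.polar_smul_left, hxv, smul_zero]
  have hxcv : QuadraticMap.polar (⇑Q) x (c • v) = 0 := by
    rw [QuadraticMap.polar_smul_right, hxv, smul_zero]
  rw [eT_eq Q hQ h3 _ _ hcx hcxv, eT_eq Q hQ h3 _ _ hx hxcv]
  congr 1
  exact Subtype.ext (eichG_smul_left Q x v c hx hcx hxv hcxv hxcv)

theorem conj_eT (Q : QuadraticForm F (ι → F))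
    (hQ : (QuadraticMap.polarBilin Q).Nondegenerate) (h3 : HasTS3 Q)
    (g : ↥(Cfsg.Omega F (⇑Q))) (x v : ι → F) (hx : Q x = 0)
    (hxv : QuadraticMap.polar (⇑Q) x v = 0) :
    (QuotientGroup.mk g : Cfsg.POmega F (⇑Q)) * eT Q hQ h3 x v * (QuotientGroup.mk g)⁻¹
      = eT Q hQ h3 (act g.1 x) (act g.1 v) := by
  have h1 : Q (act g.1 x) = 0 := by rw [Q_act, hx]
  have h2 : QuadraticMap.polar (⇑Q) (act g.1 x) (act g.1 v) = 0 := by rw [polar_act, hxv]
  rw [eT_eq Q hQ h3 x v hx hxv, eT_eq Q hQ h3 _ _ h1 h2, ← QuotientGroup.mk_inv,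
    ← QuotientGroup.mk_mul, ← QuotientGroup.mk_mul]
  congr 1
  exact Subtype.ext (conj_eichG Q g.1 x v hx hxv)

theorem sieO_eq_eT (Q : QuadraticForm F (ι → F))
    (hQ : (QuadraticMap.polarBilin Q).Nondegenerate) (h3 : HasTS3 Q) (x s : ι → F)
    (hx : Q x = 0) (hs : Q s = 0) (hxs : QuadraticMap.polar (⇑Q) x s = 0) (c : F) :
    (QuotientGroup.mk (sieO Q hQ h3 x s hx hs hxs c) : Cfsg.POmega F (⇑Q))
      = eT Q hQ h3 x (c • s) := by
  have h1 : QuadraticMap.polar (⇑Q) x (c • s) = 0 := by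
    rw [QuadraticMap.polar_smul_right, hxs, smul_zero]
  rw [eT_eq Q hQ h3 _ _ hx h1]
  congr 1
  exact Subtype.ext (siegelG_eq_eichG Q x s hx hs hxs c)

/-- Injectivity of the parametrisation of `RT x` modulo `x`. -/
theorem eT_inj (Q : QuadraticForm F (ι → F))
    (hQ : (QuadraticMap.polarBilin Q).Nondegenerate) (h3 : HasTS3 Q) (x y v v' : ι → F)
    (hx : Q x = 0) (hxy : QuadraticMap.polar (⇑Q) x y = 1)
    (hxv : QuadraticMap.polar (⇑Q) x v = 0) (hxv' : QuadraticMap.polar (⇑Q) x v' = 0)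
    (h : eT Q hQ h3 x v = eT Q hQ h3 x v') : ∃ t : F, v' = v + t • x := by
  rw [eT_eq Q hQ h3 x v hx hxv, eT_eq Q hQ h3 x v' hx hxv'] at h
  have h6 := six_le_of_hasTS3 Q hQ h3
  have hm : Moves (eichO Q hQ h3 x v hx hxv).1 (Submodule.span F {x, v}) := by
    rw [eichO_coe]; exact moves_eichG Q x v hx hxv
  have hm' : Moves (eichO Q hQ h3 x v' hx hxv').1 (Submodule.span F {x, v'}) := by
    rw [eichO_coe]; exact moves_eichG Q x v' hx hxv'
  have f1 := finrank_span_pair_le (F := F) x v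
  have f2 := finrank_span_pair_le (F := F) x v'
  have heq := eq_of_mk_eq_of_moves Q hQ h3 _ _ _ _ hm hm' (by omega) h
  exact eichG_inj Q x y v v' hx hxy hxv hxv' (congrArg Subtype.val heq)

theorem eT_inj_D (Q : QuadraticForm F (ι → F))
    (hQ : (QuadraticMap.polarBilin Q).Nondegenerate) (h3 : HasTS3 Q) (x y v v' : ι → F)
    (hx : Q x = 0) (hxy : QuadraticMap.polar (⇑Q) x y = 1)
    (hv : v ∈ perp Q {x, y}) (hv' : v' ∈ perp Q {x, y})
    (h : eT Q hQ h3 x v = eT Q hQ h3 x v') : v = v' := by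
  obtain ⟨h1, h2⟩ := (mem_perp_pair Q x y v).mp hv
  obtain ⟨h1', h2'⟩ := (mem_perp_pair Q x y v').mp hv'
  obtain ⟨t, ht⟩ := eT_inj Q hQ h3 x y v v' hx hxy h1 h1' h
  have e : QuadraticMap.polar (⇑Q) y v' = QuadraticMap.polar (⇑Q) y v
      + t * QuadraticMap.polar (⇑Q) y x := by
    rw [ht, QuadraticMap.polar_add_right, QuadraticMap.polar_smul_right, smul_eq_mul]
  rw [h2', h2, QuadraticMap.polar_comm, hxy, zero_add, mul_one] at e
  rw [ht, ← e, zero_smul, add_zero]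

theorem mem_RT_iff_D (Q : QuadraticForm F (ι → F))
    (hQ : (QuadraticMap.polarBilin Q).Nondegenerate) (h3 : HasTS3 Q) (x y : ι → F)
    (hx : Q x = 0) (hxy : QuadraticMap.polar (⇑Q) x y = 1) (t : Cfsg.POmega F (⇑Q)) :
    t ∈ RT Q hQ h3 x ↔ ∃ v ∈ perp Q {x, y}, t = eT Q hQ h3 x v := by
  constructor
  · rintro ⟨v, hx', hxv, rfl⟩
    refine ⟨v + (-(QuadraticMap.polar (⇑Q) y v)) • x, ?_, ?_⟩
    · rw [mem_perp_pair]
      constructor
      · rw [QuadraticMap.polar_add_right, QuadraticMap.polar_smul_right, hxv, polar_self', hx]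
        simp
      · rw [QuadraticMap.polar_add_right, QuadraticMap.polar_smul_right,
          QuadraticMap.polar_comm (⇑Q) y x, hxy]
        simp
    · rw [eT_add_smul Q hQ h3 x v _ hx hxv, eT_eq Q hQ h3 x v hx hxv]
  · rintro ⟨v, hv, rfl⟩
    exact eT_mem_RT Q hQ h3 x v hx ((mem_perp_pair Q x y v).mp hv).1

/-- A line whose root subgroup lies in `RT x` passes through `x`. -/
theorem mem_of_root_subset_RT (Q : QuadraticForm F (ι → F))
    (hQ : (QuadraticMap.polarBilin Q).Nondegenerate) (h3 : HasTS3 Q) (L : Ln Q) (x : ι → F)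
    (h : rootT Q hQ h3 L ⊆ RT Q hQ h3 x) : x ∈ L.1 := by
  obtain ⟨u, w, hu0, hw, hu, hQw, huw, hLeq⟩ := exists_basis_ln Q hQ L
  have h1 : (QuotientGroup.mk (sieO Q hQ h3 u w hu hQw huw 1) : Cfsg.POmega F (⇑Q))
      ∈ RT Q hQ h3 x := by
    apply h
    rw [hLeq]
    exact (mem_rootT_spanLn Q hQ h3 u w hu0 hw hu hQw huw _).mpr ⟨1, rfl⟩
  obtain ⟨v, hx, hxv, hv⟩ := h1
  have h6 := six_le_of_hasTS3 Q hQ h3
  have hm : Moves (sieO Q hQ h3 u w hu hQw huw 1).1 (Submodule.span F {u, w}) := by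
    rw [sieO_coe]; exact moves_siegelG Q u w hu hQw huw 1
  have hm' : Moves (eichO Q hQ h3 x v hx hxv).1 (Submodule.span F {x, v}) := by
    rw [eichO_coe]; exact moves_eichG Q x v hx hxv
  have f1 := finrank_span_pair_le (F := F) u w
  have f2 := finrank_span_pair_le (F := F) x v
  have heq := eq_of_mk_eq_of_moves Q hQ h3 _ _ _ _ hm hm' (by omega) hv
  have hm2 : Moves (siegelG Q u w hu hQw huw 1) (Submodule.span F {x, v}) := by
    have e : siegelG Q u w hu hQw huw 1 = eichG Q x v hx hxv := congrArg Subtype.val heq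
    rw [e]
    exact moves_eichG Q x v hx hxv
  have hle := le_of_moves_siegelG Q hQ u w hu0 hw hu hQw huw _ hm2
  have heq2 : Submodule.span F {u, w} = Submodule.span F {x, v} :=
    Submodule.eq_of_le_of_finrank_le hle (by rw [finrank_span_pair_eq u w hu0 hw]; exact f2)
  have hLval : L.1 = Submodule.span F {u, w} := by rw [hLeq]; rfl
  rw [hLval, heq2]
  exact Submodule.subset_span (by simp)

/-- `RT x' ⊆ RT x` forces `x` to be a multiple of `x'`. -/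
theorem mem_span_of_RT_subset (Q : QuadraticForm F (ι → F))
    (hQ : (QuadraticMap.polarBilin Q).Nondegenerate) (h3 : HasTS3 Q) (x x' : ι → F)
    (hx'0 : x' ≠ 0) (hx' : Q x' = 0)
    (h : RT Q hQ h3 x' ⊆ RT Q hQ h3 x) : x ∈ Submodule.span F {x'} := by
  apply mem_span_of_same_lines Q hQ h3 x' x hx'0 hx'
  intro K hK
  apply mem_of_root_subset_RT Q hQ h3 K x
  intro t ht
  apply h
  obtain ⟨l, hl, hQl, hxl, hKeq⟩ := exists_basis_ln_of_mem Q hQ K x' hx'0 hx' hK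
  rw [hKeq, mem_rootT_spanLn] at ht
  obtain ⟨c, rfl⟩ := ht
  exact sieO_mem_RT Q hQ h3 x' l hx' hQl hxl c

/-- The centraliser of `RT x` in `PΩ` is `RT x`. -/
theorem mem_RT_of_commute (Q : QuadraticForm F (ι → F))
    (hQ : (QuadraticMap.polarBilin Q).Nondegenerate) (h3 : HasTS3 Q) (x : ι → F)
    (hx0 : x ≠ 0) (hx : Q x = 0) (t : Cfsg.POmega F (⇑Q))
    (h : ∀ r ∈ RT Q hQ h3 x, t * r = r * t) : t ∈ RT Q hQ h3 x := by
  obtain ⟨g, rfl⟩ := QuotientGroup.mk_surjective t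
  have h6 := six_le_of_hasTS3 Q hQ h3
  have hg : ∀ (v : ι → F) (hv : Q v = 0) (hxv : QuadraticMap.polar (⇑Q) x v = 0),
      g.1 * siegelG Q x v hx hv hxv 1 = siegelG Q x v hx hv hxv 1 * g.1 := by
    intro v hv hxv
    have hm : Moves (sieO Q hQ h3 x v hx hv hxv 1).1 (Submodule.span F {x, v}) := by
      rw [sieO_coe]; exact moves_siegelG Q x v hx hv hxv 1
    have f1 := finrank_span_pair_le (F := F) x v
    have := commute_of_mk_commute Q hQ h3 g (sieO Q hQ h3 x v hx hv hxv 1) _ hm (by omega)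
      (h _ (sieO_mem_RT Q hQ h3 x v hx hv hxv 1))
    exact congrArg Subtype.val this
  obtain ⟨c, hc, hgx, v₀, hv₀, hact⟩ := centralizer_structure Q hQ h3 x hx0 hx g.1 hg
  have e : (QuotientGroup.mk (eichO Q hQ h3 x v₀ hx hv₀) : Cfsg.POmega F (⇑Q))
      = QuotientGroup.mk g :=
    mk_eq_of_scalar Q _ _ c (by intro z; rw [eichO_coe]; exact hact z)
  rw [← e]
  exact eichO_mem_RT Q hQ h3 x v₀ hx hv₀

/-- A subgroup containing `RT p` and `RT q` with `p`, `q` non-orthogonal contains `RT z` for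
every singular `z` not orthogonal to `p`. -/
theorem RT_transfer (Q : QuadraticForm F (ι → F))
    (hQ : (QuadraticMap.polarBilin Q).Nondegenerate) (h3 : HasTS3 Q)
    (H : Subgroup (Cfsg.POmega F (⇑Q))) (p q z : ι → F) (hp : Q p = 0) (hq : Q q = 0)
    (hz : Q z = 0) (hpq : QuadraticMap.polar (⇑Q) p q ≠ 0)
    (hpz : QuadraticMap.polar (⇑Q) p z ≠ 0)
    (hHp : RT Q hQ h3 p ⊆ H) (hHq : RT Q hQ h3 q ⊆ H) : RT Q hQ h3 z ⊆ H := by
  obtain ⟨q₁, hq₁⟩ : ∃ q₁, q₁ = (QuadraticMap.polar (⇑Q) p q)⁻¹ • q := ⟨_, rfl⟩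
  obtain ⟨z₁, hz₁⟩ : ∃ z₁, z₁ = (QuadraticMap.polar (⇑Q) p z)⁻¹ • z := ⟨_, rfl⟩
  have hQq₁ : Q q₁ = 0 := by rw [hq₁, QuadraticMap.map_smul, hq, smul_zero]
  have hQz₁ : Q z₁ = 0 := by rw [hz₁, QuadraticMap.map_smul, hz, smul_zero]
  have hpq₁ : QuadraticMap.polar (⇑Q) p q₁ = 1 := by
    rw [hq₁, QuadraticMap.polar_smul_right, smul_eq_mul, inv_mul_cancel₀ hpq]
  have hpz₁ : QuadraticMap.polar (⇑Q) p z₁ = 1 := by
    rw [hz₁, QuadraticMap.polar_smul_right, smul_eq_mul, inv_mul_cancel₀ hpz]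
  have hRq : RT Q hQ h3 q₁ = RT Q hQ h3 q := by
    rw [hq₁]; exact RT_smul Q hQ h3 q _ (inv_ne_zero hpq)
  have hRz : RT Q hQ h3 z₁ = RT Q hQ h3 z := by
    rw [hz₁]; exact RT_smul Q hQ h3 z _ (inv_ne_zero hpz)
  have hpv : QuadraticMap.polar (⇑Q) p (z₁ - q₁) = 0 := by
    rw [QuadraticMap.polar_sub_right, hpz₁, hpq₁, sub_self]
  have hact : act (eichG Q p (z₁ - q₁) hp hpv) q₁ = z₁ := by
    rw [act_eichG, hpq₁, one_smul, mul_one, Q_sub', hQz₁, hQq₁, QuadraticMap.polar_sub_left,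
      polar_self', hQq₁]
    funext k
    simp only [Pi.add_apply, Pi.sub_apply, Pi.smul_apply, smul_eq_mul]
    ring
  rw [← hRz]
  intro t ht
  have ht' := conj_RT Q hQ h3 (eichO Q hQ h3 p (z₁ - q₁) hp hpv)⁻¹ z₁ t ht
  have e : act ((eichO Q hQ h3 p (z₁ - q₁) hp hpv)⁻¹ : ↥(Cfsg.Omega F (⇑Q))).1 z₁ = q₁ := by
    have e0 := act_inv_act (eichG Q p (z₁ - q₁) hp hpv) q₁
    rw [hact] at e0
    exact e0
  rw [e, hRq] at ht'
  have hg : (QuotientGroup.mk (eichO Q hQ h3 p (z₁ - q₁) hp hpv) : Cfsg.POmega F (⇑Q)) ∈ H :=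
    hHp (eichO_mem_RT Q hQ h3 p _ hp hpv)
  have e2 : t = (QuotientGroup.mk (eichO Q hQ h3 p (z₁ - q₁) hp hpv) : Cfsg.POmega F (⇑Q))
      * ((QuotientGroup.mk (eichO Q hQ h3 p (z₁ - q₁) hp hpv)⁻¹ : Cfsg.POmega F (⇑Q)) * t
        * (QuotientGroup.mk (eichO Q hQ h3 p (z₁ - q₁) hp hpv)⁻¹ : Cfsg.POmega F (⇑Q))⁻¹)
      * (QuotientGroup.mk (eichO Q hQ h3 p (z₁ - q₁) hp hpv) : Cfsg.POmega F (⇑Q))⁻¹ := by
    rw [QuotientGroup.mk_inv]
    group
  rw [e2]
  exact H.mul_mem (H.mul_mem hg (hHq ht')) (H.inv_mem hg)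

/-- `PΩ` is generated by two opposite unipotent radicals. -/
theorem eq_top_of_RT (Q : QuadraticForm F (ι → F))
    (hQ : (QuadraticMap.polarBilin Q).Nondegenerate) (h3 : HasTS3 Q)
    (H : Subgroup (Cfsg.POmega F (⇑Q))) (x y : ι → F) (hx0 : x ≠ 0) (hx : Q x = 0)
    (hy : Q y = 0) (hxy : QuadraticMap.polar (⇑Q) x y = 1)
    (hHx : RT Q hQ h3 x ⊆ H) (hHy : RT Q hQ h3 y ⊆ H) : H = ⊤ := by
  have hall : ∀ z : ι → F, z ≠ 0 → Q z = 0 → RT Q hQ h3 z ⊆ H := by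
    intro z hz0 hz
    obtain ⟨s, hs, hxs, hsz⟩ := exists_common_nbr Q hQ h3 x z hx0 hz0 hx hz
    have hHs : RT Q hQ h3 s ⊆ H :=
      RT_transfer Q hQ h3 H x y s hx hy hs (by rw [hxy]; exact one_ne_zero) hxs hHx hHy
    exact RT_transfer Q hQ h3 H s x z hs hx hz (by rw [QuadraticMap.polar_comm]; exact hxs) hsz
      hHs hHx
  have hsie : ∀ (u v : ι → F) (hu : Q u = 0) (hv : Q v = 0)
      (huv : QuadraticMap.polar (⇑Q) u v = 0) (c : F),
      (QuotientGroup.mk (sieO Q hQ h3 u v hu hv huv c) : Cfsg.POmega F (⇑Q)) ∈ H := by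
    intro u v hu hv huv c
    by_cases hu0 : u = 0
    · have e : sieO Q hQ h3 u v hu hv huv c = 1 :=
        Subtype.ext (siegelG_eq_one Q u v hu hv huv c (Or.inl hu0))
      rw [e]
      exact H.one_mem
    · exact hall u hu0 hu (sieO_mem_RT Q hQ h3 u v hu hv huv c)
  have key : ∀ k ∈ Subgroup.closure (siegelSet Q),
      ∀ hk : k ∈ commutator ↥(Cfsg.isometryGroup F (⇑Q)),
      (QuotientGroup.mk (⟨k, hk⟩ : ↥(Cfsg.Omega F (⇑Q))) : Cfsg.POmega F (⇑Q)) ∈ H := by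
    intro k hk
    induction hk using Subgroup.closure_induction with
    | mem k hk' =>
      intro hk2
      obtain ⟨u, v, hu, hv, huv, c, rfl⟩ := hk'
      exact hsie u v hu hv huv c
    | one =>
      intro hk2
      exact H.one_mem
    | mul a b ha hb iha ihb =>
      intro hk2
      have ha' : a ∈ commutator ↥(Cfsg.isometryGroup F (⇑Q)) := by
        rw [commutator_eq_closure_siegelSet Q hQ h3]; exact ha
      have hb' : b ∈ commutator ↥(Cfsg.isometryGroup F (⇑Q)) := by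
        rw [commutator_eq_closure_siegelSet Q hQ h3]; exact hb
      have e : (⟨a * b, hk2⟩ : ↥(Cfsg.Omega F (⇑Q))) = ⟨a, ha'⟩ * ⟨b, hb'⟩ := rfl
      rw [e, QuotientGroup.mk_mul]
      exact H.mul_mem (iha ha') (ihb hb')
    | inv a ha iha =>
      intro hk2
      have ha' : a ∈ commutator ↥(Cfsg.isometryGroup F (⇑Q)) := by
        rw [commutator_eq_closure_siegelSet Q hQ h3]; exact ha
      have e : (⟨a⁻¹, hk2⟩ : ↥(Cfsg.Omega F (⇑Q))) = (⟨a, ha'⟩ : ↥(Cfsg.Omega F (⇑Q)))⁻¹ := rfl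
      rw [e, QuotientGroup.mk_inv]
      exact H.inv_mem (iha ha')
  rw [eq_top_iff]
  intro t _
  obtain ⟨g, rfl⟩ := QuotientGroup.mk_surjective t
  have hg : g.1 ∈ Subgroup.closure (siegelSet Q) := by
    rw [← commutator_eq_closure_siegelSet Q hQ h3]; exact g.2
  exact key g.1 hg g.2

/-- An element of `PΩ` normalising two opposite unipotent radicals is the image of an element
of `Ω` stabilising the two points. -/
theorem levi_structure (Q : QuadraticForm F (ι → F))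
    (hQ : (QuadraticMap.polarBilin Q).Nondegenerate) (h3 : HasTS3 Q) (x y : ι → F)
    (hx0 : x ≠ 0) (hy0 : y ≠ 0) (hx : Q x = 0) (hy : Q y = 0)
    (hxy : QuadraticMap.polar (⇑Q) x y = 1) (l : Cfsg.POmega F (⇑Q))
    (hlx : ∀ t ∈ RT Q hQ h3 x, l * t * l⁻¹ ∈ RT Q hQ h3 x)
    (hly : ∀ t ∈ RT Q hQ h3 y, l * t * l⁻¹ ∈ RT Q hQ h3 y) :
    ∃ (g : ↥(Cfsg.Omega F (⇑Q))) (c : F), l = QuotientGroup.mk g ∧ c ≠ 0 ∧
      act g.1 x = c • x ∧ act g.1 y = c⁻¹ • y := by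
  obtain ⟨g, rfl⟩ := QuotientGroup.mk_surjective l
  have sub : ∀ w : ι → F, (∀ t ∈ RT Q hQ h3 w,
      (QuotientGroup.mk g : Cfsg.POmega F (⇑Q)) * t * (QuotientGroup.mk g)⁻¹ ∈ RT Q hQ h3 w) →
      RT Q hQ h3 (act g.1 w) ⊆ RT Q hQ h3 w := by
    intro w hw t ht
    have h1 := conj_RT Q hQ h3 g⁻¹ (act g.1 w) t ht
    have e1 : act (g⁻¹ : ↥(Cfsg.Omega F (⇑Q))).1 (act g.1 w) = w := act_inv_act g.1 w
    rw [e1] at h1
    have h2 := hw _ h1
    have e : (QuotientGroup.mk g : Cfsg.POmega F (⇑Q))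
        * ((QuotientGroup.mk g⁻¹ : Cfsg.POmega F (⇑Q)) * t
          * (QuotientGroup.mk g⁻¹ : Cfsg.POmega F (⇑Q))⁻¹) * (QuotientGroup.mk g)⁻¹ = t := by
      rw [QuotientGroup.mk_inv]
      group
    rwa [e] at h2
  have h1 := mem_span_of_RT_subset Q hQ h3 x (act g.1 x) (act_ne_zero g.1 hx0)
    (by rw [Q_act, hx]) (sub x hlx)
  have h2 := mem_span_of_RT_subset Q hQ h3 y (act g.1 y) (act_ne_zero g.1 hy0)
    (by rw [Q_act, hy]) (sub y hly)
  obtain ⟨a, ha⟩ := Submodule.mem_span_singleton.mp h1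
  obtain ⟨b, hb⟩ := Submodule.mem_span_singleton.mp h2
  have ha0 : a ≠ 0 := by
    rintro rfl
    rw [zero_smul] at ha
    exact hx0 ha.symm
  have hb0 : b ≠ 0 := by
    rintro rfl
    rw [zero_smul] at hb
    exact hy0 hb.symm
  have hgx : act g.1 x = a⁻¹ • x := by
    calc act g.1 x = a⁻¹ • (a • act g.1 x) := (inv_smul_smul₀ ha0 _).symm
      _ = a⁻¹ • x := by rw [ha]
  have hgy : act g.1 y = b⁻¹ • y := by
    calc act g.1 y = b⁻¹ • (b • act g.1 y) := (inv_smul_smul₀ hb0 _).symm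
      _ = b⁻¹ • y := by rw [hb]
  have e := polar_act Q g.1 x y
  rw [hgx, hgy, QuadraticMap.polar_smul_left, QuadraticMap.polar_smul_right, hxy, smul_eq_mul,
    smul_eq_mul, mul_one] at e
  refine ⟨g, a⁻¹, rfl, inv_ne_zero ha0, hgx, ?_⟩
  rw [hgy, eq_inv_of_mul_eq_one_right e]

end

end Cfsg.Agent.H49
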