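import Mathlib
import Cfsg.Agent.H49.AutT

set_option autoImplicit false
set_option linter.unusedSectionVars false
set_option linter.unusedSimpArgs false
set_option linter.unusedVariables false

/-! Helper lemmas (helper49): geometry of the orthogonal complement `D = ⟨x, y⟩^⊥` of a
hyperbolic pair: hyperbolic pairs, spanning by singular vectors, connectivity. -/

namespace Cfsg.Agent.H49

open Module Matrix

section
variable {ι : Type} [Fintype ι] [DecidableEq ι] {F : Type*} [Field F]

/-- Projection onto `⟨x, y⟩^⊥` along the hyperbolic pair `x, y`. -/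
def piD (Q : QuadraticForm F (ι → F)) (x y z : ι → F) : ι → F :=
  z - QuadraticMap.polar (⇑Q) y z • x - QuadraticMap.polar (⇑Q) x z • y

theorem piD_mem (Q : QuadraticForm F (ι → F)) (x y z : ι → F) (hx : Q x = 0) (hy : Q y = 0)
    (hxy : QuadraticMap.polar (⇑Q) x y = 1) : piD Q x y z ∈ perp Q {x, y} := by
  rw [mem_perp_pair]
  unfold piD
  have hyx : QuadraticMap.polar (⇑Q) y x = 1 := by rw [QuadraticMap.polar_comm]; exact hxy
  constructor
  · rw [QuadraticMap.polar_sub_right, QuadraticMap.polar_sub_right, QuadraticMap.polar_smul_right,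
      QuadraticMap.polar_smul_right, polar_self', hx, hxy]
    simp
  · rw [QuadraticMap.polar_sub_right, QuadraticMap.polar_sub_right, QuadraticMap.polar_smul_right,
      QuadraticMap.polar_smul_right, polar_self', hy, hyx]
    simp

theorem piD_add (Q : QuadraticForm F (ι → F)) (x y z w : ι → F) :
    piD Q x y (z + w) = piD Q x y z + piD Q x y w := by
  unfold piD
  rw [QuadraticMap.polar_add_right, QuadraticMap.polar_add_right]
  funext k
  simp only [Pi.add_apply, Pi.sub_apply, Pi.smul_apply, smul_eq_mul]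
  ring

theorem piD_smul (Q : QuadraticForm F (ι → F)) (x y : ι → F) (c : F) (z : ι → F) :
    piD Q x y (c • z) = c • piD Q x y z := by
  unfold piD
  rw [QuadraticMap.polar_smul_right, QuadraticMap.polar_smul_right]
  funext k
  simp only [Pi.sub_apply, Pi.smul_apply, smul_eq_mul]
  ring

theorem piD_of_mem (Q : QuadraticForm F (ι → F)) (x y z : ι → F) (hz : z ∈ perp Q {x, y}) :
    piD Q x y z = z := by
  obtain ⟨h1, h2⟩ := (mem_perp_pair Q x y z).mp hz
  unfold piD
  rw [h1, h2]
  simp

theorem piD_decomp (Q : QuadraticForm F (ι → F)) (x y z : ι → F) :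
    z = QuadraticMap.polar (⇑Q) y z • x + QuadraticMap.polar (⇑Q) x z • y + piD Q x y z := by
  unfold piD
  abel

/-- `D` is nondegenerate. -/
theorem eq_zero_of_perp_D (Q : QuadraticForm F (ι → F))
    (hQ : (QuadraticMap.polarBilin Q).Nondegenerate) (x y v : ι → F) (hx : Q x = 0)
    (hy : Q y = 0) (hxy : QuadraticMap.polar (⇑Q) x y = 1) (hv : v ∈ perp Q {x, y})
    (h : ∀ u ∈ perp Q {x, y}, QuadraticMap.polar (⇑Q) u v = 0) : v = 0 := by
  obtain ⟨h1, h2⟩ := (mem_perp_pair Q x y v).mp hv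
  refine hQ.1 v (fun z => ?_)
  show QuadraticMap.polar (⇑Q) v z = 0
  rw [QuadraticMap.polar_comm, piD_decomp Q x y z, QuadraticMap.polar_add_left,
    QuadraticMap.polar_add_left, QuadraticMap.polar_smul_left, QuadraticMap.polar_smul_left, h1,
    h2, h _ (piD_mem Q x y z hx hy hxy)]
  simp

/-- A hyperbolic pair of `D` orthogonal to a singular vector `b ⊥ x`. -/
theorem exists_hyp_pair_D (Q : QuadraticForm F (ι → F))
    (hQ : (QuadraticMap.polarBilin Q).Nondegenerate) (h3 : HasTS3 Q) (x y b : ι → F)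
    (hx : Q x = 0) (hy : Q y = 0) (hxy : QuadraticMap.polar (⇑Q) x y = 1) (hb : Q b = 0)
    (hxb : QuadraticMap.polar (⇑Q) x b = 0) :
    ∃ e f : ι → F, Q e = 0 ∧ Q f = 0 ∧ QuadraticMap.polar (⇑Q) e f = 1 ∧
      e ∈ perp Q {x, y} ∧ f ∈ perp Q {x, y} ∧ QuadraticMap.polar (⇑Q) b e = 0 ∧
      QuadraticMap.polar (⇑Q) b f = 0 := by
  obtain ⟨e, e', he, he', hee, heW, he'W⟩ := exists_hyp_pair_orth_ts Q hQ h3
    (Submodule.span F {x, b}) (isTS_span_pair Q x b hx hb hxb) (finrank_span_pair_le x b)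
  have hxe : QuadraticMap.polar (⇑Q) x e = 0 := heW x (Submodule.subset_span (by simp))
  have hbe : QuadraticMap.polar (⇑Q) b e = 0 := heW b (Submodule.subset_span (by simp))
  have hxe' : QuadraticMap.polar (⇑Q) x e' = 0 := he'W x (Submodule.subset_span (by simp))
  have hbe' : QuadraticMap.polar (⇑Q) b e' = 0 := he'W b (Submodule.subset_span (by simp))
  have hyx : QuadraticMap.polar (⇑Q) y x = 1 := by rw [QuadraticMap.polar_comm]; exact hxy
  have hbx : QuadraticMap.polar (⇑Q) b x = 0 := by rw [QuadraticMap.polar_comm]; exact hxb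
  have hex : QuadraticMap.polar (⇑Q) e x = 0 := by rw [QuadraticMap.polar_comm]; exact hxe
  refine ⟨e - QuadraticMap.polar (⇑Q) y e • x, e' - QuadraticMap.polar (⇑Q) y e' • x,
    ?_, ?_, ?_, ?_, ?_, ?_, ?_⟩
  · rw [Q_sub_smul, he, hx, hxe]; ring
  · rw [Q_sub_smul, he', hx, hxe']; ring
  · rw [QuadraticMap.polar_sub_left, QuadraticMap.polar_sub_right, QuadraticMap.polar_sub_right,
      QuadraticMap.polar_smul_left, QuadraticMap.polar_smul_right, QuadraticMap.polar_smul_left,
      QuadraticMap.polar_smul_right, hee, hex, hxe', polar_self', hx]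
    simp
  · rw [mem_perp_pair]
    constructor
    · rw [QuadraticMap.polar_sub_right, QuadraticMap.polar_smul_right, hxe, polar_self', hx]
      simp
    · rw [QuadraticMap.polar_sub_right, QuadraticMap.polar_smul_right, hyx]
      simp
  · rw [mem_perp_pair]
    constructor
    · rw [QuadraticMap.polar_sub_right, QuadraticMap.polar_smul_right, hxe', polar_self', hx]
      simp
    · rw [QuadraticMap.polar_sub_right, QuadraticMap.polar_smul_right, hyx]
      simp
  · rw [QuadraticMap.polar_sub_right, QuadraticMap.polar_smul_right, hbe, hbx]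
    simp
  · rw [QuadraticMap.polar_sub_right, QuadraticMap.polar_smul_right, hbe', hbx]
    simp

/-- Every vector of `D ∩ b^⊥` is a sum of three singular vectors of `D ∩ b^⊥`. -/
theorem exists_sing_decomp_D (Q : QuadraticForm F (ι → F))
    (hQ : (QuadraticMap.polarBilin Q).Nondegenerate) (h3 : HasTS3 Q) (x y b : ι → F)
    (hx : Q x = 0) (hy : Q y = 0) (hxy : QuadraticMap.polar (⇑Q) x y = 1) (hb : Q b = 0)
    (hxb : QuadraticMap.polar (⇑Q) x b = 0) (u : ι → F) (hu : u ∈ perp Q {x, y})
    (hbu : QuadraticMap.polar (⇑Q) b u = 0) :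
    ∃ s₁ s₂ s₃ : ι → F,
      (s₁ ∈ perp Q {x, y} ∧ Q s₁ = 0 ∧ QuadraticMap.polar (⇑Q) b s₁ = 0) ∧
      (s₂ ∈ perp Q {x, y} ∧ Q s₂ = 0 ∧ QuadraticMap.polar (⇑Q) b s₂ = 0) ∧
      (s₃ ∈ perp Q {x, y} ∧ Q s₃ = 0 ∧ QuadraticMap.polar (⇑Q) b s₃ = 0) ∧
      u = s₁ + s₂ + s₃ := by
  obtain ⟨e, f, he, hf, hef, heD, hfD, hbe, hbf⟩ := exists_hyp_pair_D Q hQ h3 x y b hx hy hxy
    hb hxb
  obtain ⟨s, hsA, hs, a, c, hz⟩ := exists_sing_decomp Q (perp Q {x, y} ⊓ perp Q {b}) e f he hf
    hef (Submodule.mem_inf.mpr ⟨heD, (mem_perp_singleton Q b e).mpr hbe⟩)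
    (Submodule.mem_inf.mpr ⟨hfD, (mem_perp_singleton Q b f).mpr hbf⟩) u
    (Submodule.mem_inf.mpr ⟨hu, (mem_perp_singleton Q b u).mpr hbu⟩)
  obtain ⟨hsD, hsb⟩ := Submodule.mem_inf.mp hsA
  refine ⟨s, a • e, c • f, ⟨hsD, hs, (mem_perp_singleton Q b s).mp hsb⟩,
    ⟨Submodule.smul_mem _ _ heD, by rw [QuadraticMap.map_smul, he, smul_zero],
      by rw [QuadraticMap.polar_smul_right, hbe, smul_zero]⟩,
    ⟨Submodule.smul_mem _ _ hfD, by rw [QuadraticMap.map_smul, hf, smul_zero],
      by rw [QuadraticMap.polar_smul_right, hbf, smul_zero]⟩, hz⟩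

/-- Two singular vectors of `D` have a common singular neighbour in `D` for the relation
"orthogonal and independent". -/
theorem exists_conn_D (Q : QuadraticForm F (ι → F))
    (hQ : (QuadraticMap.polarBilin Q).Nondegenerate) (h3 : HasTS3 Q) (x y b b' : ι → F)
    (hx : Q x = 0) (hy : Q y = 0) (hxy : QuadraticMap.polar (⇑Q) x y = 1) (hb0 : b ≠ 0)
    (hb : Q b = 0) (hb' : Q b' = 0) (hbD : b ∈ perp Q {x, y}) (hb'D : b' ∈ perp Q {x, y}) :
    ∃ s : ι → F, s ∈ perp Q {x, y} ∧ Q s = 0 ∧ QuadraticMap.polar (⇑Q) b s = 0 ∧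
      QuadraticMap.polar (⇑Q) b' s = 0 ∧ s ∉ Submodule.span F {b} ∧
      s ∉ Submodule.span F {b'} := by
  obtain ⟨hxb, hyb⟩ := (mem_perp_pair Q x y b).mp hbD
  obtain ⟨hxb', hyb'⟩ := (mem_perp_pair Q x y b').mp hb'D
  have hyx : QuadraticMap.polar (⇑Q) y x = 1 := by rw [QuadraticMap.polar_comm]; exact hxy
  have hbx : QuadraticMap.polar (⇑Q) b x = 0 := by rw [QuadraticMap.polar_comm]; exact hxb
  have hb'x : QuadraticMap.polar (⇑Q) b' x = 0 := by rw [QuadraticMap.polar_comm]; exact hxb'
  by_cases hcase : QuadraticMap.polar (⇑Q) b b' ≠ 0 ∨ b' ∈ Submodule.span F {b}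
  · obtain ⟨e, he, heW, heN⟩ := exists_singular_orth_of_ts Q hQ h3 (Submodule.span F {x, b})
      (isTS_span_pair Q x b hx hb hxb) (finrank_span_pair_le x b)
    have hxe : QuadraticMap.polar (⇑Q) x e = 0 := heW x (Submodule.subset_span (by simp))
    have hbe : QuadraticMap.polar (⇑Q) b e = 0 := heW b (Submodule.subset_span (by simp))
    obtain ⟨c, hc⟩ : ∃ c, c = QuadraticMap.polar (⇑Q) y e := ⟨_, rfl⟩
    obtain ⟨d, hd⟩ : ∃ d, d = QuadraticMap.polar (⇑Q) b' e / QuadraticMap.polar (⇑Q) b' b :=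
      ⟨_, rfl⟩
    have hd' : QuadraticMap.polar (⇑Q) b' e - d * QuadraticMap.polar (⇑Q) b' b = 0 := by
      rcases hcase with h | h
      · have h' : QuadraticMap.polar (⇑Q) b' b ≠ 0 := by rw [QuadraticMap.polar_comm]; exact h
        rw [hd, div_mul_cancel₀ _ h', sub_self]
      · have hb'e : QuadraticMap.polar (⇑Q) b' e = 0 := by
          obtain ⟨t, ht⟩ := Submodule.mem_span_singleton.mp h
          rw [← ht, QuadraticMap.polar_smul_left, hbe, smul_zero]
        rw [hd, hb'e, zero_div, zero_mul, sub_zero]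
    obtain ⟨s, hs⟩ : ∃ s, s = e - c • x - d • b := ⟨_, rfl⟩
    have pol : ∀ a : ι → F, QuadraticMap.polar (⇑Q) a s = QuadraticMap.polar (⇑Q) a e
        - c * QuadraticMap.polar (⇑Q) a x - d * QuadraticMap.polar (⇑Q) a b := by
      intro a
      rw [hs, QuadraticMap.polar_sub_right, QuadraticMap.polar_sub_right,
        QuadraticMap.polar_smul_right, QuadraticMap.polar_smul_right, smul_eq_mul, smul_eq_mul]
    have hsb : s ∉ Submodule.span F {b} := by
      intro h
      obtain ⟨t, ht⟩ := Submodule.mem_span_singleton.mp h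
      apply heN
      have e1 : e = c • x + (t + d) • b := by
        have : e = s + c • x + d • b := by rw [hs]; abel
        rw [this, ← ht, add_smul]
        abel
      rw [e1]
      exact Submodule.add_mem _ (Submodule.smul_mem _ _ (Submodule.subset_span (by simp)))
        (Submodule.smul_mem _ _ (Submodule.subset_span (by simp)))
    have hbs : QuadraticMap.polar (⇑Q) b s = 0 := by
      rw [pol, hbe, hbx, polar_self', hb]; ring
    refine ⟨s, ?_, ?_, hbs, ?_, hsb, ?_⟩
    · rw [mem_perp_pair]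
      constructor
      · rw [pol, hxe, polar_self', hx, hxb]; ring
      · rw [pol, ← hc, hyx, hyb]; ring
    · rw [hs, Q_sub_smul, Q_sub_smul, he, hx, hb, hxe, QuadraticMap.polar_sub_right,
        QuadraticMap.polar_smul_right, hbe, hbx]
      simp
    · rw [pol, hb'x, mul_zero, sub_zero]
      exact hd'
    · intro h
      obtain ⟨t, ht⟩ := Submodule.mem_span_singleton.mp h
      rcases hcase with h' | h'
      · have e1 : QuadraticMap.polar (⇑Q) b s = t * QuadraticMap.polar (⇑Q) b b' := by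
          rw [← ht, QuadraticMap.polar_smul_right, smul_eq_mul]
        rw [hbs] at e1
        have ht0 : t = 0 := by
          rcases mul_eq_zero.mp e1.symm with h0 | h0
          · exact h0
          · exact absurd h0 h'
        apply hsb
        rw [← ht, ht0, zero_smul]
        exact Submodule.zero_mem _
      · apply hsb
        rw [← ht]
        exact Submodule.smul_mem _ _ h'
  · push Not at hcase
    obtain ⟨h1, h2⟩ := hcase
    refine ⟨b + b', Submodule.add_mem _ hbD hb'D, ?_, ?_, ?_, ?_, ?_⟩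
    · rw [Q_add', hb, hb', h1]; ring
    · rw [QuadraticMap.polar_add_right, polar_self', hb, h1]; ring
    · rw [QuadraticMap.polar_add_right, QuadraticMap.polar_comm (⇑Q) b' b, h1, polar_self', hb']
      ring
    · intro h
      obtain ⟨t, ht⟩ := Submodule.mem_span_singleton.mp h
      apply h2
      rw [Submodule.mem_span_singleton]
      exact ⟨t - 1, by rw [sub_smul, one_smul, ht]; abel⟩
    · intro h
      obtain ⟨t, ht⟩ := Submodule.mem_span_singleton.mp h
      have h3' : b ∈ Submodule.span F {b'} :=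
        Submodule.mem_span_singleton.mpr ⟨t - 1, by rw [sub_smul, one_smul, ht]; abel⟩
      exact not_mem_span_symm hb0 h2 h3'

/-- A singular non-zero vector of `D` has a hyperbolic partner in `D`. -/
theorem exists_partner_D (Q : QuadraticForm F (ι → F))
    (hQ : (QuadraticMap.polarBilin Q).Nondegenerate) (x y e : ι → F) (hx : Q x = 0)
    (hy : Q y = 0) (hxy : QuadraticMap.polar (⇑Q) x y = 1) (he0 : e ≠ 0) (he : Q e = 0)
    (heD : e ∈ perp Q {x, y}) :
    ∃ f : ι → F, f ∈ perp Q {x, y} ∧ Q f = 0 ∧ QuadraticMap.polar (⇑Q) e f = 1 := by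
  obtain ⟨hxe, hye⟩ := (mem_perp_pair Q x y e).mp heD
  have heW : ∀ a ∈ Submodule.span F {x, y}, QuadraticMap.polar (⇑Q) a e = 0 := by
    intro a ha
    obtain ⟨c, d, rfl⟩ := Submodule.mem_span_pair.mp ha
    rw [QuadraticMap.polar_add_left, QuadraticMap.polar_smul_left, QuadraticMap.polar_smul_left,
      hxe, hye]
    simp
  have hne : e ∉ Submodule.span F {x, y} := by
    intro h
    obtain ⟨c, d, hcd⟩ := Submodule.mem_span_pair.mp h
    have h1 : QuadraticMap.polar (⇑Q) x (c • x + d • y) = d := by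
      rw [QuadraticMap.polar_add_right, QuadraticMap.polar_smul_right,
        QuadraticMap.polar_smul_right, polar_self', hx, hxy]
      simp
    have h2 : QuadraticMap.polar (⇑Q) y (c • x + d • y) = c := by
      rw [QuadraticMap.polar_add_right, QuadraticMap.polar_smul_right,
        QuadraticMap.polar_smul_right, QuadraticMap.polar_comm (⇑Q) y x, hxy, polar_self', hy]
      simp
    rw [hcd] at h1 h2
    apply he0
    rw [← hcd, ← h1, ← h2, hxe, hye]
    simp
  obtain ⟨f, hf, hfW, hef⟩ := exists_partner_orth Q hQ (Submodule.span F {x, y}) e he heW hne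
  exact ⟨f, (mem_perp_pair Q x y f).mpr ⟨hfW x (Submodule.subset_span (by simp)),
    hfW y (Submodule.subset_span (by simp))⟩, hf, hef⟩

end

end Cfsg.Agent.H49
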