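import Mathlib
import Cfsg.Agent.H49.AutD

set_option autoImplicit false
set_option linter.unusedSectionVars false
set_option linter.unusedSimpArgs false
set_option linter.unusedVariables false

/-! Helper lemmas (helper49): an additive map of `D = ⟨x, y⟩^⊥` commuting with the Siegel
transformations of `D` is a scalar; consequences for additive maps normalising them. -/

namespace Cfsg.Agent.H49

open Module Matrix

section
variable {ι : Type} [Fintype ι] [DecidableEq ι] {F : Type*} [Field F]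

/-- Schur's lemma for the Siegel transformations of `D`. -/
theorem schur_D (Q : QuadraticForm F (ι → F))
    (hQ : (QuadraticMap.polarBilin Q).Nondegenerate) (h3 : HasTS3 Q) (x y : ι → F)
    (hx : Q x = 0) (hy : Q y = 0) (hxy : QuadraticMap.polar (⇑Q) x y = 1)
    (θ : (ι → F) → (ι → F)) (hθD : ∀ v ∈ perp Q {x, y}, θ v ∈ perp Q {x, y})
    (hadd : ∀ u ∈ perp Q {x, y}, ∀ v ∈ perp Q {x, y}, θ (u + v) = θ u + θ v)
    (hcomm : ∀ (a b : ι → F) (ha : Q a = 0) (hb : Q b = 0)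
      (hab : QuadraticMap.polar (⇑Q) a b = 0), a ∈ perp Q {x, y} → b ∈ perp Q {x, y} →
      ∀ v ∈ perp Q {x, y}, θ (act (siegelG Q a b ha hb hab 1) v)
        = act (siegelG Q a b ha hb hab 1) (θ v)) :
    ∃ c₀ : F, ∀ v ∈ perp Q {x, y}, θ v = c₀ • v := by
  have hyx : QuadraticMap.polar (⇑Q) y x = 1 := by rw [QuadraticMap.polar_comm]; exact hxy
  have hθ0 : θ 0 = 0 := by
    have := hadd 0 (Submodule.zero_mem _) 0 (Submodule.zero_mem _)
    rw [add_zero] at this
    exact left_eq_add.mp this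
  have key1 : ∀ b ∈ perp Q {x, y}, Q b = 0 → b ≠ 0 → ∃ c : F, θ b = c • b := by
    intro b hbD hb hb0
    obtain ⟨hxb, hyb⟩ := (mem_perp_pair Q x y b).mp hbD
    have hperp1 : ∀ c ∈ perp Q {x, y}, Q c = 0 → QuadraticMap.polar (⇑Q) b c = 0 →
        c ∉ Submodule.span F {b} →
        QuadraticMap.polar (⇑Q) b (θ b) = 0 ∧ QuadraticMap.polar (⇑Q) c (θ b) = 0 := by
      intro c hcD hc hbc hcb
      have h1 := hcomm b c hb hc hbc hbD hcD b hbD
      have e1 : act (siegelG Q b c hb hc hbc 1) b = b := by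
        rw [act_siegelG, polar_self', hb, QuadraticMap.polar_comm (⇑Q) c b, hbc]
        simp
      rw [e1, act_siegelG, one_smul] at h1
      have h2 : QuadraticMap.polar (⇑Q) b (θ b) • c - QuadraticMap.polar (⇑Q) c (θ b) • b = 0 :=
        left_eq_add.mp h1
      exact eq_zero_of_smul_sub hb0 hcb _ _ h2
    obtain ⟨s, hsD, hs, hbs, -, hsb, -⟩ := exists_conn_D Q hQ h3 x y b b hx hy hxy hb0 hb hb
      hbD hbD
    have hbθ : QuadraticMap.polar (⇑Q) b (θ b) = 0 := (hperp1 s hsD hs hbs hsb).1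
    have hsing : ∀ c ∈ perp Q {x, y}, Q c = 0 → QuadraticMap.polar (⇑Q) b c = 0 →
        QuadraticMap.polar (⇑Q) c (θ b) = 0 := by
      intro c hcD hc hbc
      by_cases hcb : c ∈ Submodule.span F {b}
      · obtain ⟨t, rfl⟩ := Submodule.mem_span_singleton.mp hcb
        rw [QuadraticMap.polar_smul_left, hbθ, smul_zero]
      · exact (hperp1 c hcD hc hbc hcb).2
    have hall : ∀ u ∈ perp Q {x, y}, QuadraticMap.polar (⇑Q) b u = 0 →
        QuadraticMap.polar (⇑Q) u (θ b) = 0 := by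
      intro u huD hbu
      obtain ⟨s₁, s₂, s₃, ⟨h1D, h1Q, h1b⟩, ⟨h2D, h2Q, h2b⟩, ⟨h3D, h3Q, h3b⟩, rfl⟩ :=
        exists_sing_decomp_D Q hQ h3 x y b hx hy hxy hb hxb u huD hbu
      rw [QuadraticMap.polar_add_left, QuadraticMap.polar_add_left, hsing s₁ h1D h1Q h1b,
        hsing s₂ h2D h2Q h2b, hsing s₃ h3D h3Q h3b]
      simp
    have hmem : θ b ∈ Submodule.span F {x, y} ⊔ Submodule.span F {b} := by
      apply mem_of_perp_perp Q hQ
      intro z hz
      have hzx : QuadraticMap.polar (⇑Q) x z = 0 :=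
        hz x (Submodule.mem_sup_left (Submodule.subset_span (by simp)))
      have hzy : QuadraticMap.polar (⇑Q) y z = 0 :=
        hz y (Submodule.mem_sup_left (Submodule.subset_span (by simp)))
      have hzb : QuadraticMap.polar (⇑Q) b z = 0 :=
        hz b (Submodule.mem_sup_right (Submodule.mem_span_singleton_self b))
      exact hall z ((mem_perp_pair Q x y z).mpr ⟨hzx, hzy⟩) hzb
    obtain ⟨w, hw, w', hw', hsum⟩ := Submodule.mem_sup.mp hmem
    obtain ⟨a₁, a₂, rfl⟩ := Submodule.mem_span_pair.mp hw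
    obtain ⟨c, rfl⟩ := Submodule.mem_span_singleton.mp hw'
    obtain ⟨hxθ, hyθ⟩ := (mem_perp_pair Q x y (θ b)).mp (hθD b hbD)
    rw [← hsum] at hxθ hyθ
    rw [QuadraticMap.polar_add_right, QuadraticMap.polar_add_right,
      QuadraticMap.polar_smul_right, QuadraticMap.polar_smul_right,
      QuadraticMap.polar_smul_right, polar_self', hx, hxy, hxb] at hxθ
    rw [QuadraticMap.polar_add_right, QuadraticMap.polar_add_right,
      QuadraticMap.polar_smul_right, QuadraticMap.polar_smul_right,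
      QuadraticMap.polar_smul_right, polar_self', hy, hyx, hyb] at hyθ
    have ha₂ : a₂ = 0 := by simpa using hxθ
    have ha₁ : a₁ = 0 := by simpa using hyθ
    refine ⟨c, ?_⟩
    rw [← hsum, ha₁, ha₂]
    simp
  have key2 : ∀ b ∈ perp Q {x, y}, ∀ s ∈ perp Q {x, y}, Q b = 0 → Q s = 0 → b ≠ 0 →
      QuadraticMap.polar (⇑Q) b s = 0 → s ∉ Submodule.span F {b} → ∀ c c' : F,
      θ b = c • b → θ s = c' • s → c = c' := by
    intro b hbD s hsD hb hs hb0 hbs hsb c c' hc hc'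
    have hbs0 : b + s ≠ 0 := by
      intro h
      apply hsb
      rw [Submodule.mem_span_singleton]
      exact ⟨-1, by rw [neg_smul, one_smul]; exact (eq_neg_of_add_eq_zero_right h).symm⟩
    obtain ⟨c'', h''⟩ := key1 (b + s) (Submodule.add_mem _ hbD hsD)
      (by rw [Q_add', hb, hs, hbs]; ring) hbs0
    rw [hadd b hbD s hsD, hc, hc'] at h''
    have h2 : (c' - c'') • s - (c'' - c) • b = 0 := by
      have e : (c' - c'') • s - (c'' - c) • b = (c • b + c' • s) - c'' • (b + s) := by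
        rw [sub_smul, sub_smul, smul_add]
        abel
      rw [e, h'', sub_self]
    obtain ⟨e1, e2⟩ := eq_zero_of_smul_sub hb0 hsb _ _ h2
    rw [← sub_eq_zero.mp e2, sub_eq_zero.mp e1]
  obtain ⟨e₀, f₀, he₀, hf₀, hef₀, he₀D, hf₀D, -, -⟩ := exists_hyp_pair_D Q hQ h3 x y 0 hx hy hxy
    (map_zero _) (QuadraticMap.polar_zero_right _ _)
  have he₀0 : e₀ ≠ 0 := by
    rintro rfl
    rw [QuadraticMap.polar_zero_left] at hef₀
    exact zero_ne_one hef₀
  obtain ⟨c₀, hc₀⟩ := key1 e₀ he₀D he₀ he₀0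
  have key3 : ∀ b ∈ perp Q {x, y}, Q b = 0 → θ b = c₀ • b := by
    intro b hbD hb
    by_cases hb0 : b = 0
    · rw [hb0, hθ0, smul_zero]
    · obtain ⟨c, hc⟩ := key1 b hbD hb hb0
      obtain ⟨s, hsD, hs, hbs, he₀s, hsb, hse₀⟩ := exists_conn_D Q hQ h3 x y b e₀ hx hy hxy hb0
        hb he₀ hbD he₀D
      have hs0 : s ≠ 0 := by
        rintro rfl
        exact hsb (Submodule.zero_mem _)
      obtain ⟨c', hc'⟩ := key1 s hsD hs hs0
      have e1 := key2 b hbD s hsD hb hs hb0 hbs hsb c c' hc hc'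
      have e2 := key2 e₀ he₀D s hsD he₀ hs he₀0 he₀s hse₀ c₀ c' hc₀ hc'
      rw [hc, e1, ← e2]
  refine ⟨c₀, fun v hv => ?_⟩
  obtain ⟨s₁, s₂, s₃, ⟨h1D, h1Q, -⟩, ⟨h2D, h2Q, -⟩, ⟨h3D, h3Q, -⟩, rfl⟩ :=
    exists_sing_decomp_D Q hQ h3 x y 0 hx hy hxy (map_zero _) (QuadraticMap.polar_zero_right _ _)
      v hv (QuadraticMap.polar_zero_left _ _)
  rw [hadd _ (Submodule.add_mem _ h1D h2D) _ h3D, hadd _ h1D _ h2D, key3 s₁ h1D h1Q,
    key3 s₂ h2D h2Q, key3 s₃ h3D h3Q, smul_add, smul_add]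

/-- An additive bijection of `D` intertwining each Siegel transformation of `D` with a linear
map is semilinear. -/
theorem semilinear_D [Finite F] (Q : QuadraticForm F (ι → F))
    (hQ : (QuadraticMap.polarBilin Q).Nondegenerate) (h3 : HasTS3 Q) (x y : ι → F)
    (hx : Q x = 0) (hy : Q y = 0) (hxy : QuadraticMap.polar (⇑Q) x y = 1)
    (φ φ' : (ι → F) → (ι → F)) (hφD : ∀ v ∈ perp Q {x, y}, φ v ∈ perp Q {x, y})
    (hφ'D : ∀ v ∈ perp Q {x, y}, φ' v ∈ perp Q {x, y})
    (hadd : ∀ u ∈ perp Q {x, y}, ∀ v ∈ perp Q {x, y}, φ (u + v) = φ u + φ v)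
    (hinv : ∀ v ∈ perp Q {x, y}, φ (φ' v) = v) (hinv' : ∀ v ∈ perp Q {x, y}, φ' (φ v) = v)
    (hlevi : ∀ (a b : ι → F) (ha : Q a = 0) (hb : Q b = 0)
      (hab : QuadraticMap.polar (⇑Q) a b = 0), a ∈ perp Q {x, y} → b ∈ perp Q {x, y} →
      ∃ lm : (ι → F) → (ι → F), (∀ v ∈ perp Q {x, y}, lm v ∈ perp Q {x, y}) ∧
        (∀ (k : F) (v : ι → F), lm (k • v) = k • lm v) ∧
        ∀ v ∈ perp Q {x, y}, act (siegelG Q a b ha hb hab 1) (φ v) = φ (lm v)) :
    ∃ σ : F ≃+* F, ∀ (k : F), ∀ v ∈ perp Q {x, y}, φ (k • v) = σ k • φ v := by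
  have hφ0 : φ 0 = 0 := by
    have := hadd 0 (Submodule.zero_mem _) 0 (Submodule.zero_mem _)
    rw [add_zero] at this
    exact left_eq_add.mp this
  have hadd' : ∀ u ∈ perp Q {x, y}, ∀ v ∈ perp Q {x, y}, φ' (u + v) = φ' u + φ' v := by
    intro u hu v hv
    have h1 := hinv' (φ' u + φ' v) (Submodule.add_mem _ (hφ'D u hu) (hφ'D v hv))
    rw [hadd _ (hφ'D u hu) _ (hφ'D v hv), hinv u hu, hinv v hv] at h1
    exact h1
  have hsc : ∀ k : F, ∃ c : F, ∀ w ∈ perp Q {x, y}, φ (k • φ' w) = c • w := by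
    intro k
    apply schur_D Q hQ h3 x y hx hy hxy (fun w => φ (k • φ' w))
    · intro v hv
      exact hφD _ (Submodule.smul_mem _ _ (hφ'D v hv))
    · intro u hu v hv
      show φ (k • φ' (u + v)) = φ (k • φ' u) + φ (k • φ' v)
      rw [hadd' u hu v hv, smul_add, hadd _ (Submodule.smul_mem _ _ (hφ'D u hu)) _
        (Submodule.smul_mem _ _ (hφ'D v hv))]
    · intro a b ha hb hab haD hbD w hw
      obtain ⟨lm, hlmD, hlmk, hlm⟩ := hlevi a b ha hb hab haD hbD
      show φ (k • φ' (act (siegelG Q a b ha hb hab 1) w))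
        = act (siegelG Q a b ha hb hab 1) (φ (k • φ' w))
      have e1 : act (siegelG Q a b ha hb hab 1) w = φ (lm (φ' w)) := by
        rw [← hlm _ (hφ'D w hw), hinv w hw]
      rw [e1, hinv' _ (hlmD _ (hφ'D w hw)), hlm _ (Submodule.smul_mem _ _ (hφ'D w hw)), hlmk]
  choose σf hσf using hsc
  have hσ : ∀ (k : F), ∀ v ∈ perp Q {x, y}, φ (k • v) = σf k • φ v := by
    intro k v hv
    have := hσf k (φ v) (hφD v hv)
    rwa [hinv' v hv] at this
  obtain ⟨e₀, f₀, he₀, hf₀, hef₀, he₀D, hf₀D, -, -⟩ := exists_hyp_pair_D Q hQ h3 x y 0 hx hy hxy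
    (map_zero _) (QuadraticMap.polar_zero_right _ _)
  have he₀0 : e₀ ≠ 0 := by
    rintro rfl
    rw [QuadraticMap.polar_zero_left] at hef₀
    exact zero_ne_one hef₀
  have hφe : φ e₀ ≠ 0 := by
    intro h
    apply he₀0
    have h1 := hinv' e₀ he₀D
    rw [h] at h1
    have h2 := hinv' 0 (Submodule.zero_mem _)
    rw [hφ0] at h2
    rw [← h1, h2]
  have hinj : ∀ a b : F, a • φ e₀ = b • φ e₀ → a = b := by
    intro a b hab
    by_contra hne
    apply hφe
    have h1 : (a - b) • φ e₀ = 0 := by rw [sub_smul, hab, sub_self]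
    rcases smul_eq_zero.mp h1 with h | h
    · exact absurd (sub_eq_zero.mp h) hne
    · exact h
  have hσadd : ∀ k l : F, σf (k + l) = σf k + σf l := by
    intro k l
    apply hinj
    rw [← hσ (k + l) e₀ he₀D, add_smul, hadd _ (Submodule.smul_mem _ _ he₀D) _
      (Submodule.smul_mem _ _ he₀D), hσ k e₀ he₀D, hσ l e₀ he₀D, add_smul]
  have hσmul : ∀ k l : F, σf (k * l) = σf k * σf l := by
    intro k l
    apply hinj
    rw [← hσ (k * l) e₀ he₀D, mul_smul, hσ k _ (Submodule.smul_mem _ _ he₀D), hσ l e₀ he₀D,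
      mul_smul]
  have hσone : σf 1 = 1 := by
    apply hinj
    rw [← hσ 1 e₀ he₀D, one_smul, one_smul]
  have hσzero : σf 0 = 0 := by
    have := hσadd 0 0
    rw [add_zero] at this
    exact left_eq_add.mp this
  obtain ⟨σh, hσh⟩ : ∃ σh : F →+* F, ∀ k, σh k = σf k :=
    ⟨{ toFun := σf, map_one' := hσone, map_mul' := hσmul, map_zero' := hσzero,
       map_add' := hσadd }, fun k => rfl⟩
  have hbij : Function.Bijective σh :=
    ⟨σh.injective, Finite.injective_iff_surjective.mp σh.injective⟩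
  refine ⟨RingEquiv.ofBijective σh hbij, fun k v hv => ?_⟩
  rw [RingEquiv.ofBijective_apply, hσh]
  exact hσ k v hv

end

end Cfsg.Agent.H49
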