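import Mathlib
import Cfsg.Agent.H49.AutSchur

set_option autoImplicit false
set_option linter.unusedSectionVars false
set_option linter.unusedSimpArgs false
set_option linter.unusedVariables false

/-! Helper lemmas (helper49): a semilinear bijection of `D = ⟨x, y⟩^⊥` preserving singular
vectors is a semisimilarity of `D`. -/

namespace Cfsg.Agent.H49

open Module Matrix

section
variable {ι : Type} [Fintype ι] [DecidableEq ι] {F : Type*} [Field F]

theorem similarity_D (Q : QuadraticForm F (ι → F))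
    (hQ : (QuadraticMap.polarBilin Q).Nondegenerate) (h3 : HasTS3 Q) (x y : ι → F)
    (hx : Q x = 0) (hy : Q y = 0) (hxy : QuadraticMap.polar (⇑Q) x y = 1) (σ : F ≃+* F)
    (φ φ' : (ι → F) → (ι → F)) (hφD : ∀ v ∈ perp Q {x, y}, φ v ∈ perp Q {x, y})
    (hφ'D : ∀ v ∈ perp Q {x, y}, φ' v ∈ perp Q {x, y})
    (hadd : ∀ u ∈ perp Q {x, y}, ∀ v ∈ perp Q {x, y}, φ (u + v) = φ u + φ v)
    (hsmul : ∀ (k : F), ∀ v ∈ perp Q {x, y}, φ (k • v) = σ k • φ v)
    (hinv : ∀ v ∈ perp Q {x, y}, φ (φ' v) = v)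
    (hsing : ∀ v ∈ perp Q {x, y}, Q v = 0 → Q (φ v) = 0) :
    ∃ μ : F, μ ≠ 0 ∧ ∀ v ∈ perp Q {x, y}, Q (φ v) = μ * σ (Q v) := by
  have hφ0 : φ 0 = 0 := by
    have := hadd 0 (Submodule.zero_mem _) 0 (Submodule.zero_mem _)
    rw [add_zero] at this
    exact left_eq_add.mp this
  have claimA : ∀ e ∈ perp Q {x, y}, Q e = 0 → ∀ z ∈ perp Q {x, y},
      QuadraticMap.polar (⇑Q) e z = 0 → QuadraticMap.polar (⇑Q) (φ e) (φ z) = 0 := by
    intro e heD he z hzD hez
    have hxe : QuadraticMap.polar (⇑Q) x e = 0 := ((mem_perp_pair Q x y e).mp heD).1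
    have hsg : ∀ s ∈ perp Q {x, y}, Q s = 0 → QuadraticMap.polar (⇑Q) e s = 0 →
        QuadraticMap.polar (⇑Q) (φ e) (φ s) = 0 := by
      intro s hsD hs hes
      have h1 := hsing (e + s) (Submodule.add_mem _ heD hsD) (by rw [Q_add', he, hs, hes]; ring)
      rw [hadd e heD s hsD, Q_add', hsing e heD he, hsing s hsD hs] at h1
      simpa using h1
    obtain ⟨s₁, s₂, s₃, ⟨h1D, h1Q, h1b⟩, ⟨h2D, h2Q, h2b⟩, ⟨h3D, h3Q, h3b⟩, rfl⟩ :=
      exists_sing_decomp_D Q hQ h3 x y e hx hy hxy he hxe z hzD hez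
    rw [hadd _ (Submodule.add_mem _ h1D h2D) _ h3D, hadd _ h1D _ h2D,
      QuadraticMap.polar_add_right, QuadraticMap.polar_add_right, hsg s₁ h1D h1Q h1b,
      hsg s₂ h2D h2Q h2b, hsg s₃ h3D h3Q h3b]
    simp
  have claimB : ∀ e ∈ perp Q {x, y}, Q e = 0 → ∀ f ∈ perp Q {x, y},
      QuadraticMap.polar (⇑Q) e f = 1 → ∀ z ∈ perp Q {x, y},
      QuadraticMap.polar (⇑Q) (φ e) (φ z)
        = σ (QuadraticMap.polar (⇑Q) e z) * QuadraticMap.polar (⇑Q) (φ e) (φ f) := by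
    intro e heD he f hfD hef z hzD
    obtain ⟨k, hk⟩ : ∃ k, k = QuadraticMap.polar (⇑Q) e z := ⟨_, rfl⟩
    have hz₀D : z - k • f ∈ perp Q {x, y} :=
      Submodule.sub_mem _ hzD (Submodule.smul_mem _ _ hfD)
    have hez₀ : QuadraticMap.polar (⇑Q) e (z - k • f) = 0 := by
      rw [QuadraticMap.polar_sub_right, QuadraticMap.polar_smul_right, hef, hk]
      simp
    have h1 := claimA e heD he (z - k • f) hz₀D hez₀
    have hz : z = (z - k • f) + k • f := by abel
    have h2 : φ z = φ (z - k • f) + σ k • φ f := by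
      conv_lhs => rw [hz]
      rw [hadd _ hz₀D _ (Submodule.smul_mem _ _ hfD), hsmul k f hfD]
    rw [h2, QuadraticMap.polar_add_right, h1, QuadraticMap.polar_smul_right, zero_add,
      smul_eq_mul, ← hk]
  have claimB2 : ∀ e ∈ perp Q {x, y}, ∀ e' ∈ perp Q {x, y}, Q e = 0 → Q e' = 0 →
      QuadraticMap.polar (⇑Q) e e' ≠ 0 → ∀ f ∈ perp Q {x, y}, ∀ f' ∈ perp Q {x, y},
      QuadraticMap.polar (⇑Q) e f = 1 → QuadraticMap.polar (⇑Q) e' f' = 1 →
      QuadraticMap.polar (⇑Q) (φ e) (φ f) = QuadraticMap.polar (⇑Q) (φ e') (φ f') := by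
    intro e heD e' he'D he he' hee' f hfD f' hf'D hef he'f'
    have h1 := claimB e heD he f hfD hef e' he'D
    have h2 := claimB e' he'D he' f' hf'D he'f' e heD
    rw [QuadraticMap.polar_comm (⇑Q) (φ e') (φ e), h1, QuadraticMap.polar_comm (⇑Q) e' e] at h2
    have hne : σ (QuadraticMap.polar (⇑Q) e e') ≠ 0 := by
      intro h
      exact hee' ((map_eq_zero σ).mp h)
    exact mul_left_cancel₀ hne h2
  obtain ⟨e₀, f₀, he₀, hf₀, hef₀, he₀D, hf₀D, -, -⟩ := exists_hyp_pair_D Q hQ h3 x y 0 hx hy hxy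
    (map_zero _) (QuadraticMap.polar_zero_right _ _)
  have he₀0 : e₀ ≠ 0 := by
    rintro rfl
    rw [QuadraticMap.polar_zero_left] at hef₀
    exact zero_ne_one hef₀
  obtain ⟨hxe₀, hye₀⟩ := (mem_perp_pair Q x y e₀).mp he₀D
  obtain ⟨μ, hμ⟩ : ∃ μ, μ = QuadraticMap.polar (⇑Q) (φ e₀) (φ f₀) := ⟨_, rfl⟩
  have hyx : QuadraticMap.polar (⇑Q) y x = 1 := by rw [QuadraticMap.polar_comm]; exact hxy
  have claimM : ∀ e ∈ perp Q {x, y}, Q e = 0 → e ≠ 0 → ∀ f ∈ perp Q {x, y},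
      QuadraticMap.polar (⇑Q) e f = 1 → QuadraticMap.polar (⇑Q) (φ e) (φ f) = μ := by
    intro e heD he he0 f hfD hef
    by_cases hee₀ : QuadraticMap.polar (⇑Q) e e₀ ≠ 0
    · rw [hμ]
      exact claimB2 e heD e₀ he₀D he he₀ hee₀ f hfD f₀ hf₀D hef hef₀
    · push Not at hee₀
      obtain ⟨hxe, hye⟩ := (mem_perp_pair Q x y e).mp heD
      obtain ⟨s, hs, hes, hse₀⟩ := exists_common_nbr Q hQ h3 e e₀ he0 he₀0 he he₀
      obtain ⟨a, ha⟩ : ∃ a, a = QuadraticMap.polar (⇑Q) y s := ⟨_, rfl⟩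
      obtain ⟨b, hb⟩ : ∃ b, b = QuadraticMap.polar (⇑Q) x s := ⟨_, rfl⟩
      obtain ⟨t, ht⟩ : ∃ t, t = (a * b) / QuadraticMap.polar (⇑Q) s e₀ := ⟨_, rfl⟩
      have ht' : t * QuadraticMap.polar (⇑Q) s e₀ = a * b := by
        rw [ht, div_mul_cancel₀ _ hse₀]
      obtain ⟨g, hg⟩ : ∃ g, g = s - a • x - b • y + t • e₀ := ⟨_, rfl⟩
      have pol : ∀ w : ι → F, QuadraticMap.polar (⇑Q) w g = QuadraticMap.polar (⇑Q) w s
          - a * QuadraticMap.polar (⇑Q) w x - b * QuadraticMap.polar (⇑Q) w y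
          + t * QuadraticMap.polar (⇑Q) w e₀ := by
        intro w
        rw [hg, QuadraticMap.polar_add_right, QuadraticMap.polar_sub_right,
          QuadraticMap.polar_sub_right, QuadraticMap.polar_smul_right,
          QuadraticMap.polar_smul_right, QuadraticMap.polar_smul_right, smul_eq_mul,
          smul_eq_mul, smul_eq_mul]
      have hgD : g ∈ perp Q {x, y} := by
        rw [mem_perp_pair]
        constructor
        · rw [pol, polar_self', hx, hxy, hxe₀, ← hb]; ring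
        · rw [pol, hyx, polar_self', hy, hye₀, ← ha]; ring
      have hQg : Q g = 0 := by
        have e1 : Q (s - a • x - b • y) = -(a * b) := by
          rw [Q_sub_smul, Q_sub_smul, hs, hx, hy, QuadraticMap.polar_sub_right,
            QuadraticMap.polar_smul_right, hyx, ← ha, ← hb]
          simp only [smul_eq_mul]
          ring
        have e2 : QuadraticMap.polar (⇑Q) (s - a • x - b • y) (t • e₀) = a * b := by
          rw [QuadraticMap.polar_smul_right, QuadraticMap.polar_sub_left,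
            QuadraticMap.polar_sub_left, QuadraticMap.polar_smul_left,
            QuadraticMap.polar_smul_left, hxe₀, hye₀, smul_eq_mul, smul_zero, smul_zero, sub_zero,
            sub_zero, ht']
        rw [hg, Q_add', e1, e2, QuadraticMap.map_smul, he₀]
        simp
      have heg : QuadraticMap.polar (⇑Q) e g ≠ 0 := by
        rw [pol, QuadraticMap.polar_comm (⇑Q) e x, hxe, QuadraticMap.polar_comm (⇑Q) e y, hye,
          hee₀]
        simpa using hes
      have hge₀ : QuadraticMap.polar (⇑Q) g e₀ ≠ 0 := by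
        have h1 : QuadraticMap.polar (⇑Q) e₀ x = 0 := by rw [QuadraticMap.polar_comm]; exact hxe₀
        have h2 : QuadraticMap.polar (⇑Q) e₀ y = 0 := by rw [QuadraticMap.polar_comm]; exact hye₀
        rw [QuadraticMap.polar_comm, pol, h1, h2, polar_self', he₀,
          QuadraticMap.polar_comm (⇑Q) e₀ s]
        simpa using hse₀
      have hg0 : g ≠ 0 := by
        intro h
        rw [h, QuadraticMap.polar_zero_right] at heg
        exact heg rfl
      obtain ⟨g', hg'D, hg', hgg'⟩ := exists_partner_D Q hQ x y g hx hy hxy hg0 hQg hgD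
      have h1 := claimB2 e heD g hgD he hQg heg f hfD g' hg'D hef hgg'
      have h2 := claimB2 g hgD e₀ he₀D hQg he₀ hge₀ g' hg'D f₀ hf₀D hgg' hef₀
      rw [h1, h2, hμ]
  have claimC1 : ∀ e ∈ perp Q {x, y}, Q e = 0 → ∀ z ∈ perp Q {x, y},
      QuadraticMap.polar (⇑Q) (φ e) (φ z) = μ * σ (QuadraticMap.polar (⇑Q) e z) := by
    intro e heD he z hzD
    by_cases he0 : e = 0
    · rw [he0, hφ0, QuadraticMap.polar_zero_left, QuadraticMap.polar_zero_left, map_zero,
        mul_zero]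
    · obtain ⟨f, hfD, hf, hef⟩ := exists_partner_D Q hQ x y e hx hy hxy he0 he heD
      rw [claimB e heD he f hfD hef z hzD, claimM e heD he he0 f hfD hef, mul_comm]
  have claimC2 : ∀ u ∈ perp Q {x, y}, ∀ z ∈ perp Q {x, y},
      QuadraticMap.polar (⇑Q) (φ u) (φ z) = μ * σ (QuadraticMap.polar (⇑Q) u z) := by
    intro u huD z hzD
    obtain ⟨s₁, s₂, s₃, ⟨h1D, h1Q, -⟩, ⟨h2D, h2Q, -⟩, ⟨h3D, h3Q, -⟩, rfl⟩ :=
      exists_sing_decomp_D Q hQ h3 x y 0 hx hy hxy (map_zero _)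
        (QuadraticMap.polar_zero_right _ _) u huD (QuadraticMap.polar_zero_left _ _)
    rw [hadd _ (Submodule.add_mem _ h1D h2D) _ h3D, hadd _ h1D _ h2D,
      QuadraticMap.polar_add_left, QuadraticMap.polar_add_left, claimC1 s₁ h1D h1Q z hzD,
      claimC1 s₂ h2D h2Q z hzD, claimC1 s₃ h3D h3Q z hzD, QuadraticMap.polar_add_left,
      QuadraticMap.polar_add_left, map_add, map_add]
    ring
  refine ⟨μ, ?_, ?_⟩
  · intro hμ0
    have h1 := claimC2 (φ' e₀) (hφ'D e₀ he₀D) (φ' f₀) (hφ'D f₀ hf₀D)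
    rw [hinv e₀ he₀D, hinv f₀ hf₀D, hef₀, hμ0, zero_mul] at h1
    exact one_ne_zero h1
  · intro v hvD
    obtain ⟨s₁, s₂, s₃, ⟨h1D, h1Q, -⟩, ⟨h2D, h2Q, -⟩, ⟨h3D, h3Q, -⟩, rfl⟩ :=
      exists_sing_decomp_D Q hQ h3 x y 0 hx hy hxy (map_zero _)
        (QuadraticMap.polar_zero_right _ _) v hvD (QuadraticMap.polar_zero_left _ _)
    rw [hadd _ (Submodule.add_mem _ h1D h2D) _ h3D, hadd _ h1D _ h2D, Q_add', Q_add',
      QuadraticMap.polar_add_left, hsing s₁ h1D h1Q, hsing s₂ h2D h2Q, hsing s₃ h3D h3Q,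
      claimC1 s₁ h1D h1Q s₂ h2D, claimC1 s₁ h1D h1Q s₃ h3D, claimC1 s₂ h2D h2Q s₃ h3D,
      Q_add', Q_add', QuadraticMap.polar_add_left, h1Q, h2Q, h3Q]
    simp only [zero_add, add_zero, map_add]
    ring

end

end Cfsg.Agent.H49
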