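import Mathlib
import Cfsg.Agent.H49.SimKer

set_option autoImplicit false
set_option linter.unusedSectionVars false

/-! Helper lemmas (helper49): automorphisms of `PΩ(Q)` induced by semisimilarities. Every element
of the subgroup they generate is induced by a single semisimilarity, and a semisimilarity
inducing the identity has trivial field automorphism. -/

namespace Cfsg.Agent.H49

open Module Matrix

section
variable {ι : Type} [Fintype ι] [DecidableEq ι] {F : Type*} [Field F]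

theorem sigma_mulVec (σ : F ≃+* F) (M : Matrix ι ι F) (v : ι → F) :
    (M.map σ) *ᵥ (fun i => σ (v i)) = fun i => σ ((M *ᵥ v) i) := by
  funext i
  exact (RingHom.map_mulVec (σ : F →+* F) M v i).symm

theorem glMap_val (σ : F ≃+* F) (g : Matrix.GeneralLinearGroup ι F) :
    ((Matrix.GeneralLinearGroup.map (σ : F →+* F) g : Matrix.GeneralLinearGroup ι F) :
      Matrix ι ι F) = (g : Matrix ι ι F).map σ := rfl

theorem pair_one (Qf : (ι → F) → F) :
    Cfsg.IsSemisimilarityPair Qf (1 : Matrix.GeneralLinearGroup ι F) (RingEquiv.refl F) := by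
  refine ⟨1, fun v => ?_⟩
  simp

theorem pair_mul {Qf : (ι → F) → F} {g₁ g₂ : Matrix.GeneralLinearGroup ι F} {σ₁ σ₂ : F ≃+* F}
    (h₁ : Cfsg.IsSemisimilarityPair Qf g₁ σ₁) (h₂ : Cfsg.IsSemisimilarityPair Qf g₂ σ₂) :
    Cfsg.IsSemisimilarityPair Qf (g₁ * Matrix.GeneralLinearGroup.map (σ₁ : F →+* F) g₂)
      (σ₂.trans σ₁) := by
  obtain ⟨c₁, hc₁⟩ := h₁
  obtain ⟨c₂, hc₂⟩ := h₂
  refine ⟨c₁ * Units.map (σ₁ : F →* F) c₂, fun v => ?_⟩
  have e : ((g₁ * Matrix.GeneralLinearGroup.map (σ₁ : F →+* F) g₂ :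
      Matrix.GeneralLinearGroup ι F) : Matrix ι ι F) *ᵥ (fun i => (σ₂.trans σ₁) (v i))
      = (g₁ : Matrix ι ι F) *ᵥ (fun i => σ₁ (((g₂ : Matrix ι ι F) *ᵥ fun j => σ₂ (v j)) i)) := by
    rw [Units.val_mul, ← Matrix.mulVec_mulVec, glMap_val, ← sigma_mulVec]
    rfl
  rw [e, hc₁, hc₂, map_mul, Units.val_mul, mul_assoc]
  rfl

theorem pair_inv {Qf : (ι → F) → F} {g : Matrix.GeneralLinearGroup ι F} {σ : F ≃+* F}
    (h : Cfsg.IsSemisimilarityPair Qf g σ) :
    Cfsg.IsSemisimilarityPair Qf (Matrix.GeneralLinearGroup.map (σ.symm : F →+* F) g⁻¹)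
      σ.symm := by
  obtain ⟨c, hc⟩ := h
  refine ⟨Units.map (σ.symm : F →* F) c⁻¹, fun v => ?_⟩
  obtain ⟨w, hw⟩ : ∃ w : ι → F, w = fun i => σ.symm ((((g⁻¹ : Matrix.GeneralLinearGroup ι F) :
      Matrix ι ι F) *ᵥ v) i) := ⟨_, rfl⟩
  have e : ((Matrix.GeneralLinearGroup.map (σ.symm : F →+* F) g⁻¹ :
      Matrix.GeneralLinearGroup ι F) : Matrix ι ι F) *ᵥ (fun i => σ.symm (v i)) = w := by
    rw [glMap_val, sigma_mulVec, hw]
  have e2 : (g : Matrix ι ι F) *ᵥ (fun i => σ (w i)) = v := by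
    rw [hw]
    simp only [RingEquiv.apply_symm_apply]
    rw [Matrix.mulVec_mulVec, ← Units.val_mul, mul_inv_cancel, Units.val_one, Matrix.one_mulVec]
  have h1 := hc w
  rw [e2] at h1
  rw [e, h1, map_mul, RingEquiv.symm_apply_apply]
  show Qf w = σ.symm ((c⁻¹ : Fˣ) : F) * (σ.symm (c : F) * Qf w)
  rw [← mul_assoc, ← map_mul, ← Units.val_mul, inv_mul_cancel, Units.val_one, map_one, one_mul]

/-- Conjugation by a semisimilarity preserves the isometry group. -/
theorem semi_conj_mem {Qf : (ι → F) → F} {g : Matrix.GeneralLinearGroup ι F} {σ : F ≃+* F}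
    (h : Cfsg.IsSemisimilarityPair Qf g σ) {s : Matrix.GeneralLinearGroup ι F}
    (hs : s ∈ Cfsg.isometryGroup F Qf) :
    g * Matrix.GeneralLinearGroup.map (σ : F →+* F) s * g⁻¹ ∈ Cfsg.isometryGroup F Qf := by
  obtain ⟨c, hc⟩ := h
  rw [mem_isometryGroup_iff] at hs ⊢
  intro u
  obtain ⟨w, hw⟩ : ∃ w : ι → F, w = fun i => σ.symm ((((g⁻¹ : Matrix.GeneralLinearGroup ι F) :
      Matrix ι ι F) *ᵥ u) i) := ⟨_, rfl⟩
  have e2 : (g : Matrix ι ι F) *ᵥ (fun i => σ (w i)) = u := by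
    rw [hw]
    simp only [RingEquiv.apply_symm_apply]
    rw [Matrix.mulVec_mulVec, ← Units.val_mul, mul_inv_cancel, Units.val_one, Matrix.one_mulVec]
  have e : ((g * Matrix.GeneralLinearGroup.map (σ : F →+* F) s * g⁻¹ :
      Matrix.GeneralLinearGroup ι F) : Matrix ι ι F) *ᵥ u
      = (g : Matrix ι ι F) *ᵥ (fun i => σ (((s : Matrix ι ι F) *ᵥ w) i)) := by
    rw [Units.val_mul, Units.val_mul, ← Matrix.mulVec_mulVec, ← Matrix.mulVec_mulVec, glMap_val,
      ← sigma_mulVec]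
    congr 2
    rw [hw]
    simp only [RingEquiv.apply_symm_apply]
  rw [e, hc, hs, ← hc, e2]

/-- Conjugation by a semisimilarity, as an endomorphism of the isometry group. -/
def semiConjHom (Qf : (ι → F) → F) (g : Matrix.GeneralLinearGroup ι F) (σ : F ≃+* F)
    (h : Cfsg.IsSemisimilarityPair Qf g σ) :
    ↥(Cfsg.isometryGroup F Qf) →* ↥(Cfsg.isometryGroup F Qf) :=
  MonoidHom.mk' (fun s => ⟨g * Matrix.GeneralLinearGroup.map (σ : F →+* F) s.1 * g⁻¹,
    semi_conj_mem h s.2⟩) (by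
    intro a b
    apply Subtype.ext
    show g * Matrix.GeneralLinearGroup.map (σ : F →+* F) (a.1 * b.1) * g⁻¹
      = (g * Matrix.GeneralLinearGroup.map (σ : F →+* F) a.1 * g⁻¹)
        * (g * Matrix.GeneralLinearGroup.map (σ : F →+* F) b.1 * g⁻¹)
    rw [map_mul]
    group)

theorem semiConjHom_coe (Qf : (ι → F) → F) (g : Matrix.GeneralLinearGroup ι F) (σ : F ≃+* F)
    (h : Cfsg.IsSemisimilarityPair Qf g σ) (s : ↥(Cfsg.isometryGroup F Qf)) :
    ((semiConjHom Qf g σ h s : ↥(Cfsg.isometryGroup F Qf)) : Matrix.GeneralLinearGroup ι F)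
      = g * Matrix.GeneralLinearGroup.map (σ : F →+* F) s.1 * g⁻¹ := rfl

/-- The image of an element of `Ω` under conjugation by a semisimilarity, in `Ω`. -/
def semiConjOmega (Qf : (ι → F) → F) (g : Matrix.GeneralLinearGroup ι F) (σ : F ≃+* F)
    (h : Cfsg.IsSemisimilarityPair Qf g σ) :
    ↥(Cfsg.Omega F Qf) →* ↥(Cfsg.Omega F Qf) :=
  MonoidHom.mk' (fun s => ⟨semiConjHom Qf g σ h s.1,
    map_mem_commutator (semiConjHom Qf g σ h) s.2⟩) (by
    intro a b
    apply Subtype.ext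
    show semiConjHom Qf g σ h (a.1 * b.1) = semiConjHom Qf g σ h a.1 * semiConjHom Qf g σ h b.1
    rw [map_mul])

theorem semiConjOmega_coe (Qf : (ι → F) → F) (g : Matrix.GeneralLinearGroup ι F) (σ : F ≃+* F)
    (h : Cfsg.IsSemisimilarityPair Qf g σ) (s : ↥(Cfsg.Omega F Qf)) :
    (((semiConjOmega Qf g σ h s : ↥(Cfsg.Omega F Qf)) : ↥(Cfsg.isometryGroup F Qf)) :
      Matrix.GeneralLinearGroup ι F)
      = g * Matrix.GeneralLinearGroup.map (σ : F →+* F) s.1.1 * g⁻¹ := rfl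

theorem induced_semiConj {Qf : (ι → F) → F} {g : Matrix.GeneralLinearGroup ι F} {σ : F ≃+* F}
    (h : Cfsg.IsSemisimilarityPair Qf g σ) {β : Cfsg.POmega F Qf ≃* Cfsg.POmega F Qf}
    (hi : Cfsg.IsInducedBySemilinearPOmega Qf g σ β) (s : ↥(Cfsg.Omega F Qf)) :
    β (QuotientGroup.mk s) = QuotientGroup.mk (semiConjOmega Qf g σ h s) := by
  apply hi s (semiConjOmega Qf g σ h s)
  rw [semiConjOmega_coe, Units.val_mul, Units.val_mul, glMap_val]

theorem induced_one (Qf : (ι → F) → F) :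
    Cfsg.IsInducedBySemilinearPOmega Qf (1 : Matrix.GeneralLinearGroup ι F) (RingEquiv.refl F)
      (1 : MulAut (Cfsg.POmega F Qf)) := by
  intro s s' hss'
  have e : s' = s := by
    apply Subtype.ext
    apply Subtype.ext
    apply Units.ext
    rw [hss']
    simp
  rw [e]
  rfl

theorem induced_mul {Qf : (ι → F) → F} {g₁ g₂ : Matrix.GeneralLinearGroup ι F}
    {σ₁ σ₂ : F ≃+* F} {β₁ β₂ : MulAut (Cfsg.POmega F Qf)}
    (h₁ : Cfsg.IsInducedBySemilinearPOmega Qf g₁ σ₁ β₁)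
    (h₂ : Cfsg.IsInducedBySemilinearPOmega Qf g₂ σ₂ β₂)
    (hp₂ : Cfsg.IsSemisimilarityPair Qf g₂ σ₂) :
    Cfsg.IsInducedBySemilinearPOmega Qf (g₁ * Matrix.GeneralLinearGroup.map (σ₁ : F →+* F) g₂)
      (σ₂.trans σ₁) (β₁ * β₂) := by
  intro s s' hss'
  rw [MulAut.mul_apply, induced_semiConj hp₂ h₂ s]
  apply h₁ (semiConjOmega Qf g₂ σ₂ hp₂ s) s'
  rw [hss', semiConjOmega_coe]
  have e : (g₁ : Matrix ι ι F)
      * ((g₂ * Matrix.GeneralLinearGroup.map (σ₂ : F →+* F) s.1.1 * g₂⁻¹ :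
          Matrix.GeneralLinearGroup ι F) : Matrix ι ι F).map σ₁
      * ((g₁⁻¹ : Matrix.GeneralLinearGroup ι F) : Matrix ι ι F)
      = ((g₁ * Matrix.GeneralLinearGroup.map (σ₁ : F →+* F)
          (g₂ * Matrix.GeneralLinearGroup.map (σ₂ : F →+* F) s.1.1 * g₂⁻¹) * g₁⁻¹ :
          Matrix.GeneralLinearGroup ι F) : Matrix ι ι F) := by
    simp only [Units.val_mul, glMap_val]
  have e' : ((g₁ * Matrix.GeneralLinearGroup.map (σ₁ : F →+* F) g₂ :
        Matrix.GeneralLinearGroup ι F) : Matrix ι ι F)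
      * (((s : ↥(Cfsg.isometryGroup F Qf)) : Matrix.GeneralLinearGroup ι F) : Matrix ι ι F).map
          (σ₂.trans σ₁)
      * (((g₁ * Matrix.GeneralLinearGroup.map (σ₁ : F →+* F) g₂)⁻¹ :
          Matrix.GeneralLinearGroup ι F) : Matrix ι ι F)
      = ((g₁ * Matrix.GeneralLinearGroup.map (σ₁ : F →+* F) g₂
          * Matrix.GeneralLinearGroup.map (σ₁ : F →+* F)
            (Matrix.GeneralLinearGroup.map (σ₂ : F →+* F) s.1.1)
          * (g₁ * Matrix.GeneralLinearGroup.map (σ₁ : F →+* F) g₂)⁻¹ :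
          Matrix.GeneralLinearGroup ι F) : Matrix ι ι F) := by
    rw [Units.val_mul, Units.val_mul]
    congr 2
  rw [e, e']
  congr 1
  rw [map_mul, map_mul, map_inv]
  group

theorem induced_inv {Qf : (ι → F) → F} {g : Matrix.GeneralLinearGroup ι F} {σ : F ≃+* F}
    {β : MulAut (Cfsg.POmega F Qf)} (h : Cfsg.IsInducedBySemilinearPOmega Qf g σ β) :
    Cfsg.IsInducedBySemilinearPOmega Qf (Matrix.GeneralLinearGroup.map (σ.symm : F →+* F) g⁻¹)
      σ.symm β⁻¹ := by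
  intro s s' hss'
  have h1 : β (QuotientGroup.mk s') = QuotientGroup.mk s := by
    apply h s' s
    rw [hss']
    have e : ((Matrix.GeneralLinearGroup.map (σ.symm : F →+* F) g⁻¹ :
          Matrix.GeneralLinearGroup ι F) : Matrix ι ι F)
        * (((s : ↥(Cfsg.isometryGroup F Qf)) : Matrix.GeneralLinearGroup ι F) :
            Matrix ι ι F).map σ.symm
        * (((Matrix.GeneralLinearGroup.map (σ.symm : F →+* F) g⁻¹)⁻¹ :
          Matrix.GeneralLinearGroup ι F) : Matrix ι ι F)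
        = ((Matrix.GeneralLinearGroup.map (σ.symm : F →+* F) (g⁻¹ * s.1.1 * g) :
          Matrix.GeneralLinearGroup ι F) : Matrix ι ι F) := by
      rw [map_mul, map_mul, Units.val_mul, Units.val_mul, glMap_val, glMap_val, ← map_inv,
        inv_inv]
    rw [e]
    have e2 : (((Matrix.GeneralLinearGroup.map (σ.symm : F →+* F) (g⁻¹ * s.1.1 * g) :
          Matrix.GeneralLinearGroup ι F) : Matrix ι ι F)).map σ
        = ((g⁻¹ * s.1.1 * g : Matrix.GeneralLinearGroup ι F) : Matrix ι ι F) := by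
      ext i j
      exact σ.apply_symm_apply _
    rw [e2, ← Units.val_mul, ← Units.val_mul]
    congr 1
    group
  show β.symm (QuotientGroup.mk s) = QuotientGroup.mk s'
  rw [MulEquiv.symm_apply_eq]
  exact h1.symm

/-- Every element of the subgroup generated by the semisimilarity-induced automorphisms is
induced by a semisimilarity. -/
theorem exists_pair_of_mem_gamma (Qf : (ι → F) → F) (β : MulAut (Cfsg.POmega F Qf))
    (hβ : β ∈ Cfsg.gammaPOmega F Qf) :
    ∃ (g : Matrix.GeneralLinearGroup ι F) (σ : F ≃+* F), Cfsg.IsSemisimilarityPair Qf g σ ∧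
      Cfsg.IsInducedBySemilinearPOmega Qf g σ β := by
  unfold Cfsg.gammaPOmega Cfsg.autSubgroupOf at hβ
  induction hβ using Subgroup.closure_induction with
  | mem x hx => exact hx
  | one => exact ⟨1, RingEquiv.refl F, pair_one Qf, induced_one Qf⟩
  | mul x y _ _ hx hy =>
    obtain ⟨g₁, σ₁, p₁, i₁⟩ := hx
    obtain ⟨g₂, σ₂, p₂, i₂⟩ := hy
    exact ⟨_, _, pair_mul p₁ p₂, induced_mul i₁ i₂ p₂⟩
  | inv x _ hx =>
    obtain ⟨g, σ, p, i⟩ := hx
    exact ⟨_, _, pair_inv p, induced_inv i⟩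

end

end Cfsg.Agent.H49
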