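import Mathlib
import Cfsg.Agent.H49.AutSimil
import Cfsg.Agent.H49.SemiAut

set_option autoImplicit false
set_option linter.unusedSectionVars false
set_option linter.unusedSimpArgs false
set_option linter.unusedVariables false

/-! Helper lemmas (helper49): the semisimilarity of the whole space extending a semisimilarity
of `D = ⟨x, y⟩^⊥`, the automorphism of `PΩ` it induces, and its effect on Eichler
transformations. -/

namespace Cfsg.Agent.H49

open Module Matrix

section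
variable {ι : Type} [Fintype ι] [DecidableEq ι] {F : Type*} [Field F]

/-- The semilinear extension to the whole space of a semisimilarity `φ` of `D`. -/
def g0 (Q : QuadraticForm F (ι → F)) (x y : ι → F) (σ : F ≃+* F) (μ : F)
    (φ : (ι → F) → (ι → F)) (z : ι → F) : ι → F :=
  σ (QuadraticMap.polar (⇑Q) y z) • (μ • x) + σ (QuadraticMap.polar (⇑Q) x z) • y
    + φ (piD Q x y z)

theorem Q_hyp_decomp (Q : QuadraticForm F (ι → F)) (x y w : ι → F) (hx : Q x = 0)
    (hy : Q y = 0) (hxy : QuadraticMap.polar (⇑Q) x y = 1) (hw : w ∈ perp Q {x, y}) (a b : F) :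
    Q (a • x + b • y + w) = a * b + Q w := by
  obtain ⟨h1, h2⟩ := (mem_perp_pair Q x y w).mp hw
  rw [Q_add', Q_add', QuadraticMap.map_smul, QuadraticMap.map_smul, hx, hy,
    QuadraticMap.polar_add_left, QuadraticMap.polar_smul_left, QuadraticMap.polar_smul_left,
    QuadraticMap.polar_smul_left, QuadraticMap.polar_smul_right, hxy, h1, h2]
  simp only [smul_eq_mul, mul_zero, zero_add, add_zero, mul_one]

theorem Q_eq_piD (Q : QuadraticForm F (ι → F)) (x y z : ι → F) (hx : Q x = 0)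
    (hy : Q y = 0) (hxy : QuadraticMap.polar (⇑Q) x y = 1) :
    Q z = QuadraticMap.polar (⇑Q) y z * QuadraticMap.polar (⇑Q) x z + Q (piD Q x y z) := by
  conv_lhs => rw [piD_decomp Q x y z]
  exact Q_hyp_decomp Q x y _ hx hy hxy (piD_mem Q x y z hx hy hxy) _ _

section g0lemmas
variable (Q : QuadraticForm F (ι → F)) (x y : ι → F) (σ : F ≃+* F) (μ : F)
  (φ : (ι → F) → (ι → F)) (hx : Q x = 0) (hy : Q y = 0)
  (hxy : QuadraticMap.polar (⇑Q) x y = 1)
  (hφD : ∀ v ∈ perp Q {x, y}, φ v ∈ perp Q {x, y})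
  (hadd : ∀ u ∈ perp Q {x, y}, ∀ v ∈ perp Q {x, y}, φ (u + v) = φ u + φ v)
  (hsmul : ∀ (k : F), ∀ v ∈ perp Q {x, y}, φ (k • v) = σ k • φ v)
  (hQφ : ∀ v ∈ perp Q {x, y}, Q (φ v) = μ * σ (Q v))

include hx hy hxy hadd in
theorem g0_add (u v : ι → F) :
    g0 Q x y σ μ φ (u + v) = g0 Q x y σ μ φ u + g0 Q x y σ μ φ v := by
  unfold g0
  rw [QuadraticMap.polar_add_right, QuadraticMap.polar_add_right, map_add, map_add, piD_add,
    hadd _ (piD_mem Q x y u hx hy hxy) _ (piD_mem Q x y v hx hy hxy), add_smul, add_smul]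
  abel

include hx hy hxy hsmul in
theorem g0_smul (k : F) (v : ι → F) :
    g0 Q x y σ μ φ (k • v) = σ k • g0 Q x y σ μ φ v := by
  unfold g0
  rw [QuadraticMap.polar_smul_right, QuadraticMap.polar_smul_right, smul_eq_mul, smul_eq_mul,
    map_mul, map_mul, piD_smul, hsmul k _ (piD_mem Q x y v hx hy hxy)]
  simp only [smul_add, smul_smul, mul_assoc]

include hx hy hxy hadd hsmul in
theorem g0_sub (u v : ι → F) :
    g0 Q x y σ μ φ (u - v) = g0 Q x y σ μ φ u - g0 Q x y σ μ φ v := by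
  have e : u - v = u + (-1 : F) • v := by rw [neg_smul, one_smul, sub_eq_add_neg]
  rw [e, g0_add Q x y σ μ φ hx hy hxy hadd, g0_smul Q x y σ μ φ hx hy hxy hsmul, map_neg,
    map_one, neg_smul, one_smul, sub_eq_add_neg]

include hx hy hxy hφD hQφ in
theorem Q_g0 (z : ι → F) : Q (g0 Q x y σ μ φ z) = μ * σ (Q z) := by
  unfold g0
  rw [smul_smul, Q_hyp_decomp Q x y _ hx hy hxy (hφD _ (piD_mem Q x y z hx hy hxy)),
    hQφ _ (piD_mem Q x y z hx hy hxy), Q_eq_piD Q x y z hx hy hxy, map_add, map_mul]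
  ring

include hx hy hxy hφD hQφ hadd in
theorem polar_g0 (u v : ι → F) :
    QuadraticMap.polar (⇑Q) (g0 Q x y σ μ φ u) (g0 Q x y σ μ φ v)
      = μ * σ (QuadraticMap.polar (⇑Q) u v) := by
  simp only [QuadraticMap.polar]
  rw [← g0_add Q x y σ μ φ hx hy hxy hadd, Q_g0 Q x y σ μ φ hx hy hxy hφD hQφ,
    Q_g0 Q x y σ μ φ hx hy hxy hφD hQφ, Q_g0 Q x y σ μ φ hx hy hxy hφD hQφ, map_sub, map_sub]
  ring

include hx hy hxy hadd in
theorem g0_x : g0 Q x y σ μ φ x = μ • x := by
  have hφ0 : φ 0 = 0 := by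
    have := hadd 0 (Submodule.zero_mem _) 0 (Submodule.zero_mem _)
    rw [add_zero] at this
    exact left_eq_add.mp this
  have e : piD Q x y x = 0 := by
    unfold piD
    rw [QuadraticMap.polar_comm (⇑Q) y x, hxy, polar_self', hx]
    simp
  unfold g0
  rw [e, hφ0, QuadraticMap.polar_comm (⇑Q) y x, hxy, polar_self', hx]
  simp

include hx hy hxy hadd in
theorem g0_y : g0 Q x y σ μ φ y = y := by
  have hφ0 : φ 0 = 0 := by
    have := hadd 0 (Submodule.zero_mem _) 0 (Submodule.zero_mem _)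
    rw [add_zero] at this
    exact left_eq_add.mp this
  have e : piD Q x y y = 0 := by
    unfold piD
    rw [hxy, polar_self', hy]
    simp
  unfold g0
  rw [e, hφ0, hxy, polar_self', hy]
  simp

theorem g0_D (v : ι → F) (hv : v ∈ perp Q {x, y}) : g0 Q x y σ μ φ v = φ v := by
  obtain ⟨h1, h2⟩ := (mem_perp_pair Q x y v).mp hv
  unfold g0
  rw [piD_of_mem Q x y v hv, h1, h2]
  simp

include hx hy hxy hφD hQφ hadd in
theorem g0_inj (hQ : (QuadraticMap.polarBilin Q).Nondegenerate) (hμ : μ ≠ 0) (z : ι → F)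
    (hz : g0 Q x y σ μ φ z = 0) : z = 0 := by
  refine hQ.1 z (fun v => ?_)
  show QuadraticMap.polar (⇑Q) z v = 0
  have h1 := polar_g0 Q x y σ μ φ hx hy hxy hφD hadd hQφ z v
  rw [hz, QuadraticMap.polar_zero_left] at h1
  rcases mul_eq_zero.mp h1.symm with h | h
  · exact absurd h hμ
  · exact (map_eq_zero σ).mp h

include hx hy hxy hφD hQφ hadd hsmul in
/-- The matrix of the semisimilarity `g0`. -/
theorem exists_g0_matrix (hQ : (QuadraticMap.polarBilin Q).Nondegenerate) (hμ : μ ≠ 0) :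
    ∃ G : Matrix.GeneralLinearGroup ι F, ∀ z : ι → F,
      (G : Matrix ι ι F) *ᵥ (fun i => σ (z i)) = g0 Q x y σ μ φ z := by
  obtain ⟨Glin, hGlin⟩ : ∃ Glin : (ι → F) →ₗ[F] (ι → F),
      ∀ z, Glin z = g0 Q x y σ μ φ (fun i => σ.symm (z i)) := by
    refine ⟨IsLinearMap.mk' (fun z => g0 Q x y σ μ φ (fun i => σ.symm (z i))) ⟨?_, ?_⟩,
      fun z => rfl⟩
    · intro u v
      have e : (fun i => σ.symm ((u + v) i))
          = (fun i => σ.symm (u i)) + (fun i => σ.symm (v i)) := by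
        funext i
        simp
      show g0 Q x y σ μ φ (fun i => σ.symm ((u + v) i)) = _
      rw [e, g0_add Q x y σ μ φ hx hy hxy hadd]
    · intro k v
      have e : (fun i => σ.symm ((k • v) i)) = σ.symm k • (fun i => σ.symm (v i)) := by
        funext i
        simp
      show g0 Q x y σ μ φ (fun i => σ.symm ((k • v) i)) = _
      rw [e, g0_smul Q x y σ μ φ hx hy hxy hsmul, RingEquiv.apply_symm_apply]
  have hinj : Function.Injective (LinearMap.toMatrix' Glin).mulVec := by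
    intro u v huv
    rw [LinearMap.toMatrix'_mulVec, LinearMap.toMatrix'_mulVec, hGlin, hGlin] at huv
    have h1 : g0 Q x y σ μ φ ((fun i => σ.symm (u i)) - (fun i => σ.symm (v i))) = 0 := by
      rw [g0_sub Q x y σ μ φ hx hy hxy hadd hsmul, huv, sub_self]
    have h2 := g0_inj Q x y σ μ φ hx hy hxy hφD hadd hQφ hQ hμ _ h1
    funext i
    have h3 := congrFun h2 i
    simp only [Pi.sub_apply, Pi.zero_apply, sub_eq_zero] at h3
    exact σ.symm.injective h3
  have hunit : IsUnit (LinearMap.toMatrix' Glin) := Matrix.mulVec_injective_iff_isUnit.mp hinj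
  refine ⟨hunit.unit, fun z => ?_⟩
  rw [IsUnit.unit_spec, LinearMap.toMatrix'_mulVec, hGlin]
  congr 1
  funext i
  simp

end g0lemmas

/-- Conjugation by a semisimilarity, as an automorphism of the isometry group. -/
def semiConjIso (Qf : (ι → F) → F) (g : Matrix.GeneralLinearGroup ι F) (σ : F ≃+* F)
    (h : Cfsg.IsSemisimilarityPair Qf g σ) :
    ↥(Cfsg.isometryGroup F Qf) ≃* ↥(Cfsg.isometryGroup F Qf) where
  toFun := semiConjHom Qf g σ h
  invFun := semiConjHom Qf (Matrix.GeneralLinearGroup.map (σ.symm : F →+* F) g⁻¹) σ.symm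
    (pair_inv h)
  left_inv s := by
    apply Subtype.ext
    have e1 : ∀ t : Matrix.GeneralLinearGroup ι F,
        Matrix.GeneralLinearGroup.map (σ.symm : F →+* F)
          (Matrix.GeneralLinearGroup.map (σ : F →+* F) t) = t := by
      intro t
      apply Units.ext
      ext i j
      exact σ.symm_apply_apply _
    show Matrix.GeneralLinearGroup.map (σ.symm : F →+* F) g⁻¹
      * Matrix.GeneralLinearGroup.map (σ.symm : F →+* F)
          (g * Matrix.GeneralLinearGroup.map (σ : F →+* F) s.1 * g⁻¹)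
      * (Matrix.GeneralLinearGroup.map (σ.symm : F →+* F) g⁻¹)⁻¹ = s.1
    rw [map_mul, map_mul, map_inv, e1]
    group
  right_inv s := by
    apply Subtype.ext
    have e2 : ∀ t : Matrix.GeneralLinearGroup ι F,
        Matrix.GeneralLinearGroup.map (σ : F →+* F)
          (Matrix.GeneralLinearGroup.map (σ.symm : F →+* F) t) = t := by
      intro t
      apply Units.ext
      ext i j
      exact σ.apply_symm_apply _
    show g * Matrix.GeneralLinearGroup.map (σ : F →+* F)
        (Matrix.GeneralLinearGroup.map (σ.symm : F →+* F) g⁻¹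
          * Matrix.GeneralLinearGroup.map (σ.symm : F →+* F) s.1
          * (Matrix.GeneralLinearGroup.map (σ.symm : F →+* F) g⁻¹)⁻¹) * g⁻¹ = s.1
    simp only [map_mul, map_inv, e2]
    group
  map_mul' a b := map_mul (semiConjHom Qf g σ h) a b

theorem semiConjIso_coe (Qf : (ι → F) → F) (g : Matrix.GeneralLinearGroup ι F) (σ : F ≃+* F)
    (h : Cfsg.IsSemisimilarityPair Qf g σ) (s : ↥(Cfsg.isometryGroup F Qf)) :
    ((semiConjIso Qf g σ h s : ↥(Cfsg.isometryGroup F Qf)) : Matrix.GeneralLinearGroup ι F)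
      = g * Matrix.GeneralLinearGroup.map (σ : F →+* F) s.1 * g⁻¹ := rfl

/-- The automorphism of `PΩ` induced by a semisimilarity. -/
def semiAut (Qf : (ι → F) → F) (g : Matrix.GeneralLinearGroup ι F) (σ : F ≃+* F)
    (h : Cfsg.IsSemisimilarityPair Qf g σ) : MulAut (Cfsg.POmega F Qf) :=
  quotCenter (restrictComm (semiConjIso Qf g σ h))

theorem semiAut_mk (Qf : (ι → F) → F) (g : Matrix.GeneralLinearGroup ι F) (σ : F ≃+* F)
    (h : Cfsg.IsSemisimilarityPair Qf g σ) (s : ↥(Cfsg.Omega F Qf)) :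
    semiAut Qf g σ h (QuotientGroup.mk s)
      = QuotientGroup.mk (restrictComm (semiConjIso Qf g σ h) s) :=
  quotCenter_mk _ s

theorem semiAut_induced (Qf : (ι → F) → F) (g : Matrix.GeneralLinearGroup ι F) (σ : F ≃+* F)
    (h : Cfsg.IsSemisimilarityPair Qf g σ) :
    Cfsg.IsInducedBySemilinearPOmega Qf g σ (semiAut Qf g σ h) := by
  intro s s' hss'
  rw [semiAut_mk]
  congr 1
  apply Subtype.ext
  apply Subtype.ext
  apply Units.ext
  rw [hss']
  rfl

theorem semiAut_mem (Qf : (ι → F) → F) (g : Matrix.GeneralLinearGroup ι F) (σ : F ≃+* F)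
    (h : Cfsg.IsSemisimilarityPair Qf g σ) : semiAut Qf g σ h ∈ Cfsg.gammaPOmega F Qf :=
  Subgroup.subset_closure ⟨g, σ, h, semiAut_induced Qf g σ h⟩

/-- Inner automorphisms of `PΩ` are induced by isometries. -/
theorem conj_mem_gamma (Qf : (ι → F) → F) (s : ↥(Cfsg.Omega F Qf)) :
    MulAut.conj (QuotientGroup.mk s : Cfsg.POmega F Qf) ∈ Cfsg.gammaPOmega F Qf := by
  have key : MulAut.conj (QuotientGroup.mk s : Cfsg.POmega F Qf)
      = cAut Qf ⟨s.1.1, isometryGroup_le_sim Qf s.1.2⟩ := by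
    apply MulEquiv.ext
    intro y
    obtain ⟨t, rfl⟩ := QuotientGroup.mk_surjective y
    rw [cAut_mk, MulAut.conj_apply]
    rfl
  rw [key]
  apply Subgroup.subset_closure
  refine ⟨s.1.1, RingEquiv.refl F, ?_, (isInduced_iff Qf ⟨s.1.1, isometryGroup_le_sim Qf s.1.2⟩
    _).mpr rfl⟩
  obtain ⟨c, hc⟩ := isometryGroup_le_sim Qf s.1.2
  exact ⟨c, fun v => hc v⟩

/-- The conjugate of an isometry by a semisimilarity acts as the transported map. -/
theorem semi_conj_act (Qf : (ι → F) → F) (g : Matrix.GeneralLinearGroup ι F) (σ : F ≃+* F)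
    (h : Cfsg.IsSemisimilarityPair Qf g σ) (g₀ : (ι → F) → (ι → F))
    (hg₀ : ∀ z : ι → F, (g : Matrix ι ι F) *ᵥ (fun i => σ (z i)) = g₀ z)
    (s : ↥(Cfsg.isometryGroup F Qf)) (z : ι → F) :
    act (semiConjIso Qf g σ h s) (g₀ z) = g₀ (act s z) := by
  show ((g * Matrix.GeneralLinearGroup.map (σ : F →+* F) s.1 * g⁻¹ :
    Matrix.GeneralLinearGroup ι F) : Matrix ι ι F) *ᵥ (g₀ z) = g₀ (act s z)
  have e : ∀ w : ι → F, ((g⁻¹ : Matrix.GeneralLinearGroup ι F) : Matrix ι ι F)
      *ᵥ ((g : Matrix ι ι F) *ᵥ w) = w := by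
    intro w
    rw [Matrix.mulVec_mulVec, ← Units.val_mul, inv_mul_cancel, Units.val_one,
      Matrix.one_mulVec]
  rw [← hg₀ z, ← hg₀ (act s z), Units.val_mul, Units.val_mul, ← Matrix.mulVec_mulVec,
    ← Matrix.mulVec_mulVec, e, glMap_val, sigma_mulVec]
  rfl

theorem g0_surj (g : Matrix.GeneralLinearGroup ι F) (σ : F ≃+* F) (g₀ : (ι → F) → (ι → F))
    (hg₀ : ∀ z : ι → F, (g : Matrix ι ι F) *ᵥ (fun i => σ (z i)) = g₀ z) (w : ι → F) :
    ∃ z, g₀ z = w := by
  refine ⟨fun i => σ.symm ((((g⁻¹ : Matrix.GeneralLinearGroup ι F) : Matrix ι ι F) *ᵥ w) i),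
    ?_⟩
  rw [← hg₀]
  simp only [RingEquiv.apply_symm_apply]
  rw [Matrix.mulVec_mulVec, ← Units.val_mul, mul_inv_cancel, Units.val_one, Matrix.one_mulVec]

end

end Cfsg.Agent.H49
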