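import Mathlib
import Cfsg.Agent.H49.AutG0

set_option autoImplicit false
set_option linter.unusedSectionVars false
set_option linter.unusedSimpArgs false
set_option linter.unusedVariables false

/-! Helper lemmas (helper49): towards the automorphism theorem for `PΩ`: normalisation of an
automorphism by an inner automorphism, the additive map it induces on `D = ⟨x, y⟩^⊥`, and the
semisimilarity-induced automorphism agreeing with it on `RT x`. -/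

namespace Cfsg.Agent.H49

open Module Matrix

section
variable {ι : Type} [Fintype ι] [DecidableEq ι] {F : Type*} [Field F] [Fintype F]

/-- The effect of a semisimilarity-induced automorphism on Eichler elements. -/
theorem semiAut_eT (Q : QuadraticForm F (ι → F))
    (hQ : (QuadraticMap.polarBilin Q).Nondegenerate) (h3 : HasTS3 Q)
    (g : Matrix.GeneralLinearGroup ι F) (σ : F ≃+* F)
    (hpair : Cfsg.IsSemisimilarityPair (⇑Q) g σ) (g₀ : (ι → F) → (ι → F)) (μ : F) (hμ : μ ≠ 0)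
    (hg₀ : ∀ z : ι → F, (g : Matrix ι ι F) *ᵥ (fun i => σ (z i)) = g₀ z)
    (hadd : ∀ u v, g₀ (u + v) = g₀ u + g₀ v) (hsub : ∀ u v, g₀ (u - v) = g₀ u - g₀ v)
    (hsmul : ∀ (k : F) v, g₀ (k • v) = σ k • g₀ v)
    (hQg : ∀ z, Q (g₀ z) = μ * σ (Q z))
    (hpol : ∀ u v, QuadraticMap.polar (⇑Q) (g₀ u) (g₀ v) = μ * σ (QuadraticMap.polar (⇑Q) u v))
    (p v : ι → F) (hp : Q p = 0) (hpv : QuadraticMap.polar (⇑Q) p v = 0) :
    semiAut (⇑Q) g σ hpair (eT Q hQ h3 p v) = eT Q hQ h3 (g₀ p) (μ⁻¹ • g₀ v) := by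
  have hp' : Q (g₀ p) = 0 := by rw [hQg, hp, map_zero, mul_zero]
  have hpv' : QuadraticMap.polar (⇑Q) (g₀ p) (μ⁻¹ • g₀ v) = 0 := by
    rw [QuadraticMap.polar_smul_right, hpol, hpv, map_zero, mul_zero, smul_zero]
  rw [eT_eq Q hQ h3 p v hp hpv, eT_eq Q hQ h3 _ _ hp' hpv', semiAut_mk]
  congr 1
  apply Subtype.ext
  apply act_ext
  intro w
  obtain ⟨z, rfl⟩ := g0_surj g σ g₀ hg₀ w
  show act (semiConjIso (⇑Q) g σ hpair (eichG Q p v hp hpv)) (g₀ z)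
    = act (eichG Q (g₀ p) (μ⁻¹ • g₀ v) hp' hpv') (g₀ z)
  rw [semi_conj_act (⇑Q) g σ hpair g₀ hg₀, act_eichG, act_eichG, hsub, hsub, hadd, hsmul, hsmul,
    hsmul, hpol, QuadraticMap.polar_smul_left, hpol, QuadraticMap.map_smul, hQg, map_mul]
  funext k
  simp only [Pi.add_apply, Pi.sub_apply, Pi.smul_apply, smul_eq_mul]
  field_simp

theorem conj_RT_iff (Q : QuadraticForm F (ι → F))
    (hQ : (QuadraticMap.polarBilin Q).Nondegenerate) (h3 : HasTS3 Q)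
    (g : ↥(Cfsg.Omega F (⇑Q))) (w : ι → F) (t : Cfsg.POmega F (⇑Q)) :
    t ∈ RT Q hQ h3 w ↔ (QuotientGroup.mk g : Cfsg.POmega F (⇑Q)) * t * (QuotientGroup.mk g)⁻¹
      ∈ RT Q hQ h3 (act g.1 w) := by
  constructor
  · exact conj_RT Q hQ h3 g w t
  · intro h
    have h1 := conj_RT Q hQ h3 g⁻¹ (act g.1 w)
      ((QuotientGroup.mk g : Cfsg.POmega F (⇑Q)) * t * (QuotientGroup.mk g)⁻¹) h
    have e1 : act (g⁻¹ : ↥(Cfsg.Omega F (⇑Q))).1 (act g.1 w) = w := act_inv_act g.1 w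
    rw [e1] at h1
    have e : (QuotientGroup.mk g⁻¹ : Cfsg.POmega F (⇑Q))
        * ((QuotientGroup.mk g : Cfsg.POmega F (⇑Q)) * t * (QuotientGroup.mk g)⁻¹)
        * (QuotientGroup.mk g⁻¹ : Cfsg.POmega F (⇑Q))⁻¹ = t := by
      rw [QuotientGroup.mk_inv]
      group
    rwa [e] at h1

set_option maxHeartbeats 4000000 in
/-- After composing with an inner automorphism, an automorphism stabilises `RT x` and
`RT y`. -/
theorem exists_normalised (Q : QuadraticForm F (ι → F))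
    (hQ : (QuadraticMap.polarBilin Q).Nondegenerate) (h3 : HasTS3 Q)
    (hn : 7 ≤ finrank F (ι → F))
    (h8 : finrank F (ι → F) ≤ 8 → ∀ U : Submodule F (ι → F), IsTS Q U → finrank F U ≤ 3)
    (x y : ι → F) (hx0 : x ≠ 0) (hy0 : y ≠ 0) (hx : Q x = 0) (hy : Q y = 0)
    (hxy : QuadraticMap.polar (⇑Q) x y = 1) (α : MulAut (Cfsg.POmega F (⇑Q))) :
    ∃ g : ↥(Cfsg.Omega F (⇑Q)),
      (∀ t, t ∈ RT Q hQ h3 x ↔ (MulAut.conj (QuotientGroup.mk g : Cfsg.POmega F (⇑Q)) * α) t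
        ∈ RT Q hQ h3 x) ∧
      (∀ t, t ∈ RT Q hQ h3 y ↔ (MulAut.conj (QuotientGroup.mk g : Cfsg.POmega F (⇑Q)) * α) t
        ∈ RT Q hQ h3 y) := by
  obtain ⟨lam, hlam⟩ := exists_lineMap Q hQ h3 α
  obtain ⟨mu, hmu⟩ := exists_lineMap Q hQ h3 α⁻¹
  obtain ⟨x', hx'0, hx', hptx⟩ := exists_pt Q hQ h3 hn h8 hlam hmu x hx0 hx
  obtain ⟨y', hy'0, hy', hpty⟩ := exists_pt Q hQ h3 hn h8 hlam hmu y hy0 hy
  have hx'y' : QuadraticMap.polar (⇑Q) x' y' ≠ 0 :=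
    polar_ne_of_pt Q hQ h3 (lineMap_right_inv hlam hmu) x y x' y' hx0 hx hx'0 hx' hy' hptx hpty
      (by rw [hxy]; exact one_ne_zero)
  have hRx := aut_RT Q hQ h3 hlam hmu x x' hx0 hx hx'0 hx' hptx
  have hRy := aut_RT Q hQ h3 hlam hmu y y' hy0 hy hy'0 hy' hpty
  obtain ⟨s, hs, hx's, hsx⟩ := exists_common_nbr Q hQ h3 x' x hx'0 hx0 hx' hx
  obtain ⟨g₁, hg₁, -, c, hc⟩ := exists_siegel_map Q hQ h3 s x' x hs hx' hx
    (by rw [QuadraticMap.polar_comm]; exact hx's) hsx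
  have hc0 : c ≠ 0 := by
    rintro rfl
    rw [zero_smul] at hc
    exact act_ne_zero g₁ hx'0 hc
  have hQy'' : Q (act g₁ y') = 0 := by rw [Q_act, hy']
  have hy''0 : act g₁ y' ≠ 0 := act_ne_zero g₁ hy'0
  have hxy'' : QuadraticMap.polar (⇑Q) x (act g₁ y') ≠ 0 := by
    intro h
    apply hx'y'
    rw [← polar_act Q g₁ x' y', hc, QuadraticMap.polar_smul_left, h, smul_zero]
  obtain ⟨g₂, hg₂, hg₂x, d, hd⟩ := exists_siegel_map Q hQ h3 x (act g₁ y') y hx hQy'' hy hxy''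
    (by rw [hxy]; exact one_ne_zero)
  have hd0 : d ≠ 0 := by
    rintro rfl
    rw [zero_smul] at hd
    exact act_ne_zero g₂ hy''0 hd
  have hgmem : g₂ * g₁ ∈ commutator ↥(Cfsg.isometryGroup F (⇑Q)) := by
    rw [commutator_eq_closure_siegelSet Q hQ h3]
    exact Subgroup.mul_mem _ hg₂ hg₁
  refine ⟨⟨g₂ * g₁, hgmem⟩, ?_, ?_⟩
  · intro t
    rw [hRx t]
    have e : act (g₂ * g₁) x' = c • x := by rw [act_mul, hc, act_smul, hg₂x]
    have h1 := conj_RT_iff Q hQ h3 ⟨g₂ * g₁, hgmem⟩ x' (α t)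
    rw [show act (⟨g₂ * g₁, hgmem⟩ : ↥(Cfsg.Omega F (⇑Q))).1 x' = c • x from e,
      RT_smul Q hQ h3 x c hc0] at h1
    rw [MulAut.mul_apply, MulAut.conj_apply]
    exact h1
  · intro t
    rw [hRy t]
    have e : act (g₂ * g₁) y' = d • y := by rw [act_mul, hd]
    have h1 := conj_RT_iff Q hQ h3 ⟨g₂ * g₁, hgmem⟩ y' (α t)
    rw [show act (⟨g₂ * g₁, hgmem⟩ : ↥(Cfsg.Omega F (⇑Q))).1 y' = d • y from e,
      RT_smul Q hQ h3 y d hd0] at h1
    rw [MulAut.mul_apply, MulAut.conj_apply]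
    exact h1

/-- The map induced on `D` by an automorphism stabilising `RT x`. -/
theorem exists_phi (Q : QuadraticForm F (ι → F))
    (hQ : (QuadraticMap.polarBilin Q).Nondegenerate) (h3 : HasTS3 Q) (x y : ι → F)
    (hx : Q x = 0) (hxy : QuadraticMap.polar (⇑Q) x y = 1)
    (α : MulAut (Cfsg.POmega F (⇑Q))) (hRx : ∀ t, t ∈ RT Q hQ h3 x → α t ∈ RT Q hQ h3 x) :
    ∃ φ : (ι → F) → (ι → F), (∀ v ∈ perp Q {x, y}, φ v ∈ perp Q {x, y}) ∧
      (∀ v ∈ perp Q {x, y}, α (eT Q hQ h3 x v) = eT Q hQ h3 x (φ v)) := by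
  have key : ∀ v : ι → F, ∃ v' : ι → F, v ∈ perp Q {x, y} →
      (v' ∈ perp Q {x, y} ∧ α (eT Q hQ h3 x v) = eT Q hQ h3 x v') := by
    intro v
    by_cases hv : v ∈ perp Q {x, y}
    · have h1 := hRx _ (eT_mem_RT Q hQ h3 x v hx ((mem_perp_pair Q x y v).mp hv).1)
      rw [mem_RT_iff_D Q hQ h3 x y hx hxy] at h1
      obtain ⟨v', hv', e⟩ := h1
      exact ⟨v', fun _ => ⟨hv', e⟩⟩
    · exact ⟨0, fun h => absurd h hv⟩
  choose φ hφ using key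
  exact ⟨φ, fun v hv => (hφ v hv).1, fun v hv => (hφ v hv).2⟩

theorem phi_add (Q : QuadraticForm F (ι → F))
    (hQ : (QuadraticMap.polarBilin Q).Nondegenerate) (h3 : HasTS3 Q) (x y : ι → F)
    (hx : Q x = 0) (hxy : QuadraticMap.polar (⇑Q) x y = 1)
    (α : MulAut (Cfsg.POmega F (⇑Q))) (φ : (ι → F) → (ι → F))
    (hφD : ∀ v ∈ perp Q {x, y}, φ v ∈ perp Q {x, y})
    (hφ : ∀ v ∈ perp Q {x, y}, α (eT Q hQ h3 x v) = eT Q hQ h3 x (φ v)) :
    ∀ u ∈ perp Q {x, y}, ∀ v ∈ perp Q {x, y}, φ (u + v) = φ u + φ v := by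
  intro u hu v hv
  have hxu := ((mem_perp_pair Q x y u).mp hu).1
  have hxv := ((mem_perp_pair Q x y v).mp hv).1
  have hxu' := ((mem_perp_pair Q x y _).mp (hφD u hu)).1
  have hxv' := ((mem_perp_pair Q x y _).mp (hφD v hv)).1
  apply eT_inj_D Q hQ h3 x y _ _ hx hxy (hφD _ (Submodule.add_mem _ hu hv))
    (Submodule.add_mem _ (hφD u hu) (hφD v hv))
  rw [← hφ _ (Submodule.add_mem _ hu hv), eT_add Q hQ h3 x u v hx hxu hxv, map_mul, hφ u hu,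
    hφ v hv, eT_add Q hQ h3 x _ _ hx hxu' hxv']

theorem phi_inv (Q : QuadraticForm F (ι → F))
    (hQ : (QuadraticMap.polarBilin Q).Nondegenerate) (h3 : HasTS3 Q) (x y : ι → F)
    (hx : Q x = 0) (hxy : QuadraticMap.polar (⇑Q) x y = 1)
    (α β : MulAut (Cfsg.POmega F (⇑Q))) (hαβ : ∀ t, α (β t) = t) (φ φ' : (ι → F) → (ι → F))
    (hφD : ∀ v ∈ perp Q {x, y}, φ v ∈ perp Q {x, y})
    (hφ'D : ∀ v ∈ perp Q {x, y}, φ' v ∈ perp Q {x, y})
    (hφ : ∀ v ∈ perp Q {x, y}, α (eT Q hQ h3 x v) = eT Q hQ h3 x (φ v))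
    (hφ' : ∀ v ∈ perp Q {x, y}, β (eT Q hQ h3 x v) = eT Q hQ h3 x (φ' v)) :
    ∀ w ∈ perp Q {x, y}, φ (φ' w) = w := by
  intro w hw
  apply eT_inj_D Q hQ h3 x y _ _ hx hxy (hφD _ (hφ'D w hw)) hw
  rw [← hφ _ (hφ'D w hw), ← hφ' w hw, hαβ]

end

end Cfsg.Agent.H49
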