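import Mathlib
import Cfsg.Agent.H49.AutEnd1

set_option autoImplicit false
set_option linter.unusedSectionVars false
set_option linter.unusedSimpArgs false
set_option linter.unusedVariables false

/-! Helper lemmas (helper49): towards the automorphism theorem for `PΩ`: the Levi factor
intertwines, singular vectors are preserved, and the semisimilarity-induced automorphism agreeing
with a normalised automorphism on `RT x`. -/

namespace Cfsg.Agent.H49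

open Module Matrix

section
variable {ι : Type} [Fintype ι] [DecidableEq ι] {F : Type*} [Field F] [Fintype F]

omit [Fintype F] in
theorem act_siegelG_of_perp (Q : QuadraticForm F (ι → F)) (a b z : ι → F) (ha : Q a = 0)
    (hb : Q b = 0) (hab : QuadraticMap.polar (⇑Q) a b = 0) (c : F)
    (haz : QuadraticMap.polar (⇑Q) a z = 0) (hbz : QuadraticMap.polar (⇑Q) b z = 0) :
    act (siegelG Q a b ha hb hab c) z = z := by
  rw [act_siegelG, haz, hbz]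
  simp

set_option maxHeartbeats 4000000 in
/-- A Siegel transformation of `D` acts on `φ(D)` as `φ` composed with a linear map. -/
theorem levi_intertwine (Q : QuadraticForm F (ι → F))
    (hQ : (QuadraticMap.polarBilin Q).Nondegenerate) (h3 : HasTS3 Q) (x y : ι → F)
    (hx0 : x ≠ 0) (hy0 : y ≠ 0) (hx : Q x = 0) (hy : Q y = 0)
    (hxy : QuadraticMap.polar (⇑Q) x y = 1) (α : MulAut (Cfsg.POmega F (⇑Q)))
    (hRx : ∀ t, t ∈ RT Q hQ h3 x ↔ α t ∈ RT Q hQ h3 x)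
    (hRy : ∀ t, t ∈ RT Q hQ h3 y ↔ α t ∈ RT Q hQ h3 y)
    (φ : (ι → F) → (ι → F)) (hφD : ∀ v ∈ perp Q {x, y}, φ v ∈ perp Q {x, y})
    (hφ : ∀ v ∈ perp Q {x, y}, α (eT Q hQ h3 x v) = eT Q hQ h3 x (φ v))
    (a b : ι → F) (ha : Q a = 0) (hb : Q b = 0) (hab : QuadraticMap.polar (⇑Q) a b = 0)
    (haD : a ∈ perp Q {x, y}) (hbD : b ∈ perp Q {x, y}) :
    ∃ lm : (ι → F) → (ι → F), (∀ v ∈ perp Q {x, y}, lm v ∈ perp Q {x, y}) ∧
      (∀ (k : F) (v : ι → F), lm (k • v) = k • lm v) ∧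
      ∀ v ∈ perp Q {x, y}, act (siegelG Q a b ha hb hab 1) (φ v) = φ (lm v) := by
  obtain ⟨hxa, hya⟩ := (mem_perp_pair Q x y a).mp haD
  obtain ⟨hxb, hyb⟩ := (mem_perp_pair Q x y b).mp hbD
  have hax : QuadraticMap.polar (⇑Q) a x = 0 := by rw [QuadraticMap.polar_comm]; exact hxa
  have hbx : QuadraticMap.polar (⇑Q) b x = 0 := by rw [QuadraticMap.polar_comm]; exact hxb
  have hay : QuadraticMap.polar (⇑Q) a y = 0 := by rw [QuadraticMap.polar_comm]; exact hya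
  have hby : QuadraticMap.polar (⇑Q) b y = 0 := by rw [QuadraticMap.polar_comm]; exact hyb
  have hfx : act (siegelG Q a b ha hb hab 1) x = x :=
    act_siegelG_of_perp Q a b x ha hb hab 1 hax hbx
  have hfy : act (siegelG Q a b ha hb hab 1) y = y :=
    act_siegelG_of_perp Q a b y ha hb hab 1 hay hby
  obtain ⟨m, hm⟩ : ∃ m : Cfsg.POmega F (⇑Q),
      m = QuotientGroup.mk (sieO Q hQ h3 a b ha hb hab 1) := ⟨_, rfl⟩
  have hmx : ∀ t ∈ RT Q hQ h3 x, m * t * m⁻¹ ∈ RT Q hQ h3 x := by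
    intro t ht
    have h1 := conj_RT Q hQ h3 (sieO Q hQ h3 a b ha hb hab 1) x t ht
    rw [sieO_coe, hfx] at h1
    rw [hm]
    exact h1
  have hmy : ∀ t ∈ RT Q hQ h3 y, m * t * m⁻¹ ∈ RT Q hQ h3 y := by
    intro t ht
    have h1 := conj_RT Q hQ h3 (sieO Q hQ h3 a b ha hb hab 1) y t ht
    rw [sieO_coe, hfy] at h1
    rw [hm]
    exact h1
  obtain ⟨l, hl⟩ : ∃ l : Cfsg.POmega F (⇑Q), l = α⁻¹ m := ⟨_, rfl⟩
  have hαl : α l = m := by rw [hl]; simp
  have hlx : ∀ t ∈ RT Q hQ h3 x, l * t * l⁻¹ ∈ RT Q hQ h3 x := by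
    intro t ht
    rw [hRx, map_mul, map_mul, map_inv, hαl]
    exact hmx _ ((hRx t).mp ht)
  have hly : ∀ t ∈ RT Q hQ h3 y, l * t * l⁻¹ ∈ RT Q hQ h3 y := by
    intro t ht
    rw [hRy, map_mul, map_mul, map_inv, hαl]
    exact hmy _ ((hRy t).mp ht)
  obtain ⟨g, c, hlg, hc0, hgx, hgy⟩ := levi_structure Q hQ h3 x y hx0 hy0 hx hy hxy l hlx hly
  have hgv : ∀ v ∈ perp Q {x, y}, QuadraticMap.polar (⇑Q) x (act g.1 v) = 0 ∧
      QuadraticMap.polar (⇑Q) y (act g.1 v) = 0 := by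
    intro v hv
    obtain ⟨hxv, hyv⟩ := (mem_perp_pair Q x y v).mp hv
    have h1 : QuadraticMap.polar (⇑Q) (c • x) (act g.1 v) = 0 := by
      rw [← hgx, polar_act, hxv]
    have h2 : QuadraticMap.polar (⇑Q) (c⁻¹ • y) (act g.1 v) = 0 := by
      rw [← hgy, polar_act, hyv]
    rw [QuadraticMap.polar_smul_left, smul_eq_mul] at h1 h2
    exact ⟨(mul_eq_zero.mp h1).resolve_left hc0,
      (mul_eq_zero.mp h2).resolve_left (inv_ne_zero hc0)⟩
  have hD : ∀ v ∈ perp Q {x, y}, c • act g.1 v ∈ perp Q {x, y} := by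
    intro v hv
    rw [mem_perp_pair, QuadraticMap.polar_smul_right, QuadraticMap.polar_smul_right,
      (hgv v hv).1, (hgv v hv).2, smul_zero]
    exact ⟨rfl, rfl⟩
  refine ⟨fun v => c • act g.1 v, hD, ?_, ?_⟩
  · intro k v
    show c • act g.1 (k • v) = k • c • act g.1 v
    rw [act_smul, smul_comm]
  · intro v hv
    obtain ⟨hxv, hyv⟩ := (mem_perp_pair Q x y v).mp hv
    obtain ⟨hxφ, hyφ⟩ := (mem_perp_pair Q x y (φ v)).mp (hφD v hv)
    have e1 : l * eT Q hQ h3 x v * l⁻¹ = eT Q hQ h3 x (c • act g.1 v) := by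
      rw [hlg, conj_eT Q hQ h3 g x v hx hxv, hgx,
        eT_smul_left Q hQ h3 x (act g.1 v) c hx (hgv v hv).1]
    have e2 := congrArg α e1
    rw [map_mul, map_mul, map_inv, hαl, hφ v hv, hφ _ (hD v hv), hm,
      conj_eT Q hQ h3 _ x (φ v) hx hxφ, sieO_coe, hfx] at e2
    have hactD : act (siegelG Q a b ha hb hab 1) (φ v) ∈ perp Q {x, y} := by
      rw [mem_perp_pair]
      have p1 := polar_act Q (siegelG Q a b ha hb hab 1) x (φ v)
      have p2 := polar_act Q (siegelG Q a b ha hb hab 1) y (φ v)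
      rw [hfx] at p1
      rw [hfy] at p2
      exact ⟨by rw [p1]; exact hxφ, by rw [p2]; exact hyφ⟩
    exact eT_inj_D Q hQ h3 x y _ _ hx hxy hactD (hφD _ (hD v hv)) e2

set_option maxHeartbeats 4000000 in
/-- The map induced on `D` by an automorphism stabilising `RT x` preserves singular vectors. -/
theorem phi_sing (Q : QuadraticForm F (ι → F))
    (hQ : (QuadraticMap.polarBilin Q).Nondegenerate) (h3 : HasTS3 Q)
    (hn : 7 ≤ finrank F (ι → F))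
    (h8 : finrank F (ι → F) ≤ 8 → ∀ U : Submodule F (ι → F), IsTS Q U → finrank F U ≤ 3)
    (x y : ι → F) (hx0 : x ≠ 0) (hx : Q x = 0) (hxy : QuadraticMap.polar (⇑Q) x y = 1)
    (α : MulAut (Cfsg.POmega F (⇑Q)))
    (hRx : ∀ t, t ∈ RT Q hQ h3 x ↔ α t ∈ RT Q hQ h3 x)
    (φ : (ι → F) → (ι → F)) (hφD : ∀ v ∈ perp Q {x, y}, φ v ∈ perp Q {x, y})
    (hφ : ∀ v ∈ perp Q {x, y}, α (eT Q hQ h3 x v) = eT Q hQ h3 x (φ v))
    (hadd : ∀ u ∈ perp Q {x, y}, ∀ v ∈ perp Q {x, y}, φ (u + v) = φ u + φ v) :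
    ∀ v ∈ perp Q {x, y}, Q v = 0 → Q (φ v) = 0 := by
  obtain ⟨lam, hlam⟩ := exists_lineMap Q hQ h3 α
  obtain ⟨mu, hmu⟩ := exists_lineMap Q hQ h3 α⁻¹
  obtain ⟨x₁, hx₁0, hx₁, hpt⟩ := exists_pt Q hQ h3 hn h8 hlam hmu x hx0 hx
  have hR₁ := aut_RT Q hQ h3 hlam hmu x x₁ hx0 hx hx₁0 hx₁ hpt
  have hsub : RT Q hQ h3 x₁ ⊆ RT Q hQ h3 x := by
    intro t' ht'
    have h1 : α (α⁻¹ t') = t' := by simp
    have h2 : α⁻¹ t' ∈ RT Q hQ h3 x := (hR₁ _).mpr (by rw [h1]; exact ht')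
    have h3' := (hRx _).mp h2
    rwa [h1] at h3'
  have hmem := mem_span_of_RT_subset Q hQ h3 x x₁ hx₁0 hx₁ hsub
  obtain ⟨k, hk⟩ := Submodule.mem_span_singleton.mp hmem
  have hptx : ∀ K : Ln Q, x ∈ K.1 → x ∈ (lam K).1 := by
    intro K hK
    have h1 := (lam K).1.smul_mem k ((hpt K).mp hK)
    rwa [hk] at h1
  have hφ0 : φ 0 = 0 := by
    have := hadd 0 (Submodule.zero_mem _) 0 (Submodule.zero_mem _)
    rw [add_zero] at this
    exact left_eq_add.mp this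
  intro v hvD hv
  by_cases hv0 : v = 0
  · rw [hv0, hφ0, map_zero]
  · obtain ⟨hxv, hyv⟩ := (mem_perp_pair Q x y v).mp hvD
    obtain ⟨hxφ, hyφ⟩ := (mem_perp_pair Q x y (φ v)).mp (hφD v hvD)
    have hvx : v ∉ Submodule.span F {x} := by
      intro h
      obtain ⟨t, ht⟩ := Submodule.mem_span_singleton.mp h
      rw [← ht, QuadraticMap.polar_smul_right, QuadraticMap.polar_comm, hxy, smul_eq_mul,
        mul_one] at hyv
      apply hv0
      rw [← ht, hyv, zero_smul]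
    have h1 : eT Q hQ h3 x v ∈ rootT Q hQ h3 (spanLn Q x v hx0 hvx hx hv hxv) := by
      rw [mem_rootT_spanLn]
      refine ⟨1, ?_⟩
      rw [sieO_eq_eT, one_smul]
    have h2 : α (eT Q hQ h3 x v) ∈ rootT Q hQ h3 (lam (spanLn Q x v hx0 hvx hx hv hxv)) := by
      rw [← hlam]
      exact ⟨_, h1, rfl⟩
    have hxK : x ∈ (lam (spanLn Q x v hx0 hvx hx hv hxv)).1 :=
      hptx _ (Submodule.subset_span (by simp))
    obtain ⟨l', hl', hQl', hxl', hKeq⟩ := exists_basis_ln_of_mem Q hQ _ x hx0 hx hxK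
    rw [hKeq, mem_rootT_spanLn, hφ v hvD] at h2
    obtain ⟨c', hc'⟩ := h2
    rw [sieO_eq_eT] at hc'
    have hxcl : QuadraticMap.polar (⇑Q) x (c' • l') = 0 := by
      rw [QuadraticMap.polar_smul_right, hxl', smul_zero]
    obtain ⟨t, ht⟩ := eT_inj Q hQ h3 x y _ _ hx hxy hxcl hxφ hc'.symm
    rw [ht, Q_add', QuadraticMap.map_smul, QuadraticMap.map_smul, hQl', hx,
      QuadraticMap.polar_smul_left, QuadraticMap.polar_smul_right,
      QuadraticMap.polar_comm (⇑Q) l' x, hxl']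
    simp

set_option maxHeartbeats 4000000 in
/-- The semisimilarity-induced automorphism extending `φ`. -/
theorem exists_semi_aut (Q : QuadraticForm F (ι → F))
    (hQ : (QuadraticMap.polarBilin Q).Nondegenerate) (h3 : HasTS3 Q) (x y : ι → F)
    (hx : Q x = 0) (hy : Q y = 0) (hxy : QuadraticMap.polar (⇑Q) x y = 1) (σ : F ≃+* F)
    (μ : F) (hμ : μ ≠ 0) (φ φ' : (ι → F) → (ι → F))
    (hφD : ∀ v ∈ perp Q {x, y}, φ v ∈ perp Q {x, y})
    (hφ'D : ∀ v ∈ perp Q {x, y}, φ' v ∈ perp Q {x, y})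
    (hadd : ∀ u ∈ perp Q {x, y}, ∀ v ∈ perp Q {x, y}, φ (u + v) = φ u + φ v)
    (hsmul : ∀ (k : F), ∀ v ∈ perp Q {x, y}, φ (k • v) = σ k • φ v)
    (hQφ : ∀ v ∈ perp Q {x, y}, Q (φ v) = μ * σ (Q v))
    (hinv : ∀ w ∈ perp Q {x, y}, φ (φ' w) = w) :
    ∃ β : MulAut (Cfsg.POmega F (⇑Q)), β ∈ Cfsg.gammaPOmega F (⇑Q) ∧
      (∀ v ∈ perp Q {x, y}, β (eT Q hQ h3 x v) = eT Q hQ h3 x (φ v)) ∧
      (∀ t, t ∈ RT Q hQ h3 y ↔ β t ∈ RT Q hQ h3 y) := by
  obtain ⟨G, hG⟩ := exists_g0_matrix Q x y σ μ φ hx hy hxy hφD hadd hsmul hQφ hQ hμ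
  have hpair : Cfsg.IsSemisimilarityPair (⇑Q) G σ :=
    ⟨Units.mk0 μ hμ, fun v => by rw [hG v]; exact Q_g0 Q x y σ μ φ hx hy hxy hφD hQφ v⟩
  have key := semiAut_eT Q hQ h3 G σ hpair (g0 Q x y σ μ φ) μ hμ hG
    (g0_add Q x y σ μ φ hx hy hxy hadd) (g0_sub Q x y σ μ φ hx hy hxy hadd hsmul)
    (g0_smul Q x y σ μ φ hx hy hxy hsmul) (Q_g0 Q x y σ μ φ hx hy hxy hφD hQφ)
    (polar_g0 Q x y σ μ φ hx hy hxy hφD hadd hQφ)
  have hyx : QuadraticMap.polar (⇑Q) y x = 1 := by rw [QuadraticMap.polar_comm]; exact hxy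
  have hDeq : perp Q {y, x} = perp Q {x, y} := by rw [Set.pair_comm]
  have βy : ∀ w ∈ perp Q {x, y},
      semiAut (⇑Q) G σ hpair (eT Q hQ h3 y w) = eT Q hQ h3 y (μ⁻¹ • φ w) := by
    intro w hw
    rw [key y w hy ((mem_perp_pair Q x y w).mp hw).2, g0_y Q x y σ μ φ hx hy hxy hadd,
      g0_D Q x y σ μ φ w hw]
  refine ⟨semiAut (⇑Q) G σ hpair, semiAut_mem (⇑Q) G σ hpair, ?_, ?_⟩
  · intro v hv
    obtain ⟨hxv, hyv⟩ := (mem_perp_pair Q x y v).mp hv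
    obtain ⟨hxφ, hyφ⟩ := (mem_perp_pair Q x y _).mp (hφD v hv)
    rw [key x v hx hxv, g0_x Q x y σ μ φ hx hy hxy hadd, g0_D Q x y σ μ φ v hv,
      eT_smul_left Q hQ h3 x (μ⁻¹ • φ v) μ hx
        (by rw [QuadraticMap.polar_smul_right, hxφ, smul_zero]),
      smul_smul, mul_inv_cancel₀ hμ, one_smul]
  · intro t
    constructor
    · intro ht
      rw [mem_RT_iff_D Q hQ h3 y x hy hyx, hDeq] at ht
      obtain ⟨w, hw, rfl⟩ := ht
      rw [βy w hw]
      exact eT_mem_RT Q hQ h3 y _ hy (by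
        rw [QuadraticMap.polar_smul_right, ((mem_perp_pair Q x y _).mp (hφD w hw)).2, smul_zero])
    · intro ht
      rw [mem_RT_iff_D Q hQ h3 y x hy hyx, hDeq] at ht
      obtain ⟨w', hw', e⟩ := ht
      have hw : φ' (μ • w') ∈ perp Q {x, y} := hφ'D _ (Submodule.smul_mem _ _ hw')
      have e2 : semiAut (⇑Q) G σ hpair (eT Q hQ h3 y (φ' (μ • w'))) = eT Q hQ h3 y w' := by
        rw [βy _ hw, hinv _ (Submodule.smul_mem _ _ hw'), smul_smul, inv_mul_cancel₀ hμ,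
          one_smul]
      have e3 : t = eT Q hQ h3 y (φ' (μ • w')) :=
        (semiAut (⇑Q) G σ hpair).injective (by rw [e, e2])
      rw [e3]
      exact eT_mem_RT Q hQ h3 y _ hy ((mem_perp_pair Q x y _).mp hw).2

end

end Cfsg.Agent.H49
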