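import Mathlib
import Cfsg.Agent.H49.AutEnd2

set_option autoImplicit false
set_option linter.unusedSectionVars false
set_option linter.unusedSimpArgs false
set_option linter.unusedVariables false

/-! Helper lemmas (helper49): the automorphism theorem for `PΩ(Q)`: every automorphism is induced
by a semisimilarity (dimension at least 7, Witt index at least 3, no totally singular 4-spaces in
dimension at most 8). -/

namespace Cfsg.Agent.H49

open Module Matrix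

section
variable {ι : Type} [Fintype ι] [DecidableEq ι] {F : Type*} [Field F] [Fintype F]

omit [Fintype F] in
theorem siegelG_anti (Q : QuadraticForm F (ι → F)) (u v : ι → F) (hu : Q u = 0) (hv : Q v = 0)
    (huv : QuadraticMap.polar (⇑Q) u v = 0) (hvu : QuadraticMap.polar (⇑Q) v u = 0) (c : F) :
    siegelG Q u v hu hv huv c = siegelG Q v u hv hu hvu (-c) := by
  apply act_ext
  intro z
  rw [act_siegelG, act_siegelG]
  funext k
  simp only [Pi.add_apply, Pi.sub_apply, Pi.smul_apply, smul_eq_mul]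
  ring

set_option maxHeartbeats 4000000 in
/-- An automorphism fixing `RT x` pointwise and stabilising `RT y` fixes the images of the Siegel
transformations of `D`. -/
theorem fix_siegel_D (Q : QuadraticForm F (ι → F))
    (hQ : (QuadraticMap.polarBilin Q).Nondegenerate) (h3 : HasTS3 Q) (x y : ι → F)
    (hx0 : x ≠ 0) (hy0 : y ≠ 0) (hx : Q x = 0) (hy : Q y = 0)
    (hxy : QuadraticMap.polar (⇑Q) x y = 1) (α : MulAut (Cfsg.POmega F (⇑Q)))
    (hfixRT : ∀ r ∈ RT Q hQ h3 x, α r = r)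
    (hRy : ∀ t, t ∈ RT Q hQ h3 y ↔ α t ∈ RT Q hQ h3 y)
    (a b : ι → F) (ha : Q a = 0) (hb : Q b = 0) (hab : QuadraticMap.polar (⇑Q) a b = 0) (c : F)
    (haD : a ∈ perp Q {x, y}) (hbD : b ∈ perp Q {x, y}) :
    α (QuotientGroup.mk (sieO Q hQ h3 a b ha hb hab c))
      = QuotientGroup.mk (sieO Q hQ h3 a b ha hb hab c) := by
  obtain ⟨hxa, hya⟩ := (mem_perp_pair Q x y a).mp haD
  obtain ⟨hxb, hyb⟩ := (mem_perp_pair Q x y b).mp hbD
  have hax : QuadraticMap.polar (⇑Q) a x = 0 := by rw [QuadraticMap.polar_comm]; exact hxa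
  have hbx : QuadraticMap.polar (⇑Q) b x = 0 := by rw [QuadraticMap.polar_comm]; exact hxb
  have hay : QuadraticMap.polar (⇑Q) a y = 0 := by rw [QuadraticMap.polar_comm]; exact hya
  have hby : QuadraticMap.polar (⇑Q) b y = 0 := by rw [QuadraticMap.polar_comm]; exact hyb
  have hfx : act (siegelG Q a b ha hb hab c) x = x :=
    act_siegelG_of_perp Q a b x ha hb hab c hax hbx
  have hfy : act (siegelG Q a b ha hb hab c) y = y :=
    act_siegelG_of_perp Q a b y ha hb hab c hay hby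
  have hfy' : act (siegelG Q a b ha hb hab c)⁻¹ y = y := by
    have e0 := act_inv_act (siegelG Q a b ha hb hab c) y
    rw [hfy] at e0
    exact e0
  obtain ⟨m, hm⟩ : ∃ m : Cfsg.POmega F (⇑Q),
      m = QuotientGroup.mk (sieO Q hQ h3 a b ha hb hab c) := ⟨_, rfl⟩
  rw [← hm]
  have hmx : ∀ t ∈ RT Q hQ h3 x, m * t * m⁻¹ ∈ RT Q hQ h3 x := by
    intro t ht
    have h1 := conj_RT Q hQ h3 (sieO Q hQ h3 a b ha hb hab c) x t ht
    rw [sieO_coe, hfx] at h1
    rw [hm]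
    exact h1
  have hmy : ∀ t ∈ RT Q hQ h3 y, m * t * m⁻¹ ∈ RT Q hQ h3 y := by
    intro t ht
    have h1 := conj_RT Q hQ h3 (sieO Q hQ h3 a b ha hb hab c) y t ht
    rw [sieO_coe, hfy] at h1
    rw [hm]
    exact h1
  have hmy' : ∀ t ∈ RT Q hQ h3 y, m⁻¹ * t * m ∈ RT Q hQ h3 y := by
    intro t ht
    have h1 := conj_RT Q hQ h3 (sieO Q hQ h3 a b ha hb hab c)⁻¹ y t ht
    rw [show act ((sieO Q hQ h3 a b ha hb hab c)⁻¹ : ↥(Cfsg.Omega F (⇑Q))).1 y = y from hfy',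
      QuotientGroup.mk_inv, inv_inv, ← hm] at h1
    exact h1
  have hcomm : ∀ r ∈ RT Q hQ h3 x, (m⁻¹ * α m) * r = r * (m⁻¹ * α m) := by
    intro r hr
    have h1 : α (m * r * m⁻¹) = m * r * m⁻¹ := hfixRT _ (hmx r hr)
    rw [map_mul, map_mul, map_inv, hfixRT r hr] at h1
    calc (m⁻¹ * α m) * r = m⁻¹ * (α m * r * (α m)⁻¹) * α m := by group
      _ = m⁻¹ * (m * r * m⁻¹) * α m := by rw [h1]
      _ = r * (m⁻¹ * α m) := by group
  have ht₀ := mem_RT_of_commute Q hQ h3 x hx0 hx _ hcomm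
  rw [mem_RT_iff_D Q hQ h3 x y hx hxy] at ht₀
  obtain ⟨v₀, hv₀D, hv₀⟩ := ht₀
  obtain ⟨hxv₀, hyv₀⟩ := (mem_perp_pair Q x y v₀).mp hv₀D
  have hnorm : ∀ t ∈ RT Q hQ h3 y, (m⁻¹ * α m) * t * (m⁻¹ * α m)⁻¹ ∈ RT Q hQ h3 y := by
    intro t ht
    have h1 : α (α⁻¹ t) = t := by simp
    have ht' : α⁻¹ t ∈ RT Q hQ h3 y := (hRy _).mpr (by rw [h1]; exact ht)
    have h2 : α (m * α⁻¹ t * m⁻¹) ∈ RT Q hQ h3 y := (hRy _).mp (hmy _ ht')
    rw [map_mul, map_mul, map_inv, h1] at h2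
    have h3' := hmy' _ h2
    have e : (m⁻¹ * α m) * t * (m⁻¹ * α m)⁻¹ = m⁻¹ * (α m * t * (α m)⁻¹) * m := by group
    rw [e]
    exact h3'
  rw [hv₀, eT_eq Q hQ h3 x v₀ hx hxv₀] at hnorm
  have hsub : RT Q hQ h3 (act (eichO Q hQ h3 x v₀ hx hxv₀).1 y) ⊆ RT Q hQ h3 y := by
    intro t' ht'
    have h1 := conj_RT Q hQ h3 (eichO Q hQ h3 x v₀ hx hxv₀)⁻¹
      (act (eichO Q hQ h3 x v₀ hx hxv₀).1 y) t' ht'
    rw [show act ((eichO Q hQ h3 x v₀ hx hxv₀)⁻¹ : ↥(Cfsg.Omega F (⇑Q))).1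
      (act (eichO Q hQ h3 x v₀ hx hxv₀).1 y) = y from act_inv_act _ y] at h1
    have h2 := hnorm _ h1
    have e : (QuotientGroup.mk (eichO Q hQ h3 x v₀ hx hxv₀) : Cfsg.POmega F (⇑Q))
        * ((QuotientGroup.mk (eichO Q hQ h3 x v₀ hx hxv₀)⁻¹ : Cfsg.POmega F (⇑Q)) * t'
          * (QuotientGroup.mk (eichO Q hQ h3 x v₀ hx hxv₀)⁻¹ : Cfsg.POmega F (⇑Q))⁻¹)
        * (QuotientGroup.mk (eichO Q hQ h3 x v₀ hx hxv₀) : Cfsg.POmega F (⇑Q))⁻¹ = t' := by
      rw [QuotientGroup.mk_inv]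
      group
    rwa [e] at h2
  have hact : act (eichO Q hQ h3 x v₀ hx hxv₀).1 y = y + v₀ - Q v₀ • x := by
    rw [eichO_coe, act_eichG, hxy, QuadraticMap.polar_comm (⇑Q) v₀ y, hyv₀]
    simp
  have hmem := mem_span_of_RT_subset Q hQ h3 y _ (act_ne_zero _ hy0) (by rw [Q_act, hy]) hsub
  obtain ⟨k, hk⟩ := Submodule.mem_span_singleton.mp hmem
  rw [hact] at hk
  have hk1 : k = 1 := by
    have e0 : QuadraticMap.polar (⇑Q) x (k • (y + v₀ - Q v₀ • x)) = k := by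
      rw [QuadraticMap.polar_smul_right, QuadraticMap.polar_sub_right,
        QuadraticMap.polar_add_right, QuadraticMap.polar_smul_right, hxy, hxv₀, polar_self', hx]
      simp
    rw [hk, hxy] at e0
    exact e0.symm
  rw [hk1, one_smul] at hk
  have hv₀x : v₀ = Q v₀ • x := by
    have e0 : v₀ - Q v₀ • x = (y + v₀ - Q v₀ • x) - y := by abel
    rw [hk, sub_self] at e0
    exact sub_eq_zero.mp e0
  have hQv₀ : Q v₀ = 0 := by
    have e0 : QuadraticMap.polar (⇑Q) y (Q v₀ • x) = Q v₀ := by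
      rw [QuadraticMap.polar_smul_right, QuadraticMap.polar_comm, hxy]
      simp
    rw [← hv₀x, hyv₀] at e0
    exact e0.symm
  have hv₀0 : v₀ = 0 := by rw [hv₀x, hQv₀, zero_smul]
  rw [hv₀0, eT_zero] at hv₀
  exact (inv_mul_eq_one.mp hv₀).symm

end

end Cfsg.Agent.H49
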