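import Mathlib
import Cfsg.Agent.H49.AutEnd3

set_option autoImplicit false
set_option linter.unusedSectionVars false
set_option linter.unusedSimpArgs false
set_option linter.unusedVariables false

/-! Helper lemmas (helper49): the automorphism theorem for `PΩ(Q)`: every automorphism is induced
by a semisimilarity (dimension at least 7, Witt index at least 3, no totally singular 4-spaces in
dimension at most 8). -/

namespace Cfsg.Agent.H49

open Module Matrix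

section
variable {ι : Type} [Fintype ι] [DecidableEq ι] {F : Type*} [Field F] [Fintype F]

set_option maxHeartbeats 4000000 in
/-- An automorphism fixing `RT x` pointwise and stabilising `RT y` is trivial. -/
theorem eq_one_of_fix (Q : QuadraticForm F (ι → F))
    (hQ : (QuadraticMap.polarBilin Q).Nondegenerate) (h3 : HasTS3 Q) (x y : ι → F)
    (hx0 : x ≠ 0) (hy0 : y ≠ 0) (hx : Q x = 0) (hy : Q y = 0)
    (hxy : QuadraticMap.polar (⇑Q) x y = 1) (α : MulAut (Cfsg.POmega F (⇑Q)))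
    (hfix : ∀ v ∈ perp Q {x, y}, α (eT Q hQ h3 x v) = eT Q hQ h3 x v)
    (hRy : ∀ t, t ∈ RT Q hQ h3 y ↔ α t ∈ RT Q hQ h3 y) : α = 1 := by
  have h6 := six_le_of_hasTS3 Q hQ h3
  have hyx : QuadraticMap.polar (⇑Q) y x = 1 := by rw [QuadraticMap.polar_comm]; exact hxy
  have hDeq : perp Q {y, x} = perp Q {x, y} := by rw [Set.pair_comm]
  have hfixRT : ∀ r ∈ RT Q hQ h3 x, α r = r := by
    intro r hr
    rw [mem_RT_iff_D Q hQ h3 x y hx hxy] at hr
    obtain ⟨v, hv, rfl⟩ := hr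
    exact hfix v hv
  have step8 : ∀ (a b : ι → F) (ha : Q a = 0) (hb : Q b = 0)
      (hab : QuadraticMap.polar (⇑Q) a b = 0) (c : F), a ∈ perp Q {x, y} → b ∈ perp Q {x, y} →
      α (QuotientGroup.mk (sieO Q hQ h3 a b ha hb hab c))
        = QuotientGroup.mk (sieO Q hQ h3 a b ha hb hab c) :=
    fun a b ha hb hab c haD hbD =>
      fix_siegel_D Q hQ h3 x y hx0 hy0 hx hy hxy α hfixRT hRy a b ha hb hab c haD hbD
  -- the map induced on `D` through `RT y`
  obtain ⟨ψ, hψD', hψ'⟩ := exists_phi Q hQ h3 y x hy hyx α (fun t ht => (hRy t).mp ht)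
  have hψadd' := phi_add Q hQ h3 y x hy hyx α ψ hψD' hψ'
  rw [hDeq] at hψD' hψ' hψadd'
  have hψcomm : ∀ (a b : ι → F) (ha : Q a = 0) (hb : Q b = 0)
      (hab : QuadraticMap.polar (⇑Q) a b = 0), a ∈ perp Q {x, y} → b ∈ perp Q {x, y} →
      ∀ v ∈ perp Q {x, y}, ψ (act (siegelG Q a b ha hb hab 1) v)
        = act (siegelG Q a b ha hb hab 1) (ψ v) := by
    intro a b ha hb hab haD hbD w hw
    obtain ⟨hxa, hya⟩ := (mem_perp_pair Q x y a).mp haD
    obtain ⟨hxb, hyb⟩ := (mem_perp_pair Q x y b).mp hbD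
    obtain ⟨hxw, hyw⟩ := (mem_perp_pair Q x y w).mp hw
    obtain ⟨hxψ, hyψ⟩ := (mem_perp_pair Q x y (ψ w)).mp (hψD' w hw)
    have hax : QuadraticMap.polar (⇑Q) a x = 0 := by rw [QuadraticMap.polar_comm]; exact hxa
    have hbx : QuadraticMap.polar (⇑Q) b x = 0 := by rw [QuadraticMap.polar_comm]; exact hxb
    have hay : QuadraticMap.polar (⇑Q) a y = 0 := by rw [QuadraticMap.polar_comm]; exact hya
    have hby : QuadraticMap.polar (⇑Q) b y = 0 := by rw [QuadraticMap.polar_comm]; exact hyb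
    have hfx : act (siegelG Q a b ha hb hab 1) x = x :=
      act_siegelG_of_perp Q a b x ha hb hab 1 hax hbx
    have hfy : act (siegelG Q a b ha hb hab 1) y = y :=
      act_siegelG_of_perp Q a b y ha hb hab 1 hay hby
    have hD : ∀ u ∈ perp Q {x, y}, act (siegelG Q a b ha hb hab 1) u ∈ perp Q {x, y} := by
      intro u hu
      obtain ⟨hxu, hyu⟩ := (mem_perp_pair Q x y u).mp hu
      rw [mem_perp_pair]
      have p1 := polar_act Q (siegelG Q a b ha hb hab 1) x u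
      have p2 := polar_act Q (siegelG Q a b ha hb hab 1) y u
      rw [hfx] at p1
      rw [hfy] at p2
      exact ⟨by rw [p1]; exact hxu, by rw [p2]; exact hyu⟩
    have e1 := conj_eT Q hQ h3 (sieO Q hQ h3 a b ha hb hab 1) y w hy hyw
    rw [sieO_coe, hfy] at e1
    have e2 := congrArg α e1
    rw [map_mul, map_mul, map_inv, step8 a b ha hb hab 1 haD hbD, hψ' w hw, hψ' _ (hD w hw),
      conj_eT Q hQ h3 _ y (ψ w) hy hyψ, sieO_coe, hfy] at e2
    have hm1 : act (siegelG Q a b ha hb hab 1) (ψ w) ∈ perp Q {y, x} := by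
      rw [hDeq]; exact hD _ (hψD' w hw)
    have hm2 : ψ (act (siegelG Q a b ha hb hab 1) w) ∈ perp Q {y, x} := by
      rw [hDeq]; exact hψD' _ (hD w hw)
    exact (eT_inj_D Q hQ h3 y x _ _ hy hyx hm1 hm2 e2).symm
  obtain ⟨c₀, hc₀⟩ := schur_D Q hQ h3 x y hx hy hxy ψ hψD' hψadd' hψcomm
  -- the scalar is one
  obtain ⟨e, f, he, hf, hef, heD, hfD, -, -⟩ := exists_hyp_pair_D Q hQ h3 x y 0 hx hy hxy
    (map_zero _) (QuadraticMap.polar_zero_right _ _)
  have he0 : e ≠ 0 := by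
    rintro rfl
    rw [QuadraticMap.polar_zero_left] at hef
    exact zero_ne_one hef
  obtain ⟨b₁, hb₁D, hb₁, heb₁, -, hb₁e, -⟩ := exists_conn_D Q hQ h3 x y e e hx hy hxy he0 he he
    heD heD
  obtain ⟨hxe, hye⟩ := (mem_perp_pair Q x y e).mp heD
  obtain ⟨hxb₁, hyb₁⟩ := (mem_perp_pair Q x y b₁).mp hb₁D
  have hex : QuadraticMap.polar (⇑Q) e x = 0 := by rw [QuadraticMap.polar_comm]; exact hxe
  have hey : QuadraticMap.polar (⇑Q) e y = 0 := by rw [QuadraticMap.polar_comm]; exact hye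
  have hb₁x : QuadraticMap.polar (⇑Q) b₁ x = 0 := by rw [QuadraticMap.polar_comm]; exact hxb₁
  have hb₁e' : QuadraticMap.polar (⇑Q) b₁ e = 0 := by rw [QuadraticMap.polar_comm]; exact heb₁
  have comm : ∀ t : F,
      (QuotientGroup.mk (sieO Q hQ h3 e x he hx hex 1) : Cfsg.POmega F (⇑Q))
        * QuotientGroup.mk (sieO Q hQ h3 y b₁ hy hb₁ hyb₁ t)
        * (QuotientGroup.mk (sieO Q hQ h3 e x he hx hex 1) : Cfsg.POmega F (⇑Q))⁻¹
        * (QuotientGroup.mk (sieO Q hQ h3 y b₁ hy hb₁ hyb₁ t) : Cfsg.POmega F (⇑Q))⁻¹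
        = QuotientGroup.mk (sieO Q hQ h3 e b₁ he hb₁ heb₁ (-t)) := by
    intro t
    have h := siegelG_commutator Q e b₁ x y he hb₁ hx hy heb₁ hex hey hb₁x hyb₁ hxy 1 t
    rw [one_mul, commutatorElement_def] at h
    have h' : sieO Q hQ h3 e x he hx hex 1 * sieO Q hQ h3 y b₁ hy hb₁ hyb₁ t
        * (sieO Q hQ h3 e x he hx hex 1)⁻¹ * (sieO Q hQ h3 y b₁ hy hb₁ hyb₁ t)⁻¹
        = sieO Q hQ h3 e b₁ he hb₁ heb₁ (-t) := Subtype.ext h
    rw [← h', QuotientGroup.mk_mul, QuotientGroup.mk_mul,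
      QuotientGroup.mk_mul, QuotientGroup.mk_inv, QuotientGroup.mk_inv]
  have hα1 : α (QuotientGroup.mk (sieO Q hQ h3 e x he hx hex 1))
      = QuotientGroup.mk (sieO Q hQ h3 e x he hx hex 1) := by
    apply hfixRT
    have hanti : sieO Q hQ h3 e x he hx hex 1 = sieO Q hQ h3 x e hx he hxe (-1) :=
      Subtype.ext (siegelG_anti Q e x he hx hex hxe 1)
    rw [hanti]
    exact sieO_mem_RT Q hQ h3 x e hx he hxe (-1)
  have hα2 : ∀ t : F, α (QuotientGroup.mk (sieO Q hQ h3 y b₁ hy hb₁ hyb₁ t))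
      = QuotientGroup.mk (sieO Q hQ h3 y b₁ hy hb₁ hyb₁ (c₀ * t)) := by
    intro t
    rw [sieO_eq_eT, sieO_eq_eT, hψ' _ (Submodule.smul_mem _ _ hb₁D),
      hc₀ _ (Submodule.smul_mem _ _ hb₁D), smul_smul]
  have key := congrArg α (comm 1)
  rw [map_mul, map_mul, map_mul, map_inv, map_inv, hα1, hα2,
    step8 e b₁ he hb₁ heb₁ (-1) heD hb₁D, mul_one, comm c₀] at key
  have hmv : ∀ t : F, Moves (sieO Q hQ h3 e b₁ he hb₁ heb₁ t).1 (Submodule.span F {e, b₁}) := by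
    intro t
    rw [sieO_coe]
    exact moves_siegelG Q e b₁ he hb₁ heb₁ t
  have f1 := finrank_span_pair_le (F := F) e b₁
  have heq := eq_of_mk_eq_of_moves Q hQ h3 _ _ _ _ (hmv (-c₀)) (hmv (-1)) (by omega) key
  obtain ⟨z, hz, hzW, hez⟩ := exists_partner_orth Q hQ (Submodule.span F {b₁}) e he
    (polar_span_singleton Q b₁ e hb₁e') (not_mem_span_symm he0 hb₁e)
  have hb₁z : QuadraticMap.polar (⇑Q) b₁ z = 0 := hzW b₁ (Submodule.mem_span_singleton_self b₁)
  have h1 := congrArg (fun k : ↥(Cfsg.Omega F (⇑Q)) => act k.1 z) heq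
  simp only [sieO_coe, act_siegelG, hez, hb₁z, one_smul, zero_smul, sub_zero] at h1
  have hb₁0 : b₁ ≠ 0 := by
    rintro rfl
    exact hb₁e (Submodule.zero_mem _)
  have hc₀1 : c₀ = 1 := by
    have h2 : (c₀ - 1) • b₁ = 0 := by
      have e0 : (c₀ - 1) • b₁ = (z + (-1 : F) • b₁) - (z + (-c₀) • b₁) := by
        rw [sub_smul, neg_smul, neg_smul, one_smul]
        abel
      rw [e0, h1, sub_self]
    rcases smul_eq_zero.mp h2 with h | h
    · exact sub_eq_zero.mp h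
    · exact absurd h hb₁0
  have hfixRTy : ∀ r ∈ RT Q hQ h3 y, α r = r := by
    intro r hr
    rw [mem_RT_iff_D Q hQ h3 y x hy hyx, hDeq] at hr
    obtain ⟨w, hw, rfl⟩ := hr
    rw [hψ' w hw, hc₀ w hw, hc₀1, one_smul]
  -- the fixed subgroup is everything
  obtain ⟨H, hH⟩ : ∃ H : Subgroup (Cfsg.POmega F (⇑Q)), ∀ t, t ∈ H ↔ α t = t := by
    refine ⟨{ carrier := {t | α t = t}, mul_mem' := ?_, one_mem' := map_one α, inv_mem' := ?_ },
      fun t => Iff.rfl⟩
    · intro a b ha hb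
      have ha' : α a = a := ha
      have hb' : α b = b := hb
      show α (a * b) = a * b
      rw [map_mul, ha', hb']
    · intro a ha
      have ha' : α a = a := ha
      show α a⁻¹ = a⁻¹
      rw [map_inv, ha']
  have htop : H = ⊤ := eq_top_of_RT Q hQ h3 H x y hx0 hx hy hxy
    (fun r hr => (hH r).mpr (hfixRT r hr)) (fun r hr => (hH r).mpr (hfixRTy r hr))
  apply MulEquiv.ext
  intro t
  have ht : t ∈ H := by rw [htop]; exact Subgroup.mem_top t
  exact (hH t).mp ht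

set_option maxHeartbeats 4000000 in
/-- **Automorphism theorem.** Every automorphism of `PΩ(Q)` is induced by a semisimilarity of
`Q`, for a nondegenerate quadratic form `Q` of Witt index at least 3 in dimension at least 7
over a finite field, provided that in dimension at most 8 there are no totally singular
4-spaces (this excludes the triality case `PΩ⁺₈`). -/
theorem aut_mem_gamma (Q : QuadraticForm F (ι → F))
    (hQ : (QuadraticMap.polarBilin Q).Nondegenerate) (h3 : HasTS3 Q)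
    (hn : 7 ≤ finrank F (ι → F))
    (h8 : finrank F (ι → F) ≤ 8 → ∀ U : Submodule F (ι → F), IsTS Q U → finrank F U ≤ 3)
    (α : MulAut (Cfsg.POmega F (⇑Q))) : α ∈ Cfsg.gammaPOmega F (⇑Q) := by
  obtain ⟨x, y, hx, hy, hxy, -, -⟩ := exists_hyp_pair_orth_le_one Q hQ h3 ⊥
    (by rw [finrank_bot]; omega)
  have hx0 : x ≠ 0 := by
    rintro rfl
    rw [QuadraticMap.polar_zero_left] at hxy
    exact zero_ne_one hxy
  have hy0 : y ≠ 0 := by
    rintro rfl
    rw [QuadraticMap.polar_zero_right] at hxy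
    exact zero_ne_one hxy
  obtain ⟨g, hRx, hRy⟩ := exists_normalised Q hQ h3 hn h8 x y hx0 hy0 hx hy hxy α
  obtain ⟨α₁, hα₁⟩ : ∃ α₁ : MulAut (Cfsg.POmega F (⇑Q)),
      α₁ = MulAut.conj (QuotientGroup.mk g : Cfsg.POmega F (⇑Q)) * α := ⟨_, rfl⟩
  rw [← hα₁] at hRx hRy
  suffices h : α₁ ∈ Cfsg.gammaPOmega F (⇑Q) by
    have e : α = (MulAut.conj (QuotientGroup.mk g : Cfsg.POmega F (⇑Q)))⁻¹ * α₁ := by
      rw [hα₁]; group
    rw [e]
    exact Subgroup.mul_mem _ (Subgroup.inv_mem _ (conj_mem_gamma (⇑Q) g)) h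
  have hinvapp : ∀ t, α₁ (α₁⁻¹ t) = t := fun t => by simp
  have hinvapp' : ∀ t, α₁⁻¹ (α₁ t) = t := fun t => by simp
  obtain ⟨φ, hφD, hφ⟩ := exists_phi Q hQ h3 x y hx hxy α₁ (fun t ht => (hRx t).mp ht)
  obtain ⟨φ', hφ'D, hφ'⟩ := exists_phi Q hQ h3 x y hx hxy α₁⁻¹
    (fun t ht => (hRx _).mpr (by rw [hinvapp]; exact ht))
  have hadd := phi_add Q hQ h3 x y hx hxy α₁ φ hφD hφ
  have hinv := phi_inv Q hQ h3 x y hx hxy α₁ α₁⁻¹ hinvapp φ φ' hφD hφ'D hφ hφ'
  have hinv' := phi_inv Q hQ h3 x y hx hxy α₁⁻¹ α₁ hinvapp' φ' φ hφ'D hφD hφ' hφ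
  obtain ⟨σ, hsmul⟩ := semilinear_D Q hQ h3 x y hx hy hxy φ φ' hφD hφ'D hadd hinv hinv'
    (fun a b ha hb hab haD hbD => levi_intertwine Q hQ h3 x y hx0 hy0 hx hy hxy α₁ hRx hRy φ hφD
      hφ a b ha hb hab haD hbD)
  have hsing := phi_sing Q hQ h3 hn h8 x y hx0 hx hxy α₁ hRx φ hφD hφ hadd
  obtain ⟨μ, hμ, hQφ⟩ := similarity_D Q hQ h3 x y hx hy hxy σ φ φ' hφD hφ'D hadd hsmul hinv hsing
  obtain ⟨β, hβmem, hβx, hβy⟩ := exists_semi_aut Q hQ h3 x y hx hy hxy σ μ hμ φ φ' hφD hφ'D hadd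
    hsmul hQφ hinv
  have h2 : β⁻¹ * α₁ = 1 := by
    apply eq_one_of_fix Q hQ h3 x y hx0 hy0 hx hy hxy
    · intro v hv
      rw [MulAut.mul_apply, hφ v hv, ← hβx v hv]
      simp
    · intro t
      rw [MulAut.mul_apply, hRy t, hβy (β⁻¹ (α₁ t))]
      simp
  rw [← inv_mul_eq_one.mp h2]
  exact hβmem

end

end Cfsg.Agent.H49
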