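import Mathlib
import Cfsg.Agent.H49.SemiAut

set_option autoImplicit false
set_option linter.unusedSectionVars false

/-! Helper lemmas (helper49): a semilinear map commuting with all Siegel transformations is
linear; hence a semisimilarity inducing the trivial automorphism of `PΩ` has trivial field
automorphism. -/

namespace Cfsg.Agent.H49

open Module Matrix

section general
variable {G : Type*} [Group G]

/-- An endomorphism of a perfect group inducing the identity modulo the centre is trivial. -/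
theorem eq_of_mk_eq_of_perfect_hom (hperf : commutator G = ⊤) (e : G →* G)
    (h : ∀ s : G, s⁻¹ * e s ∈ Subgroup.center G) (s : G) : e s = s := by
  obtain ⟨ψ, hψ⟩ : ∃ ψ : G →* ↥(Subgroup.center G), ∀ s, (ψ s : G) = s⁻¹ * e s := by
    refine ⟨MonoidHom.mk' (fun s => ⟨s⁻¹ * e s, h s⟩) ?_, fun s => rfl⟩
    intro a b
    apply Subtype.ext
    show (a * b)⁻¹ * e (a * b) = (a⁻¹ * e a) * (b⁻¹ * e b)
    have hc := Subgroup.mem_center_iff.mp (h a) b⁻¹
    rw [map_mul, _root_.mul_inv_rev]
    calc b⁻¹ * a⁻¹ * (e a * e b) = (b⁻¹ * (a⁻¹ * e a)) * e b := by group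
      _ = (a⁻¹ * e a * b⁻¹) * e b := by rw [hc]
      _ = a⁻¹ * e a * (b⁻¹ * e b) := by group
  have hk : commutator G ≤ ψ.ker := by
    apply commutator_le_ker_of_comm
    intro x y
    apply Subtype.ext
    rw [Subgroup.coe_mul, Subgroup.coe_mul]
    exact (Subgroup.mem_center_iff.mp (ψ x).2 (ψ y)).symm
  have hs : s ∈ ψ.ker := hk (by rw [hperf]; exact Subgroup.mem_top s)
  have h1 : s⁻¹ * e s = 1 := by
    rw [← hψ]
    exact congrArg Subtype.val (MonoidHom.mem_ker.mp hs)
  exact (inv_mul_eq_one.mp h1).symm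

end general

section
variable {ι : Type} [Fintype ι] [DecidableEq ι] {F : Type*} [Field F]

theorem sigma_eq_refl_of_commute_siegel (Q : QuadraticForm F (ι → F))
    (hQ : (QuadraticMap.polarBilin Q).Nondegenerate) (h3 : HasTS3 Q)
    (φ : (ι → F) → (ι → F)) (σ : F ≃+* F)
    (hadd : ∀ x y, φ (x + y) = φ x + φ y) (hsmul : ∀ (c : F) x, φ (c • x) = σ c • φ x)
    (hinj : ∀ x, φ x = 0 → x = 0)
    (hA : ∀ (u v : ι → F) (hu : Q u = 0) (hv : Q v = 0)
      (huv : QuadraticMap.polar (⇑Q) u v = 0) (x : ι → F),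
      φ (act (siegelG Q u v hu hv huv 1) x) = act (siegelG Q u v hu hv huv 1) (φ x)) :
    σ = RingEquiv.refl F := by
  have key1 : ∀ (u v : ι → F), Q u = 0 → Q v = 0 → QuadraticMap.polar (⇑Q) u v = 0 →
      v ∉ Submodule.span F {u} → φ u ∈ Submodule.span F {u, v} := by
    intro u v hu hv huv hvu
    obtain ⟨s, hsW, hs⟩ := exists_orth_polar_ne Q hQ (Submodule.span F {u}) v hvu
    have hus : QuadraticMap.polar (⇑Q) u s = 0 := hsW u (Submodule.mem_span_singleton_self u)
    have h1 := hA u v hu hv huv (-(QuadraticMap.polar (⇑Q) v s)⁻¹ • s)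
    rw [act_siegelG, act_siegelG] at h1
    have e1 : QuadraticMap.polar (⇑Q) u (-(QuadraticMap.polar (⇑Q) v s)⁻¹ • s) = 0 := by
      rw [QuadraticMap.polar_smul_right, hus, smul_zero]
    have e2 : QuadraticMap.polar (⇑Q) v (-(QuadraticMap.polar (⇑Q) v s)⁻¹ • s) = -1 := by
      rw [QuadraticMap.polar_smul_right, smul_eq_mul, neg_mul, inv_mul_cancel₀ hs]
    rw [e1, e2] at h1
    simp only [zero_smul, zero_sub, neg_smul, one_smul, neg_neg] at h1
    rw [hadd] at h1
    have h2 := add_left_cancel h1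
    rw [h2]
    exact Submodule.sub_mem _ (Submodule.smul_mem _ _ (Submodule.subset_span (by simp)))
      (Submodule.smul_mem _ _ (Submodule.subset_span (by simp)))
  have hev : ∀ u : ι → F, u ≠ 0 → Q u = 0 → ∃ l : F, φ u = l • u := by
    intro u hu0 hu
    obtain ⟨v, hv, hvW, hvu⟩ := exists_singular_orth_of_le_one Q hQ h3 (Submodule.span F {u})
      (finrank_span_singleton_le' u)
    have huv : QuadraticMap.polar (⇑Q) u v = 0 := hvW u (Submodule.mem_span_singleton_self u)
    obtain ⟨v', hv', hv'W, hv'L⟩ := exists_singular_orth_of_ts Q hQ h3 (Submodule.span F {u, v})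
      (isTS_span_pair Q u v hu hv huv) (finrank_span_pair_le u v)
    have huv' : QuadraticMap.polar (⇑Q) u v' = 0 := hv'W u (Submodule.subset_span (by simp))
    have hv'u : v' ∉ Submodule.span F {u} := fun h => hv'L (Submodule.span_mono (by simp) h)
    have m1 := key1 u v hu hv huv hvu
    have m2 := key1 u v' hu hv' huv' hv'u
    obtain ⟨a, b, hab⟩ := Submodule.mem_span_pair.mp m1
    obtain ⟨a', b', hab'⟩ := Submodule.mem_span_pair.mp m2
    have hb' : b' = 0 := by
      by_contra hb'
      apply hv'L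
      have h5 : b' • v' = (a - a') • u + b • v := by
        have h6 : b' • v' = a • u + b • v - a' • u := by
          rw [hab, ← hab']
          abel
        rw [h6, sub_smul]
        abel
      have h7 : v' = b'⁻¹ • ((a - a') • u + b • v) := by
        rw [← h5, smul_smul, inv_mul_cancel₀ hb', one_smul]
      rw [h7]
      exact Submodule.smul_mem _ _ (Submodule.add_mem _
        (Submodule.smul_mem _ _ (Submodule.subset_span (by simp)))
        (Submodule.smul_mem _ _ (Submodule.subset_span (by simp))))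
    refine ⟨a', ?_⟩
    rw [← hab', hb', zero_smul, add_zero]
  obtain ⟨u₀, hu₀0, hu₀⟩ : ∃ u₀ : ι → F, u₀ ≠ 0 ∧ Q u₀ = 0 := by
    obtain ⟨U, hU, dU⟩ := h3
    have hUbot : U ≠ ⊥ := by
      intro h
      rw [h, finrank_bot] at dU
      omega
    obtain ⟨u, huU, hu0⟩ := Submodule.exists_mem_ne_zero_of_ne_bot hUbot
    exact ⟨u, hu0, hU u huU⟩
  obtain ⟨v, hv, hvW, hvu⟩ := exists_singular_orth_of_le_one Q hQ h3 (Submodule.span F {u₀})
    (finrank_span_singleton_le' u₀)
  have huv : QuadraticMap.polar (⇑Q) u₀ v = 0 := hvW u₀ (Submodule.mem_span_singleton_self u₀)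
  have hv0 : v ≠ 0 := by
    rintro rfl
    exact hvu (Submodule.zero_mem _)
  have hind : ∀ a b : F, a • u₀ + b • v = 0 → a = 0 ∧ b = 0 := by
    intro a b hab
    have hb : b = 0 := by
      by_contra hb
      apply hvu
      have : v = (-(b⁻¹ * a)) • u₀ := by
        have h1 : b • v = -(a • u₀) := eq_neg_of_add_eq_zero_right hab
        rw [neg_smul, mul_smul, ← smul_neg, ← h1, smul_smul, inv_mul_cancel₀ hb, one_smul]
      rw [this]
      exact Submodule.smul_mem _ _ (Submodule.mem_span_singleton_self u₀)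
    rw [hb, zero_smul, add_zero] at hab
    rcases smul_eq_zero.mp hab with h | h
    · exact ⟨h, hb⟩
    · exact absurd h hu₀0
  obtain ⟨l, hl⟩ := hev u₀ hu₀0 hu₀
  obtain ⟨m, hm⟩ := hev v hv0 hv
  have hl0 : l ≠ 0 := by
    rintro rfl
    rw [zero_smul] at hl
    exact hu₀0 (hinj u₀ hl)
  have key : ∀ c : F, σ c * m = l * c := by
    intro c
    have hw0 : u₀ + c • v ≠ 0 := by
      intro h
      have := (hind 1 c (by rw [one_smul]; exact h)).1
      exact one_ne_zero this
    have hQw : Q (u₀ + c • v) = 0 := by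
      rw [Q_add', QuadraticMap.map_smul, hu₀, hv, QuadraticMap.polar_smul_right, huv]
      simp
    obtain ⟨n, hn⟩ := hev _ hw0 hQw
    rw [hadd, hsmul, hl, hm, smul_add, smul_smul, smul_smul] at hn
    have h0 : (l - n) • u₀ + (σ c * m - n * c) • v = 0 := by
      rw [sub_smul, sub_smul]
      have : l • u₀ + (σ c * m) • v - (n • u₀ + (n * c) • v) = 0 := sub_eq_zero.mpr hn
      rw [← this]
      abel
    obtain ⟨h1, h2⟩ := hind _ _ h0
    have hln : l = n := sub_eq_zero.mp h1
    rw [hln]
    exact sub_eq_zero.mp h2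
  have hml : m = l := by
    have := key 1
    rw [map_one, one_mul, mul_one] at this
    exact this
  apply RingEquiv.ext
  intro c
  have := key c
  rw [hml, mul_comm] at this
  exact mul_left_cancel₀ hl0 this

/-- A semisimilarity inducing the trivial automorphism of `PΩ` has trivial field
automorphism. -/
theorem sigma_eq_refl_of_induced_one [Fintype F] (Q : QuadraticForm F (ι → F))
    (hQ : (QuadraticMap.polarBilin Q).Nondegenerate) (h3 : HasTS3 Q)
    (g : Matrix.GeneralLinearGroup ι F) (σ : F ≃+* F)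
    (hp : Cfsg.IsSemisimilarityPair (⇑Q) g σ)
    (hi : Cfsg.IsInducedBySemilinearPOmega (⇑Q) g σ (1 : MulAut (Cfsg.POmega F (⇑Q)))) :
    σ = RingEquiv.refl F := by
  have hfix : ∀ s : ↥(commutator ↥(Cfsg.isometryGroup F (⇑Q))),
      semiConjOmega (⇑Q) g σ hp s = s := by
    apply eq_of_mk_eq_of_perfect_hom (omega_perfect Q hQ h3)
    intro s
    have h1 := induced_semiConj hp hi s
    have h2 : (QuotientGroup.mk s : Cfsg.POmega F (⇑Q))
        = QuotientGroup.mk (semiConjOmega (⇑Q) g σ hp s) := h1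
    exact QuotientGroup.eq.mp h2
  apply sigma_eq_refl_of_commute_siegel Q hQ h3
    (fun x => (g : Matrix ι ι F) *ᵥ fun i => σ (x i)) σ
  · intro x y
    have : (fun i => σ ((x + y) i)) = (fun i => σ (x i)) + (fun i => σ (y i)) := by
      funext i
      simp
    show (g : Matrix ι ι F) *ᵥ (fun i => σ ((x + y) i)) = _
    rw [this, Matrix.mulVec_add]
  · intro c x
    have : (fun i => σ ((c • x) i)) = σ c • (fun i => σ (x i)) := by
      funext i
      simp
    show (g : Matrix ι ι F) *ᵥ (fun i => σ ((c • x) i)) = _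
    rw [this, Matrix.mulVec_smul]
  · intro x hx
    have h1 := congrArg (fun y => ((g⁻¹ : Matrix.GeneralLinearGroup ι F) : Matrix ι ι F) *ᵥ y) hx
    simp only [Matrix.mulVec_mulVec, ← Units.val_mul, inv_mul_cancel, Units.val_one,
      Matrix.one_mulVec, Matrix.mulVec_zero] at h1
    funext i
    have h2 := congrFun h1 i
    simpa using h2
  · intro u v hu hv huv x
    have h1 := hfix ⟨siegelG Q u v hu hv huv 1, siegelG_mem_commutator Q hQ h3 u v hu hv huv 1⟩
    have h2 : g * Matrix.GeneralLinearGroup.map (σ : F →+* F) (siegelG Q u v hu hv huv 1).1 * g⁻¹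
        = (siegelG Q u v hu hv huv 1).1 :=
      congrArg (fun s : ↥(commutator ↥(Cfsg.isometryGroup F (⇑Q))) =>
        ((s : ↥(Cfsg.isometryGroup F (⇑Q))) : Matrix.GeneralLinearGroup ι F)) h1
    have h4 : g * Matrix.GeneralLinearGroup.map (σ : F →+* F) (siegelG Q u v hu hv huv 1).1
        = (siegelG Q u v hu hv huv 1).1 * g := mul_inv_eq_iff_eq_mul.mp h2
    have h5 := congrArg (fun k : Matrix.GeneralLinearGroup ι F =>
      (k : Matrix ι ι F) *ᵥ (fun i => σ (x i))) h4
    simp only [Units.val_mul, ← Matrix.mulVec_mulVec, glMap_val, sigma_mulVec] at h5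
    exact h5

end

end Cfsg.Agent.H49
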