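import Mathlib
import Cfsg.Agent.H49.AutEnd4
import Cfsg.Agent.H49.SemiKer
import Cfsg.Agent.H49.SimAut
import Cfsg.Agent.H49.OmegaSimple

set_option autoImplicit false
set_option linter.unusedSectionVars false
set_option linter.unusedSimpArgs false
set_option linter.unusedVariables false

/-! Helper lemmas (helper49): the field-automorphism homomorphism `Aut(PΩ) → Aut(F)` and the
order of `Aut(PΩ)`. -/

namespace Cfsg.Agent.H49

open Module Matrix

section Grp
variable {G : Type*} [Group G]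

theorem card_of_surj {B : Type*} [Group B] (ψ : G →* B)
    (hs : Function.Surjective ψ) : Nat.card G = Nat.card ψ.ker * Nat.card B := by
  rw [← Subgroup.card_mul_index ψ.ker, Subgroup.index_ker, MonoidHom.range_eq_top.mpr hs,
    Subgroup.card_top]

/-- The inner automorphism group of a centreless group. -/
theorem card_inn_of_center (h : Subgroup.center G = ⊥) :
    Nat.card ↥(Cfsg.Inn G) = Nat.card G := by
  have hinj : Function.Injective (MulAut.conj : G →* MulAut G) := by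
    rw [injective_iff_map_eq_one]
    intro a ha
    have hc : a ∈ Subgroup.center G := by
      rw [Subgroup.mem_center_iff]
      intro g
      have := congrArg (fun e : MulAut G => e g) ha
      simp only [MulAut.conj_apply, MulAut.one_apply] at this
      calc g * a = (a * g * a⁻¹) * a := by rw [this]
        _ = a * g := by group
    rw [h, Subgroup.mem_bot] at hc
    exact hc
  exact (Nat.card_congr (MonoidHom.ofInjective hinj).toEquiv).symm

end Grp

section
variable {ι : Type} [Fintype ι] [DecidableEq ι] {F : Type*} [Field F] [Fintype F]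

/-- `PΩ(Q)` has trivial centre. -/
theorem pOmega_center (Q : QuadraticForm F (ι → F))
    (hQ : (QuadraticMap.polarBilin Q).Nondegenerate) (h3 : HasTS3 Q) :
    Subgroup.center (Cfsg.POmega F (⇑Q)) = ⊥ := by
  have hsimple : IsSimpleGroup (Cfsg.POmega F (⇑Q)) := pOmega_simple Q hQ h3
  have hperf := omega_perfect Q hQ h3
  have hnorm : (Subgroup.center (Cfsg.POmega F (⇑Q))).Normal := inferInstance
  rcases hnorm.eq_bot_or_eq_top with h | h
  · exact h
  · exfalso
    have hcomm : ∀ x y : ↥(Cfsg.Omega F (⇑Q)),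
        (QuotientGroup.mk' (Subgroup.center ↥(Cfsg.Omega F (⇑Q)))) x
          * (QuotientGroup.mk' (Subgroup.center ↥(Cfsg.Omega F (⇑Q)))) y
        = (QuotientGroup.mk' (Subgroup.center ↥(Cfsg.Omega F (⇑Q)))) y
          * (QuotientGroup.mk' (Subgroup.center ↥(Cfsg.Omega F (⇑Q)))) x := by
      intro x y
      have hy : (QuotientGroup.mk' (Subgroup.center ↥(Cfsg.Omega F (⇑Q)))) y
          ∈ Subgroup.center (Cfsg.POmega F (⇑Q)) := by rw [h]; exact Subgroup.mem_top _
      exact Subgroup.mem_center_iff.mp hy _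
    have hle := commutator_le_ker_of_comm _ hcomm
    rw [hperf] at hle
    obtain ⟨a, b, hab⟩ := hsimple.toNontrivial
    obtain ⟨s, rfl⟩ := QuotientGroup.mk_surjective a
    obtain ⟨t, rfl⟩ := QuotientGroup.mk_surjective b
    have hs : (QuotientGroup.mk s : Cfsg.POmega F (⇑Q)) = 1 :=
      MonoidHom.mem_ker.mp (hle (Subgroup.mem_top s))
    have ht : (QuotientGroup.mk t : Cfsg.POmega F (⇑Q)) = 1 :=
      MonoidHom.mem_ker.mp (hle (Subgroup.mem_top t))
    exact hab (hs.trans ht.symm)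

theorem card_inn_pOmega (Q : QuadraticForm F (ι → F))
    (hQ : (QuadraticMap.polarBilin Q).Nondegenerate) (h3 : HasTS3 Q) :
    Nat.card ↥(Cfsg.Inn (Cfsg.POmega F (⇑Q))) = Nat.card (Cfsg.POmega F (⇑Q)) :=
  card_inn_of_center (pOmega_center Q hQ h3)

/-- The field automorphism of a semisimilarity is determined by the induced automorphism. -/
theorem sigma_unique (Q : QuadraticForm F (ι → F))
    (hQ : (QuadraticMap.polarBilin Q).Nondegenerate) (h3 : HasTS3 Q)
    {g g' : Matrix.GeneralLinearGroup ι F} {σ σ' : F ≃+* F}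
    {β : MulAut (Cfsg.POmega F (⇑Q))}
    (hp : Cfsg.IsSemisimilarityPair (⇑Q) g σ)
    (hi : Cfsg.IsInducedBySemilinearPOmega (⇑Q) g σ β)
    (hp' : Cfsg.IsSemisimilarityPair (⇑Q) g' σ')
    (hi' : Cfsg.IsInducedBySemilinearPOmega (⇑Q) g' σ' β) : σ = σ' := by
  have i2 := induced_inv hi'
  have p2 := pair_inv hp'
  have i3 := induced_mul hi i2 p2
  have p3 := pair_mul hp p2
  rw [mul_inv_cancel] at i3
  have h := sigma_eq_refl_of_induced_one Q hQ h3 _ _ p3 i3
  apply RingEquiv.ext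
  intro x
  have := congrArg (fun τ : F ≃+* F => τ (σ' x)) h
  simp only [RingEquiv.trans_apply, RingEquiv.symm_apply_apply, RingEquiv.refl_apply] at this
  exact this

/-- The homomorphism `Aut(PΩ) → Aut(F)` recording the field automorphism. -/
theorem exists_sigHom (Q : QuadraticForm F (ι → F))
    (hQ : (QuadraticMap.polarBilin Q).Nondegenerate) (h3 : HasTS3 Q)
    (htop : ∀ β : MulAut (Cfsg.POmega F (⇑Q)), β ∈ Cfsg.gammaPOmega F (⇑Q)) :
    ∃ Ψ : MulAut (Cfsg.POmega F (⇑Q)) →* RingAut F,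
      ∀ (β : MulAut (Cfsg.POmega F (⇑Q))) (g : Matrix.GeneralLinearGroup ι F) (σ : F ≃+* F),
        Cfsg.IsSemisimilarityPair (⇑Q) g σ → Cfsg.IsInducedBySemilinearPOmega (⇑Q) g σ β →
        Ψ β = σ := by
  have hex : ∀ β : MulAut (Cfsg.POmega F (⇑Q)), ∃ σ : F ≃+* F,
      ∃ g : Matrix.GeneralLinearGroup ι F, Cfsg.IsSemisimilarityPair (⇑Q) g σ ∧
        Cfsg.IsInducedBySemilinearPOmega (⇑Q) g σ β := by
    intro β
    obtain ⟨g, σ, hp, hi⟩ := exists_pair_of_mem_gamma (⇑Q) β (htop β)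
    exact ⟨σ, g, hp, hi⟩
  choose sg hsg using hex
  have hspec : ∀ (β : MulAut (Cfsg.POmega F (⇑Q))) (g : Matrix.GeneralLinearGroup ι F)
      (σ : F ≃+* F), Cfsg.IsSemisimilarityPair (⇑Q) g σ →
      Cfsg.IsInducedBySemilinearPOmega (⇑Q) g σ β → sg β = σ := by
    intro β g σ hp hi
    obtain ⟨g', hp', hi'⟩ := hsg β
    exact sigma_unique Q hQ h3 hp' hi' hp hi
  refine ⟨MonoidHom.mk' sg ?_, hspec⟩
  intro β₁ β₂
  obtain ⟨g₁, hp₁, hi₁⟩ := hsg β₁
  obtain ⟨g₂, hp₂, hi₂⟩ := hsg β₂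
  exact hspec (β₁ * β₂) _ _ (pair_mul hp₁ hp₂) (induced_mul hi₁ hi₂ hp₂)

/-- The kernel of the field-automorphism homomorphism is the image of the similarity group. -/
theorem sigHom_ker (Q : QuadraticForm F (ι → F))
    (htop : ∀ β : MulAut (Cfsg.POmega F (⇑Q)), β ∈ Cfsg.gammaPOmega F (⇑Q))
    (Ψ : MulAut (Cfsg.POmega F (⇑Q)) →* RingAut F)
    (hΨ : ∀ (β : MulAut (Cfsg.POmega F (⇑Q))) (g : Matrix.GeneralLinearGroup ι F) (σ : F ≃+* F),
        Cfsg.IsSemisimilarityPair (⇑Q) g σ → Cfsg.IsInducedBySemilinearPOmega (⇑Q) g σ β →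
        Ψ β = σ) :
    Ψ.ker = Cfsg.pgoAut F (⇑Q) := by
  apply le_antisymm
  · intro β hβ
    obtain ⟨g, σ, hp, hi⟩ := exists_pair_of_mem_gamma (⇑Q) β (htop β)
    have h1 : σ = RingEquiv.refl F := by
      rw [← hΨ β g σ hp hi, MonoidHom.mem_ker.mp hβ]
      rfl
    subst h1
    apply Subgroup.subset_closure
    exact ⟨g, hp, hi⟩
  · unfold Cfsg.pgoAut Cfsg.autSubgroupOf
    rw [Subgroup.closure_le]
    rintro β ⟨g, hg, hi⟩
    rw [SetLike.mem_coe, MonoidHom.mem_ker]
    exact hΨ β g (RingEquiv.refl F) hg hi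

/-- The order of `Aut(PΩ)` when every automorphism is induced by a semisimilarity and every
field automorphism occurs. -/
theorem card_aut_eq (Q : QuadraticForm F (ι → F))
    (hQ : (QuadraticMap.polarBilin Q).Nondegenerate) (h3 : HasTS3 Q)
    (htop : ∀ β : MulAut (Cfsg.POmega F (⇑Q)), β ∈ Cfsg.gammaPOmega F (⇑Q))
    (hsurj : ∀ σ : F ≃+* F, ∃ g : Matrix.GeneralLinearGroup ι F,
      Cfsg.IsSemisimilarityPair (⇑Q) g σ) :
    Nat.card (MulAut (Cfsg.POmega F (⇑Q)))
      = Nat.card ↥(Cfsg.pgoAut F (⇑Q)) * Nat.card (RingAut F) := by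
  obtain ⟨Ψ, hΨ⟩ := exists_sigHom Q hQ h3 htop
  have hker := sigHom_ker Q htop Ψ hΨ
  have hs : Function.Surjective Ψ := by
    intro σ
    obtain ⟨g, hg⟩ := hsurj σ
    exact ⟨semiAut (⇑Q) g σ hg, hΨ _ g σ hg (semiAut_induced (⇑Q) g σ hg)⟩
  rw [card_of_surj Ψ hs, hker]

end

end Cfsg.Agent.H49
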