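import Mathlib
import Cfsg.Agent.H49.AutOut1

set_option autoImplicit false
set_option linter.unusedSectionVars false
set_option linter.unusedSimpArgs false
set_option linter.unusedVariables false

/-! Helper lemmas (helper49): group-theoretic lemmas for outer automorphism groups, and
uniqueness of the automorphism induced by a semisimilarity. -/

namespace Cfsg.Agent.H49

open Module Matrix

section Grp
variable {A C : Type*} [Group A] [Group C]

/-- The kernel of the map induced on a quotient. -/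
theorem card_ker_lift (N : Subgroup A) [N.Normal] (Ψ : A →* C) (hN : N ≤ Ψ.ker) :
    Nat.card ↥(QuotientGroup.lift N Ψ hN).ker = N.relIndex Ψ.ker := by
  have h1 : (QuotientGroup.lift N Ψ hN).ker = Ψ.ker.map (QuotientGroup.mk' N) := by
    ext x
    obtain ⟨a, rfl⟩ := QuotientGroup.mk_surjective x
    constructor
    · intro h
      exact ⟨a, h, rfl⟩
    · rintro ⟨b, hb, hba⟩
      rw [MonoidHom.mem_ker, ← hba]
      exact hb
  have h2 := Subgroup.relIndex_comap (H := (⊥ : Subgroup (A ⧸ N))) (QuotientGroup.mk' N) Ψ.ker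
  rw [MonoidHom.comap_bot, QuotientGroup.ker_mk', Subgroup.relIndex_bot_left] at h2
  rw [h1, ← h2]

/-- A normal subgroup of order two is central. -/
theorem central_of_card_two (K : Subgroup A) [K.Normal] (hK : Nat.card ↥K = 2) (k : A)
    (hk : k ∈ K) (x : A) : x * k = k * x := by
  have h1 : x * k * x⁻¹ ∈ K := Subgroup.Normal.conj_mem inferInstance k hk x
  by_cases hk1 : k = 1
  · subst hk1
    simp
  · obtain ⟨y, -, hy⟩ := (Nat.card_eq_two_iff' (1 : ↥K)).mp hK
    have e1 : (⟨k, hk⟩ : ↥K) = y := hy _ (fun h => hk1 (congrArg Subtype.val h))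
    have e2 : (⟨x * k * x⁻¹, h1⟩ : ↥K) = y := hy _ (fun h => hk1 (by
      have h' : x * k * x⁻¹ = 1 := congrArg Subtype.val h
      calc k = x⁻¹ * (x * k * x⁻¹) * x := by group
        _ = 1 := by rw [h']; group))
    have e3 : x * k * x⁻¹ = k := congrArg Subtype.val (e2.trans e1.symm)
    calc x * k = (x * k * x⁻¹) * x := by group
      _ = k * x := by rw [e3]

/-- A split extension with central kernel is a direct product. -/
theorem nonempty_prod_of_section (ψ : A →* C) (s : C →* A) (hs : ∀ c, ψ (s c) = c)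
    (hcen : ∀ k ∈ ψ.ker, ∀ c : C, s c * k = k * s c) :
    Nonempty (A ≃* ↥ψ.ker × C) := by
  obtain ⟨Φ, hΦ⟩ : ∃ Φ : ↥ψ.ker × C →* A, ∀ kc, Φ kc = (kc.1 : A) * s kc.2 := by
    refine ⟨MonoidHom.mk' (fun kc => (kc.1 : A) * s kc.2) ?_, fun kc => rfl⟩
    rintro ⟨k, c⟩ ⟨k', c'⟩
    show ((k * k' : ↥ψ.ker) : A) * s (c * c') = (k : A) * s c * ((k' : A) * s c')
    rw [map_mul, Subgroup.coe_mul]
    have := hcen k' k'.2 c
    calc (k : A) * (k' : A) * (s c * s c') = (k : A) * ((k' : A) * s c) * s c' := by group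
      _ = (k : A) * (s c * (k' : A)) * s c' := by rw [this]
      _ = _ := by group
  have hinj : Function.Injective Φ := by
    rw [injective_iff_map_eq_one]
    rintro ⟨k, c⟩ h
    rw [hΦ] at h
    have h1 := congrArg ψ h
    rw [map_mul, MonoidHom.mem_ker.mp k.2, one_mul, hs, map_one] at h1
    have h1' : c = 1 := h1
    subst h1'
    rw [map_one, mul_one] at h
    exact Prod.ext (Subtype.ext h) rfl
  have hsurj : Function.Surjective Φ := by
    intro x
    have hk : x * (s (ψ x))⁻¹ ∈ ψ.ker := by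
      rw [MonoidHom.mem_ker, map_mul, map_inv, hs, mul_inv_cancel]
    refine ⟨(⟨x * (s (ψ x))⁻¹, hk⟩, ψ x), ?_⟩
    rw [hΦ]
    show x * (s (ψ x))⁻¹ * s (ψ x) = x
    group
  exact ⟨(MulEquiv.ofBijective Φ ⟨hinj, hsurj⟩).symm⟩

/-- The quotient by `N` of a group with a split surjection onto a cyclic group of order `f`
whose kernel contains `N` with index two is `C₂ × C_f`. -/
theorem quot_equiv_two_prod (N : Subgroup A) [N.Normal] (Ψ : A →* C) (s : C →* A)
    (hs : ∀ c, Ψ (s c) = c) (hN : N ≤ Ψ.ker) (hidx : N.relIndex Ψ.ker = 2) (f : ℕ)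
    (hC : IsCyclic C) (hcard : Nat.card C = f) :
    Nonempty (A ⧸ N ≃* Multiplicative (ZMod 2 × ZMod f)) := by
  subst hcard
  have hK : Nat.card ↥(QuotientGroup.lift N Ψ hN).ker = 2 := by
    rw [card_ker_lift, hidx]
  obtain ⟨e⟩ := nonempty_prod_of_section (QuotientGroup.lift N Ψ hN)
    ((QuotientGroup.mk' N).comp s) (fun c => hs c)
    (fun k hk c => central_of_card_two _ hK k hk _)
  have e1 : ↥(QuotientGroup.lift N Ψ hN).ker ≃* Multiplicative (ZMod 2) :=
    mulEquivOfPrimeCardEq (p := 2) hK (by rw [Nat.card_eq_fintype_card]; rfl)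
  have e2 : C ≃* Multiplicative (ZMod (Nat.card C)) := (zmodCyclicMulEquiv hC).symm
  exact ⟨(e.trans (MulEquiv.prodCongr e1 e2)).trans
    (MulEquiv.prodMultiplicative (G := ZMod 2) (H := ZMod (Nat.card C))).symm⟩

end Grp

section
variable {ι : Type} [Fintype ι] [DecidableEq ι] {F : Type*} [Field F]

/-- The automorphism induced by a semisimilarity is unique. -/
theorem induced_unique {Qf : (ι → F) → F} {g : Matrix.GeneralLinearGroup ι F} {σ : F ≃+* F}
    (hp : Cfsg.IsSemisimilarityPair Qf g σ) {β β' : MulAut (Cfsg.POmega F Qf)}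
    (hi : Cfsg.IsInducedBySemilinearPOmega Qf g σ β)
    (hi' : Cfsg.IsInducedBySemilinearPOmega Qf g σ β') : β = β' := by
  apply MulEquiv.ext
  intro x
  obtain ⟨s, rfl⟩ := QuotientGroup.mk_surjective x
  rw [induced_semiConj hp hi s, induced_semiConj hp hi' s]

/-- A family of semisimilarities `(1, σ)` gives a homomorphism `Aut(F) → Aut(PΩ)`. -/
theorem exists_fieldHom (Qf : (ι → F) → F)
    (hp : ∀ σ : F ≃+* F, Cfsg.IsSemisimilarityPair Qf (1 : Matrix.GeneralLinearGroup ι F) σ) :
    ∃ s : RingAut F →* MulAut (Cfsg.POmega F Qf), ∀ σ : RingAut F,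
      Cfsg.IsInducedBySemilinearPOmega Qf (1 : Matrix.GeneralLinearGroup ι F) σ (s σ) := by
  refine ⟨MonoidHom.mk' (fun σ => semiAut Qf 1 σ (hp σ)) ?_,
    fun σ => semiAut_induced Qf 1 σ (hp σ)⟩
  intro σ τ
  have h1 := induced_mul (semiAut_induced Qf 1 σ (hp σ)) (semiAut_induced Qf 1 τ (hp τ)) (hp τ)
  rw [map_one, mul_one] at h1
  exact induced_unique (hp (σ * τ)) (semiAut_induced Qf 1 (σ * τ) (hp (σ * τ))) h1

end

end Cfsg.Agent.H49
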