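import Cfsg.Agent.H46.OSChain
import Cfsg.Prelude.Def_ChevE7
import Cfsg.Prelude.Def_ChevE8

/-! helper49: row chunks of the chain-table fact (helper46's `chainChkR`) for `chevE7`, part B. -/

set_option autoImplicit false

namespace Cfsg.Agent.H49.OS

open Cfsg Cfsg.Lie Cfsg.Agent.H46.OS

set_option maxRecDepth 100000 in
theorem chkE7_70 : chainChkR chevE7 70 84 = true := by decide +kernel

set_option maxRecDepth 100000 in
theorem chkE7_84 : chainChkR chevE7 84 98 = true := by decide +kernel

set_option maxRecDepth 100000 in
theorem chkE7_98 : chainChkR chevE7 98 112 = true := by decide +kernel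

set_option maxRecDepth 100000 in
theorem chkE7_112 : chainChkR chevE7 112 126 = true := by decide +kernel

end Cfsg.Agent.H49.OS
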