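import Cfsg.Agent.H46.OSChain
import Cfsg.Prelude.Def_ChevE7
import Cfsg.Prelude.Def_ChevE8

/-! helper49: row chunks of the chain-table fact (helper46's `chainChkR`) for `chevE8`, part C. -/

set_option autoImplicit false

namespace Cfsg.Agent.H49.OS

open Cfsg Cfsg.Lie Cfsg.Agent.H46.OS

set_option maxRecDepth 100000 in
theorem chkE8_120 : chainChkR chevE8 120 130 = true := by decide +kernel

set_option maxRecDepth 100000 in
theorem chkE8_130 : chainChkR chevE8 130 140 = true := by decide +kernel

set_option maxRecDepth 100000 in
theorem chkE8_140 : chainChkR chevE8 140 150 = true := by decide +kernel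

set_option maxRecDepth 100000 in
theorem chkE8_150 : chainChkR chevE8 150 160 = true := by decide +kernel

set_option maxRecDepth 100000 in
theorem chkE8_160 : chainChkR chevE8 160 170 = true := by decide +kernel

set_option maxRecDepth 100000 in
theorem chkE8_170 : chainChkR chevE8 170 180 = true := by decide +kernel

end Cfsg.Agent.H49.OS
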