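import Cfsg.Agent.H46.OSChain
import Cfsg.Prelude.Def_ChevE7
import Cfsg.Prelude.Def_ChevE8

/-! helper49: row chunks of the chain-table fact (helper46's `chainChkR`) for `chevE8`, part D. -/

set_option autoImplicit false

namespace Cfsg.Agent.H49.OS

open Cfsg Cfsg.Lie Cfsg.Agent.H46.OS

set_option maxRecDepth 100000 in
theorem chkE8_180 : chainChkR chevE8 180 190 = true := by decide +kernel

set_option maxRecDepth 100000 in
theorem chkE8_190 : chainChkR chevE8 190 200 = true := by decide +kernel

set_option maxRecDepth 100000 in
theorem chkE8_200 : chainChkR chevE8 200 210 = true := by decide +kernel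

set_option maxRecDepth 100000 in
theorem chkE8_210 : chainChkR chevE8 210 220 = true := by decide +kernel

set_option maxRecDepth 100000 in
theorem chkE8_220 : chainChkR chevE8 220 230 = true := by decide +kernel

set_option maxRecDepth 100000 in
theorem chkE8_230 : chainChkR chevE8 230 240 = true := by decide +kernel

end Cfsg.Agent.H49.OS
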