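import Cfsg.Agent.H49.ChainE7A
import Cfsg.Agent.H49.ChainE7B
import Cfsg.Agent.H49.ChainE8A
import Cfsg.Agent.H49.ChainE8B
import Cfsg.Agent.H49.ChainE8C
import Cfsg.Agent.H49.ChainE8D

/-! helper49: the chain-table fact `Cfsg.Agent.H46.OS.ChainF` for `chevE7` and `chevE8`
(for helper46 / S2156 / S2159), assembled from row chunks checked by the kernel. -/

set_option autoImplicit false

namespace Cfsg.Agent.H49.OS

open Cfsg Cfsg.Lie Cfsg.Agent.H46.OS

theorem chain_E7 : ChainF chevE7 := by
  intro r hr s hs k hk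
  have hn : chevE7.nroots = 126 := by decide
  rw [hn] at hr
  by_cases h0 : r < 14
  · exact chainChkR_sound _ 0 14 chkE7_0 r (by omega) h0 s hs k hk
  by_cases h1 : r < 28
  · exact chainChkR_sound _ 14 28 chkE7_14 r (by omega) h1 s hs k hk
  by_cases h2 : r < 42
  · exact chainChkR_sound _ 28 42 chkE7_28 r (by omega) h2 s hs k hk
  by_cases h3 : r < 56
  · exact chainChkR_sound _ 42 56 chkE7_42 r (by omega) h3 s hs k hk
  by_cases h4 : r < 70
  · exact chainChkR_sound _ 56 70 chkE7_56 r (by omega) h4 s hs k hk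
  by_cases h5 : r < 84
  · exact chainChkR_sound _ 70 84 chkE7_70 r (by omega) h5 s hs k hk
  by_cases h6 : r < 98
  · exact chainChkR_sound _ 84 98 chkE7_84 r (by omega) h6 s hs k hk
  by_cases h7 : r < 112
  · exact chainChkR_sound _ 98 112 chkE7_98 r (by omega) h7 s hs k hk
  exact chainChkR_sound _ 112 126 chkE7_112 r (by omega) (by omega) s hs k hk

theorem chain_E8 : ChainF chevE8 := by
  intro r hr s hs k hk
  have hn : chevE8.nroots = 240 := by decide
  rw [hn] at hr
  by_cases h0 : r < 10
  · exact chainChkR_sound _ 0 10 chkE8_0 r (by omega) h0 s hs k hk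
  by_cases h1 : r < 20
  · exact chainChkR_sound _ 10 20 chkE8_10 r (by omega) h1 s hs k hk
  by_cases h2 : r < 30
  · exact chainChkR_sound _ 20 30 chkE8_20 r (by omega) h2 s hs k hk
  by_cases h3 : r < 40
  · exact chainChkR_sound _ 30 40 chkE8_30 r (by omega) h3 s hs k hk
  by_cases h4 : r < 50
  · exact chainChkR_sound _ 40 50 chkE8_40 r (by omega) h4 s hs k hk
  by_cases h5 : r < 60
  · exact chainChkR_sound _ 50 60 chkE8_50 r (by omega) h5 s hs k hk
  by_cases h6 : r < 70
  · exact chainChkR_sound _ 60 70 chkE8_60 r (by omega) h6 s hs k hk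
  by_cases h7 : r < 80
  · exact chainChkR_sound _ 70 80 chkE8_70 r (by omega) h7 s hs k hk
  by_cases h8 : r < 90
  · exact chainChkR_sound _ 80 90 chkE8_80 r (by omega) h8 s hs k hk
  by_cases h9 : r < 100
  · exact chainChkR_sound _ 90 100 chkE8_90 r (by omega) h9 s hs k hk
  by_cases h10 : r < 110
  · exact chainChkR_sound _ 100 110 chkE8_100 r (by omega) h10 s hs k hk
  by_cases h11 : r < 120
  · exact chainChkR_sound _ 110 120 chkE8_110 r (by omega) h11 s hs k hk
  by_cases h12 : r < 130
  · exact chainChkR_sound _ 120 130 chkE8_120 r (by omega) h12 s hs k hk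
  by_cases h13 : r < 140
  · exact chainChkR_sound _ 130 140 chkE8_130 r (by omega) h13 s hs k hk
  by_cases h14 : r < 150
  · exact chainChkR_sound _ 140 150 chkE8_140 r (by omega) h14 s hs k hk
  by_cases h15 : r < 160
  · exact chainChkR_sound _ 150 160 chkE8_150 r (by omega) h15 s hs k hk
  by_cases h16 : r < 170
  · exact chainChkR_sound _ 160 170 chkE8_160 r (by omega) h16 s hs k hk
  by_cases h17 : r < 180
  · exact chainChkR_sound _ 170 180 chkE8_170 r (by omega) h17 s hs k hk
  by_cases h18 : r < 190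
  · exact chainChkR_sound _ 180 190 chkE8_180 r (by omega) h18 s hs k hk
  by_cases h19 : r < 200
  · exact chainChkR_sound _ 190 200 chkE8_190 r (by omega) h19 s hs k hk
  by_cases h20 : r < 210
  · exact chainChkR_sound _ 200 210 chkE8_200 r (by omega) h20 s hs k hk
  by_cases h21 : r < 220
  · exact chainChkR_sound _ 210 220 chkE8_210 r (by omega) h21 s hs k hk
  by_cases h22 : r < 230
  · exact chainChkR_sound _ 220 230 chkE8_220 r (by omega) h22 s hs k hk
  exact chainChkR_sound _ 230 240 chkE8_230 r (by omega) (by omega) s hs k hk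

example : Cfsg.Agent.H46.OS.ChainF Cfsg.Lie.chevE7 := chain_E7
example : Cfsg.Agent.H46.OS.ChainF Cfsg.Lie.chevE8 := chain_E8

end Cfsg.Agent.H49.OS

#print axioms Cfsg.Agent.H49.OS.chain_E7
#print axioms Cfsg.Agent.H49.OS.chain_E8
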