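import Mathlib

set_option autoImplicit false
set_option linter.unusedSectionVars false
set_option linter.unusedSimpArgs false
set_option linter.unusedVariables false

/-! Helper lemmas (helper49): Galois descent for a cyclic group of field automorphisms.
These are copies of lemmas of helper50 (`Cfsg.Agent.H50.FieldAutLang`), restated here so that
the orthogonal-group files do not depend on the `PSL` development. -/

namespace Cfsg.Agent.H49.GalDesc

open Matrix

section descent

variable {F : Type*} [Field F]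

/-- Independence of the characters `σ^0, …, σ^{r-1}`. -/
theorem char_indep (σ : RingAut F) {r : ℕ} (hr : orderOf σ = r) (c : Fin r → F)
    (h : ∀ a : F, ∑ i : Fin r, c i * (σ ^ (i : ℕ)) a = 0) : ∀ i, c i = 0 := by
  have hli := linearIndependent_monoidHom F F
  have hinj : Function.Injective
      (fun i : Fin r => (((σ ^ (i : ℕ) : RingAut F) : F ≃+* F) : F →* F)) := by
    intro i j hij
    apply Fin.ext
    apply pow_injOn_Iio_orderOf (x := σ) (by rw [Set.mem_Iio, hr]; exact i.2)
      (by rw [Set.mem_Iio, hr]; exact j.2)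
    apply RingEquiv.ext
    intro a
    exact DFunLike.congr_fun hij a
  have hli' := hli.comp _ hinj
  rw [Fintype.linearIndependent_iff] at hli'
  apply hli'
  funext a
  have := h a
  simpa using this

/-- Galois descent: the fixed points of a `σ`-semilinear map of finite order span. -/
theorem span_fixed (σ : RingAut F) {r : ℕ} (hr : orderOf σ = r) (hr0 : 0 < r)
    {V : Type*} [AddCommGroup V] [Module F V] (S : V → V)
    (hadd : ∀ u v, S (u + v) = S u + S v) (hsmul : ∀ (a : F) v, S (a • v) = σ a • S v)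
    (hS : ∀ v, S^[r] v = v) : Submodule.span F {v : V | S v = v} = ⊤ := by
  classical
  by_contra hne
  obtain ⟨ψ, hψ0, hψ⟩ := Submodule.exists_le_ker_of_lt_top _ (lt_top_iff_ne_top.mpr hne)
  apply hψ0
  have hS0 : S 0 = 0 := by
    have := hadd 0 0
    rw [add_zero] at this
    exact left_eq_add.mp this
  have hiter_smul : ∀ (i : ℕ) (a : F) (v : V), S^[i] (a • v) = (σ ^ i) a • S^[i] v := by
    intro i
    induction i with
    | zero => intro a v; simp
    | succ i ih =>
      intro a v
      rw [Function.iterate_succ_apply', ih, hsmul, Function.iterate_succ_apply', pow_succ']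
      rfl
  have hsum : ∀ (s : Finset ℕ) (g : ℕ → V), S (∑ i ∈ s, g i) = ∑ i ∈ s, S (g i) := by
    intro s g
    induction s using Finset.induction_on with
    | empty => simpa using hS0
    | insert a s ha ih => rw [Finset.sum_insert ha, Finset.sum_insert ha, hadd, ih]
  have hT : ∀ w, S (∑ i ∈ Finset.range r, S^[i] w) = ∑ i ∈ Finset.range r, S^[i] w := by
    intro w
    rw [hsum]
    have h1 : ∀ i, S (S^[i] w) = S^[i + 1] w := fun i => (Function.iterate_succ_apply' S i w).symm
    simp only [h1]
    have h2 := Finset.sum_range_succ' (fun i => S^[i] w) r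
    have h3 := Finset.sum_range_succ (fun i => S^[i] w) r
    rw [h3, hS w] at h2
    simp only [Function.iterate_zero, id_eq] at h2
    exact (add_right_cancel h2).symm
  ext v
  have key : ∀ a : F, ∑ i : Fin r, ψ (S^[(i : ℕ)] v) * (σ ^ (i : ℕ)) a = 0 := by
    intro a
    have h1 : ψ (∑ i ∈ Finset.range r, S^[i] (a • v)) = 0 :=
      LinearMap.mem_ker.mp (hψ (Submodule.subset_span (hT (a • v))))
    rw [map_sum] at h1
    rw [← h1, Fin.sum_univ_eq_sum_range (fun i => ψ (S^[i] v) * (σ ^ i) a) r]
    apply Finset.sum_congr rfl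
    intro i _
    rw [hiter_smul, map_smul, smul_eq_mul, mul_comm]
  have := char_indep σ hr (fun i => ψ (S^[(i : ℕ)] v)) key ⟨0, hr0⟩
  simpa using this

variable {n : ℕ}

/-- `c σ(c) ⋯ σ^{k-1}(c)`. -/
def nrmF (σ : RingAut F) (k : ℕ) (c : F) : F := ∏ i ∈ Finset.range k, (σ ^ i) c

theorem nrmF_zero (σ : RingAut F) (c : F) : nrmF σ 0 c = 1 := by
  simp [nrmF]

theorem nrmF_succ (σ : RingAut F) (k : ℕ) (c : F) :
    nrmF σ (k + 1) c = c * σ (nrmF σ k c) := by
  unfold nrmF
  rw [Finset.prod_range_succ', map_prod, mul_comm]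
  congr 1
  apply Finset.prod_congr rfl
  intro i _
  rw [pow_succ']
  rfl

theorem nrmF_mul (σ : RingAut F) (k : ℕ) (a b : F) :
    nrmF σ k (a * b) = nrmF σ k a * nrmF σ k b := by
  unfold nrmF
  rw [← Finset.prod_mul_distrib]
  apply Finset.prod_congr rfl
  intro i _
  rw [map_mul]

theorem nrmF_one (σ : RingAut F) (k : ℕ) : nrmF σ k 1 = 1 := by
  unfold nrmF
  simp

theorem nrmF_ne_zero (σ : RingAut F) (k : ℕ) {c : F} (hc : c ≠ 0) : nrmF σ k c ≠ 0 := by
  unfold nrmF
  rw [Finset.prod_ne_zero_iff]
  intro i _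
  exact (map_ne_zero _).mpr hc

theorem nrmF_map (σ : RingAut F) (k : ℕ) (c : F) : nrmF σ k (σ c) = σ (nrmF σ k c) := by
  unfold nrmF
  rw [map_prod]
  apply Finset.prod_congr rfl
  intro i _
  have h : σ ^ i * σ = σ * σ ^ i := (Commute.pow_self σ i).eq
  exact DFunLike.congr_fun h c

theorem nrmF_fixed (σ : RingAut F) {r : ℕ} (hr : orderOf σ = r) {c : F} (hc : c ≠ 0) :
    σ (nrmF σ r c) = nrmF σ r c := by
  have hσr : σ ^ r = 1 := by rw [← hr]; exact pow_orderOf_eq_one σ
  have h1 := nrmF_succ σ r c
  have h2 : nrmF σ (r + 1) c = nrmF σ r c * c := by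
    unfold nrmF
    rw [Finset.prod_range_succ, hσr]
    rfl
  rw [h2, mul_comm] at h1
  exact (mul_left_cancel₀ hc h1).symm

/-- Hilbert 90 for a field automorphism of finite order. -/
theorem exists_h90_cyc (σ : RingAut F) {r : ℕ} (hr : orderOf σ = r) (hr0 : 0 < r)
    (c : F) (hc : nrmF σ r c = 1) : ∃ e : F, e ≠ 0 ∧ c * σ e = e := by
  have hσr : σ ^ r = 1 := by rw [← hr]; exact pow_orderOf_eq_one σ
  have hit : ∀ (k : ℕ) (a : F), (fun a => c * σ a)^[k] a = nrmF σ k c * (σ ^ k) a := by
    intro k
    induction k with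
    | zero => intro a; simp [nrmF_zero]
    | succ k ih =>
      intro a
      rw [Function.iterate_succ_apply', ih, nrmF_succ, map_mul, pow_succ']
      show c * (σ (nrmF σ k c) * σ ((σ ^ k) a)) = c * σ (nrmF σ k c) * σ ((σ ^ k) a)
      ring
  have hspan := span_fixed σ hr hr0 (V := F) (fun a => c * σ a)
    (fun u v => by simp only [map_add]; ring)
    (fun a v => by simp only [smul_eq_mul, map_mul]; ring)
    (fun v => by rw [hit, hc, hσr, one_mul]; rfl)
  by_contra hcon
  push Not at hcon
  have hle : Submodule.span F {v : F | c * σ v = v} ≤ ⊥ := by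
    rw [Submodule.span_le]
    intro v hv
    by_contra hv0
    exact hcon v hv0 hv
  rw [hspan] at hle
  have h1 : (1 : F) ∈ (⊥ : Submodule F F) := hle Submodule.mem_top
  exact one_ne_zero ((Submodule.mem_bot F).mp h1)

end descent

section finite

variable {F : Type*} [Field F] [Finite F]

/-- Norm surjectivity for a field automorphism of a finite field. -/
theorem exists_nrm_eq (σ : RingAut F) {r : ℕ} (hr : orderOf σ = r) (hr0 : 0 < r)
    (c : F) (hc0 : c ≠ 0) (hc : σ c = c) : ∃ t : F, t ≠ 0 ∧ nrmF σ r t = c := by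
  classical
  let s : Fˣ →* Fˣ := Units.map ((σ : F ≃+* F) : F →* F)
  have hs : ∀ t : Fˣ, ((s t : Fˣ) : F) = σ (t : F) := fun t => rfl
  let N : Fˣ →* Fˣ :=
    { toFun := fun t => Units.mk0 (nrmF σ r (t : F)) (nrmF_ne_zero σ r t.ne_zero)
      map_one' := by
        apply Units.ext
        rw [Units.val_mk0, Units.val_one, nrmF_one]
      map_mul' := fun a b => by
        apply Units.ext
        rw [Units.val_mk0, Units.val_mul, Units.val_mul, Units.val_mk0, Units.val_mk0, nrmF_mul] }
  let T : Fˣ →* Fˣ := MonoidHom.id Fˣ / s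
  have hN : ∀ t, ((N t : Fˣ) : F) = nrmF σ r (t : F) := fun t => rfl
  have hT : ∀ t, T t = t / s t := fun t => rfl
  have h1 : T.range ≤ N.ker := by
    rintro _ ⟨t, rfl⟩
    rw [MonoidHom.mem_ker, hT, map_div]
    have e : N (s t) = N t := by
      apply Units.ext
      rw [hN, hN, hs, nrmF_map, nrmF_fixed σ hr t.ne_zero]
    rw [e]
    exact div_self' _
  have h2 : N.ker ≤ T.range := by
    intro t ht
    rw [MonoidHom.mem_ker] at ht
    have ht' : nrmF σ r (t : F) = 1 := by
      have := congrArg (fun x : Fˣ => (x : F)) ht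
      simpa [hN] using this
    obtain ⟨e, he0, he⟩ := exists_h90_cyc σ hr hr0 (t : F) ht'
    refine ⟨Units.mk0 e he0, ?_⟩
    rw [hT]
    apply Units.ext
    rw [Units.val_div_eq_div_val, hs, Units.val_mk0]
    have h0 : σ e ≠ 0 := (map_ne_zero _).mpr he0
    rw [div_eq_iff h0]
    exact he.symm
  have h3 : N.range ≤ T.ker := by
    rintro _ ⟨t, rfl⟩
    rw [MonoidHom.mem_ker, hT]
    have e : s (N t) = N t := by
      apply Units.ext
      rw [hs, hN, nrmF_fixed σ hr t.ne_zero]
    rw [e]
    exact div_self' _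
  have h4 : N.ker = T.range := le_antisymm h2 h1
  have h5 : Nat.card N.ker * Nat.card N.range = Nat.card Fˣ := by
    rw [← Subgroup.index_ker]
    exact Subgroup.card_mul_index _
  have h6 : Nat.card T.ker * Nat.card T.range = Nat.card Fˣ := by
    rw [← Subgroup.index_ker]
    exact Subgroup.card_mul_index _
  have h7 : Nat.card N.range = Nat.card T.ker := by
    rw [h4] at h5
    have hpos : 0 < Nat.card T.range := Nat.card_pos
    have : Nat.card T.range * Nat.card N.range = Nat.card T.range * Nat.card T.ker := by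
      rw [h5, mul_comm, h6]
    exact Nat.eq_of_mul_eq_mul_left hpos this
  have h8 : N.range = T.ker := Subgroup.eq_of_le_of_card_ge h3 h7.ge
  have h9 : Units.mk0 c hc0 ∈ T.ker := by
    rw [MonoidHom.mem_ker, hT]
    apply Units.ext
    rw [Units.val_div_eq_div_val, hs, Units.val_mk0, hc]
    simp [hc0]
  rw [← h8] at h9
  obtain ⟨t, ht⟩ := h9
  refine ⟨(t : F), t.ne_zero, ?_⟩
  have := congrArg (fun x : Fˣ => (x : F)) ht
  simpa [hN] using this

/-- The fixed field of `σ`. -/
def fixF (σ : RingAut F) : Subfield F := FixedPoints.subfield (Subgroup.zpowers σ) F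

theorem mem_fixF (σ : RingAut F) (a : F) : a ∈ fixF σ ↔ σ a = a := by
  constructor
  · intro h
    exact h ⟨σ, Subgroup.mem_zpowers σ⟩
  · intro h g
    have h1 : σ ∈ MulAction.stabilizer (RingAut F) a := h
    have h2 : Subgroup.zpowers σ ≤ MulAction.stabilizer (RingAut F) a :=
      (Subgroup.zpowers_le).mpr h1
    exact h2 g.2

end finite

end Cfsg.Agent.H49.GalDesc
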