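import Mathlib
import Cfsg.Agent.H49.MinusForm
import Cfsg.Agent.H49.FieldAutCyc

set_option autoImplicit false
set_option linter.unusedSectionVars false
set_option linter.unusedSimpArgs false
set_option linter.unusedVariables false
set_option linter.style.haveILetI false

/-! Helper lemmas (helper49): the Frobenius map of the quadratic extension attached to an
anisotropic binary form over a finite field, in coordinates. -/

namespace Cfsg.Agent.H49

open QuadraticAlgebra

section
variable {F : Type*} [Field F] [Fintype F]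

theorem qa_fact (a b : F)
    (hab : ∀ z₁ z₂ : F, z₁ ^ 2 + a * z₁ * z₂ + b * z₂ ^ 2 = 0 → z₁ = 0 ∧ z₂ = 0) :
    Fact (∀ r : F, r ^ 2 ≠ -b + a * r) := ⟨fun r h => by
  have h1 := (hab r (-1) (by rw [h]; ring)).2
  exact one_ne_zero (neg_eq_zero.mp h1)⟩

/-- Powers by a power of the characteristic in a quadratic algebra. -/
theorem qa_pow_char (a' b' : F) (p : ℕ) [Fact p.Prime] [CharP F p] (n : ℕ)
    (z : QuadraticAlgebra F a' b') :
    z ^ p ^ n = ⟨z.re ^ p ^ n + z.im ^ p ^ n * ((ω : QuadraticAlgebra F a' b') ^ p ^ n).re,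
      z.im ^ p ^ n * ((ω : QuadraticAlgebra F a' b') ^ p ^ n).im⟩ := by
  haveI : CharP (QuadraticAlgebra F a' b') p :=
    charP_of_injective_algebraMap (algebraMap_injective (R := F) (a := a') (b := b')) p
  have hz : z = algebraMap F (QuadraticAlgebra F a' b') z.re + z.im • ω := by
    rw [← mk_eq_add_smul_omega]
  have e1 : (algebraMap F (QuadraticAlgebra F a' b') z.re) ^ p ^ n
      = algebraMap F (QuadraticAlgebra F a' b') (z.re ^ p ^ n) := (map_pow _ _ _).symm
  conv_lhs => rw [hz]
  rw [add_pow_char_pow, smul_pow, e1]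
  ext
  · simp only [re_add, algebraMap_re, re_smul, smul_eq_mul]
  · simp only [im_add, algebraMap_im, im_smul, smul_eq_mul, zero_add]

/-- The `q`-th power of the generator is its conjugate. -/
theorem qa_omega_pow_card (a b : F)
    (hab : ∀ z₁ z₂ : F, z₁ ^ 2 + a * z₁ * z₂ + b * z₂ ^ 2 = 0 → z₁ = 0 ∧ z₂ = 0) :
    (ω : QuadraticAlgebra F (-b) a) ^ Fintype.card F = ⟨a, -1⟩ := by
  haveI := qa_fact a b hab
  obtain ⟨p, hp⟩ := CharP.exists F
  haveI := hp
  haveI : Fact p.Prime := ⟨CharP.char_is_prime F p⟩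
  obtain ⟨n, -, hn⟩ := FiniteField.card F p
  haveI : CharP (QuadraticAlgebra F (-b) a) p :=
    charP_of_injective_algebraMap (algebraMap_injective (R := F) (a := -b) (b := a)) p
  obtain ⟨y, hy⟩ : ∃ y : QuadraticAlgebra F (-b) a, y = ω ^ Fintype.card F := ⟨_, rfl⟩
  rw [← hy]
  have hω : (ω : QuadraticAlgebra F (-b) a) * ω
      = algebraMap F _ (-b) + algebraMap F _ a * ω := by
    rw [omega_mul_omega_eq_mk]
    ext
    · simp only [re_add, algebraMap_re, re_mul, algebraMap_im, omega_re, omega_im]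
      ring
    · simp only [im_add, algebraMap_re, im_mul, algebraMap_im, omega_re, omega_im]
      ring
  have h1 : y * y = algebraMap F _ (-b) + algebraMap F _ a * y := by
    have e := congrArg (fun t : QuadraticAlgebra F (-b) a => t ^ Fintype.card F) hω
    beta_reduce at e
    rw [mul_pow, ← hy] at e
    rw [e, hn, add_pow_char_pow, mul_pow, ← map_pow, ← map_pow, ← hn, FiniteField.pow_card,
      FiniteField.pow_card, ← hy]
  have h2 : (y - ω) * (y - (algebraMap F _ a - ω)) = 0 := by
    have e : (y - ω) * (y - (algebraMap F (QuadraticAlgebra F (-b) a) a - ω))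
        = y * y - algebraMap F _ a * y + algebraMap F _ a * ω - ω * ω := by ring
    rw [e, h1, hω]
    ring
  have hq1 : 1 < Fintype.card F := Fintype.one_lt_card
  rcases mul_eq_zero.mp h2 with h3 | h3
  · exfalso
    have hyω : y = ω := sub_eq_zero.mp h3
    have hall : ∀ z : QuadraticAlgebra F (-b) a, z ^ Fintype.card F = z := by
      intro z
      rw [hn, qa_pow_char (-b) a p n z, ← hn, ← hy, hyω, FiniteField.pow_card,
        FiniteField.pow_card]
      ext
      · simp
      · simp
    haveI : Finite (QuadraticAlgebra F (-b) a) := Finite.of_equiv _ (equivProd (-b) a).symm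
    have hle := fin_domain_pow_card_le (E := QuadraticAlgebra F (-b) a) (Fintype.card F) hq1 hall
    rw [Nat.card_congr (equivProd (-b) a), Nat.card_prod, Nat.card_eq_fintype_card] at hle
    nlinarith
  · have hyω : y = algebraMap F _ a - ω := sub_eq_zero.mp h3
    rw [hyω]
    ext
    · simp
    · simp

/-- One step of the Frobenius map of the quadratic extension, in coordinates. -/
def frobStep (p : ℕ) (u w : F) (z : Fin 2 → F) : Fin 2 → F :=
  ![z 0 ^ p + u * z 1 ^ p, w * z 1 ^ p]

theorem frobStep_zero (p : ℕ) (u w : F) (z : Fin 2 → F) :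
    frobStep p u w z 0 = z 0 ^ p + u * z 1 ^ p := rfl

theorem frobStep_one (p : ℕ) (u w : F) (z : Fin 2 → F) :
    frobStep p u w z 1 = w * z 1 ^ p := rfl

/-- The Frobenius map of the quadratic extension attached to an anisotropic binary form:
it is a semisimilarity of the norm form, and its `f`-th iterate is the conjugation. -/
theorem exists_frob_uw (a b : F)
    (hab : ∀ z₁ z₂ : F, z₁ ^ 2 + a * z₁ * z₂ + b * z₂ ^ 2 = 0 → z₁ = 0 ∧ z₂ = 0)
    (p f : ℕ) [Fact p.Prime] [CharP F p] (hF : Fintype.card F = p ^ f) :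
    ∃ u w : F, w ≠ 0 ∧ (∀ z : Fin 2 → F, binQ a b (frobStep p u w z) = (binQ a b z) ^ p) ∧
      ∀ z : Fin 2 → F, (frobStep p u w)^[f] z = ![z 0 + a * z 1, -z 1] := by
  haveI := qa_fact a b hab
  obtain ⟨u, hu⟩ : ∃ u : F, u = ((ω : QuadraticAlgebra F (-b) a) ^ p).re := ⟨_, rfl⟩
  obtain ⟨w, hw⟩ : ∃ w : F, w = ((ω : QuadraticAlgebra F (-b) a) ^ p).im := ⟨_, rfl⟩
  have hstep : ∀ z : Fin 2 → F, (⟨frobStep p u w z 0, frobStep p u w z 1⟩ :
      QuadraticAlgebra F (-b) a) = (⟨z 0, z 1⟩ : QuadraticAlgebra F (-b) a) ^ p := by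
    intro z
    have h1 := qa_pow_char (-b) a p 1 (⟨z 0, z 1⟩ : QuadraticAlgebra F (-b) a)
    rw [pow_one] at h1
    rw [h1, frobStep_zero, frobStep_one, hu, hw]
    ext
    · simp only
      ring
    · simp only
      ring
  have hnorm : ∀ z : Fin 2 → F, binQ a b z
      = norm (⟨z 0, z 1⟩ : QuadraticAlgebra F (-b) a) := by
    intro z
    rw [binQ_apply, norm_def]
    ring
  have hiter : ∀ (k : ℕ) (z : Fin 2 → F),
      (⟨(frobStep p u w)^[k] z 0, (frobStep p u w)^[k] z 1⟩ : QuadraticAlgebra F (-b) a)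
        = (⟨z 0, z 1⟩ : QuadraticAlgebra F (-b) a) ^ p ^ k := by
    intro k
    induction k with
    | zero => intro z; simp
    | succ k ih =>
      intro z
      rw [Function.iterate_succ_apply', hstep, ih, pow_succ, pow_mul]
  have hfin : ∀ z : Fin 2 → F, (frobStep p u w)^[f] z = ![z 0 + a * z 1, -z 1] := by
    intro z
    have h1 := hiter f z
    rw [qa_pow_char (-b) a p f, ← hF, qa_omega_pow_card a b hab, FiniteField.pow_card,
      FiniteField.pow_card] at h1
    have h2 := congrArg QuadraticAlgebra.re h1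
    have h3 := congrArg QuadraticAlgebra.im h1
    simp only at h2 h3
    funext i
    fin_cases i
    · show (frobStep p u w)^[f] z 0 = z 0 + a * z 1
      rw [h2]
      ring
    · show (frobStep p u w)^[f] z 1 = -z 1
      rw [h3]
      ring
  refine ⟨u, w, ?_, ?_, hfin⟩
  · intro hw0
    have hf : f ≠ 0 := by
      rintro rfl
      have := Fintype.one_lt_card (α := F)
      rw [hF, pow_zero] at this
      exact lt_irrefl _ this
    obtain ⟨k, rfl⟩ := Nat.exists_eq_succ_of_ne_zero hf
    have h1 := congrFun (hfin ![0, 1]) 1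
    rw [Function.iterate_succ_apply', frobStep_one, hw0, zero_mul] at h1
    simp at h1
  · intro z
    rw [hnorm, hnorm, hstep, map_pow]

end

end Cfsg.Agent.H49
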