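import Mathlib
import Cfsg.Agent.H49.MinusK
import Cfsg.Agent.H49.AutOut2

set_option autoImplicit false
set_option linter.unusedSectionVars false
set_option linter.unusedSimpArgs false
set_option linter.unusedVariables false
set_option linter.style.haveILetI false

/-! Helper lemmas (helper49): the Frobenius semisimilarity of the minus-type form and its
`f`-th power. -/

namespace Cfsg.Agent.H49

open Module Matrix

section Gen
variable {ι : Type} [Fintype ι] [DecidableEq ι] {F : Type*} [Field F]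

/-- Powers of an automorphism induced by a semisimilarity. -/
theorem induced_pow {Qf : (ι → F) → F} {g : Matrix.GeneralLinearGroup ι F} {σ : RingAut F}
    (hp : Cfsg.IsSemisimilarityPair Qf g σ) {β : MulAut (Cfsg.POmega F Qf)}
    (hi : Cfsg.IsInducedBySemilinearPOmega Qf g σ β) (k : ℕ) :
    ∃ gk : Matrix.GeneralLinearGroup ι F, Cfsg.IsSemisimilarityPair Qf gk (σ ^ k) ∧
      Cfsg.IsInducedBySemilinearPOmega Qf gk (σ ^ k) (β ^ k) ∧
      ∀ v : ι → F, (gk : Matrix ι ι F) *ᵥ (fun i => (σ ^ k) (v i))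
        = (fun v : ι → F => (g : Matrix ι ι F) *ᵥ (fun i => σ (v i)))^[k] v := by
  induction k with
  | zero =>
    refine ⟨1, ?_, ?_, fun v => ?_⟩
    · rw [pow_zero]
      exact pair_one Qf
    · rw [pow_zero, pow_zero]
      exact induced_one Qf
    · rw [pow_zero, Function.iterate_zero, id, Units.val_one, Matrix.one_mulVec]
      rfl
  | succ k ih =>
    obtain ⟨gk, pk, ik, hk⟩ := ih
    refine ⟨g * Matrix.GeneralLinearGroup.map (σ : F →+* F) gk, ?_, ?_, fun v => ?_⟩
    · rw [pow_succ']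
      exact pair_mul hp pk
    · rw [pow_succ', pow_succ']
      exact induced_mul hi ik pk
    · rw [Function.iterate_succ_apply', ← hk v, pow_succ', Units.val_mul, ← Matrix.mulVec_mulVec,
        glMap_val, ← sigma_mulVec]
      rfl

end Gen

section
variable {F : Type*} [Field F] [Fintype F]

/-- The `2 × 2` matrix of a Frobenius step. -/
def frobB (u w : F) : Matrix (Fin 2) (Fin 2) F := !![1, u; 0, w]

theorem frobB_mulVec (u w : F) (z : Fin 2 → F) :
    frobB u w *ᵥ z = ![z 0 + u * z 1, w * z 1] := by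
  funext i
  fin_cases i
  · simp [frobB, Matrix.mulVec, dotProduct, Fin.sum_univ_two]
  · simp [frobB, Matrix.mulVec, dotProduct, Fin.sum_univ_two]

theorem frobB_det (u w : F) : (frobB u w).det = w := by
  rw [frobB, Matrix.det_fin_two_of]
  ring

/-- The block matrix of a Frobenius step on the minus-type space. -/
noncomputable def frobG (m : ℕ) (u w : F) (hw : w ≠ 0) :
    Matrix.GeneralLinearGroup ((Fin m ⊕ Fin m) ⊕ Fin 2) F :=
  blockDiagGL (Fin m ⊕ Fin m) (Fin 2) F
    (1, Matrix.GeneralLinearGroup.mkOfDetNeZero (frobB u w) (by rw [frobB_det]; exact hw))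

theorem frobG_coe (m : ℕ) (u w : F) (hw : w ≠ 0) :
    ((frobG m u w hw : Matrix.GeneralLinearGroup ((Fin m ⊕ Fin m) ⊕ Fin 2) F) :
      Matrix ((Fin m ⊕ Fin m) ⊕ Fin 2) ((Fin m ⊕ Fin m) ⊕ Fin 2) F)
      = Matrix.fromBlocks 1 0 0 (frobB u w) := rfl

theorem frobG_mulVec (m : ℕ) (u w : F) (hw : w ≠ 0) (v : (Fin m ⊕ Fin m) ⊕ Fin 2 → F) :
    ((frobG m u w hw : Matrix.GeneralLinearGroup ((Fin m ⊕ Fin m) ⊕ Fin 2) F) :
      Matrix ((Fin m ⊕ Fin m) ⊕ Fin 2) ((Fin m ⊕ Fin m) ⊕ Fin 2) F) *ᵥ v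
      = Sum.elim (v ∘ Sum.inl) ![v (Sum.inr 0) + u * v (Sum.inr 1), w * v (Sum.inr 1)] := by
  rw [frobG_coe]
  have h1 := fromBlocks_diag_mulVec_inl (1 : Matrix (Fin m ⊕ Fin m) (Fin m ⊕ Fin m) F)
    (frobB u w) v
  have h2 := fromBlocks_diag_mulVec_inr (1 : Matrix (Fin m ⊕ Fin m) (Fin m ⊕ Fin m) F)
    (frobB u w) v
  rw [Matrix.one_mulVec] at h1
  rw [frobB_mulVec] at h2
  rw [← Sum.elim_comp_inl_inr (Matrix.fromBlocks 1 0 0 (frobB u w) *ᵥ v), h1, h2]
  rfl

/-- The semilinear Frobenius step on the minus-type space. -/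
theorem frobG_semi (m p : ℕ) [Fact p.Prime] [CharP F p] (u w : F) (hw : w ≠ 0)
    (v : (Fin m ⊕ Fin m) ⊕ Fin 2 → F) :
    ((frobG m u w hw : Matrix.GeneralLinearGroup ((Fin m ⊕ Fin m) ⊕ Fin 2) F) :
      Matrix ((Fin m ⊕ Fin m) ⊕ Fin 2) ((Fin m ⊕ Fin m) ⊕ Fin 2) F)
        *ᵥ (fun i => (frobeniusEquiv F p : RingAut F) (v i))
      = Sum.elim (fun i => v (Sum.inl i) ^ p) (frobStep p u w (v ∘ Sum.inr)) := by
  rw [frobG_mulVec]
  congr 1

/-- The Frobenius step is a semisimilarity of the minus-type form. -/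
theorem frobG_pair (m p : ℕ) [Fact p.Prime] [CharP F p] (a b u w : F) (hw : w ≠ 0)
    (hstep : ∀ z : Fin 2 → F, binQ a b (frobStep p u w z) = (binQ a b z) ^ p) :
    Cfsg.IsSemisimilarityPair (Cfsg.quadFormMinus m F a b) (frobG m u w hw)
      (frobeniusEquiv F p : RingAut F) := by
  refine ⟨1, fun v => ?_⟩
  rw [frobG_semi, Units.val_one, one_mul]
  have e1 : (frobeniusEquiv F p : RingAut F) (Cfsg.quadFormMinus m F a b v)
      = (Cfsg.quadFormMinus m F a b v) ^ p := rfl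
  rw [e1]
  have hb := hstep (v ∘ Sum.inr)
  rw [binQ_apply, binQ_apply] at hb
  unfold Cfsg.quadFormMinus
  simp only [Sum.elim_inl, Sum.elim_inr, Function.comp] at hb ⊢
  rw [add_pow_char, hb, sum_pow_char]
  congr 1
  apply Finset.sum_congr rfl
  intro i _
  rw [mul_pow]

theorem frobG_iterate (m p : ℕ) [Fact p.Prime] [CharP F p] (u w : F) (hw : w ≠ 0) (k : ℕ)
    (v : (Fin m ⊕ Fin m) ⊕ Fin 2 → F) :
    (fun v : (Fin m ⊕ Fin m) ⊕ Fin 2 → F =>
      ((frobG m u w hw : Matrix.GeneralLinearGroup ((Fin m ⊕ Fin m) ⊕ Fin 2) F) :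
        Matrix ((Fin m ⊕ Fin m) ⊕ Fin 2) ((Fin m ⊕ Fin m) ⊕ Fin 2) F)
          *ᵥ (fun i => (frobeniusEquiv F p : RingAut F) (v i)))^[k] v
      = Sum.elim (fun i => v (Sum.inl i) ^ p ^ k) ((frobStep p u w)^[k] (v ∘ Sum.inr)) := by
  induction k with
  | zero =>
    rw [Function.iterate_zero, Function.iterate_zero, id, id]
    funext i
    rcases i with i | i
    · simp
    · simp
  | succ k ih =>
    rw [Function.iterate_succ_apply', ih, frobG_semi, Function.iterate_succ_apply']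
    congr 1
    funext i
    simp only [Sum.elim_inl]
    rw [← pow_mul, pow_succ]

/-- The Frobenius semisimilarity of the minus-type form; the `f`-th power of the induced
automorphism is induced by the conjugation `N`. -/
theorem frob_pow_induced (m : ℕ) (a b : F)
    (hab : ∀ z₁ z₂ : F, z₁ ^ 2 + a * z₁ * z₂ + b * z₂ ^ 2 = 0 → z₁ = 0 ∧ z₂ = 0)
    (p f : ℕ) [Fact p.Prime] [CharP F p] (hf : 1 ≤ f) (hF : Fintype.card F = p ^ f) :
    ∃ (u w : F) (hw : w ≠ 0),
      Cfsg.IsSemisimilarityPair (Cfsg.quadFormMinus m F a b) (frobG m u w hw)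
        (frobeniusEquiv F p : RingAut F) ∧
      ∀ β : MulAut (Cfsg.POmega F (Cfsg.quadFormMinus m F a b)),
        Cfsg.IsInducedBySemilinearPOmega (Cfsg.quadFormMinus m F a b) (frobG m u w hw)
          (frobeniusEquiv F p : RingAut F) β →
        Cfsg.IsInducedBySemilinearPOmega (Cfsg.quadFormMinus m F a b)
          (frobG m a (-1) (neg_ne_zero.mpr one_ne_zero)) (RingEquiv.refl F) (β ^ f) := by
  obtain ⟨u, w, hw, hstep, hfin⟩ := exists_frob_uw a b hab p f hF
  have hpair := frobG_pair m p a b u w hw hstep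
  refine ⟨u, w, hw, hpair, fun β hβ => ?_⟩
  obtain ⟨gf, pf, i_f, hgf⟩ := induced_pow hpair hβ f
  have hσ : (frobeniusEquiv F p : RingAut F) ^ f = 1 := by
    rw [← (ringAut_frob (F := F) p f hf hF).2.1]
    exact pow_orderOf_eq_one _
  rw [hσ] at i_f hgf
  have hmat : (gf : Matrix ((Fin m ⊕ Fin m) ⊕ Fin 2) ((Fin m ⊕ Fin m) ⊕ Fin 2) F)
      = ((frobG m a (-1) (neg_ne_zero.mpr one_ne_zero) :
        Matrix.GeneralLinearGroup ((Fin m ⊕ Fin m) ⊕ Fin 2) F) :
        Matrix ((Fin m ⊕ Fin m) ⊕ Fin 2) ((Fin m ⊕ Fin m) ⊕ Fin 2) F) := by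
    apply Matrix.toLin'.injective
    apply LinearMap.ext
    intro v
    rw [Matrix.toLin'_apply, Matrix.toLin'_apply]
    have h1 := hgf v
    have h2 : (fun i => (1 : RingAut F) (v i)) = v := rfl
    rw [h2, frobG_iterate, hfin] at h1
    rw [h1, frobG_mulVec]
    congr 1
    · funext i
      simp only [Function.comp]
      rw [← hF, FiniteField.pow_card]
    · simp only [Function.comp, neg_one_mul]
  have hgl : gf = frobG m a (-1) (neg_ne_zero.mpr one_ne_zero) := Units.ext hmat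
  rw [hgl] at i_f
  exact i_f

end

end Cfsg.Agent.H49
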