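import Mathlib

set_option autoImplicit false

/-! Helper lemmas (helper49): abstract group theory for describing quotients of images:
homomorphisms out of the range of a homomorphism, relative indices, and extending a map from
an index-two subgroup. -/

namespace Cfsg.Agent.H49

section
variable {G A B : Type*} [Group G] [Group A] [Group B]

/-- A surjective homomorphism `Φ` on `G` that is trivial on the kernel of `c` induces a
surjective homomorphism on the range of `c`, with kernel the image of `K` when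
`ker Φ = K · ker c`. -/
theorem exists_hom_range_ker (c : G →* A) (Φ : G →* B) (K : Subgroup G)
    (h1 : c.ker ≤ Φ.ker) (h2 : Function.Surjective Φ) (h3 : K ≤ Φ.ker)
    (h4 : ∀ g, Φ g = 1 → ∃ k ∈ K, c g = c k) :
    ∀ (P S : Subgroup A), P = c.range → S = K.map c →
      ∃ φ : ↥P →* B, Function.Surjective φ ∧ φ.ker = S.subgroupOf P := by
  rintro P S rfl rfl
  have hker : c.rangeRestrict.ker ≤ Φ.ker := by rw [MonoidHom.ker_rangeRestrict]; exact h1
  obtain ⟨φ, hφ⟩ : ∃ φ : ↥c.range →* B, ∀ x, φ (c.rangeRestrict x) = Φ x :=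
    ⟨c.rangeRestrict.liftOfRightInverse (Function.surjInv c.rangeRestrict_surjective)
      (Function.rightInverse_surjInv c.rangeRestrict_surjective) ⟨Φ, hker⟩,
      fun x => MonoidHom.liftOfRightInverse_comp_apply _ _ _ ⟨Φ, hker⟩ x⟩
  refine ⟨φ, ?_, ?_⟩
  · intro b
    obtain ⟨x, rfl⟩ := h2 b
    exact ⟨c.rangeRestrict x, hφ x⟩
  · ext y
    obtain ⟨x, rfl⟩ := c.rangeRestrict_surjective y
    rw [MonoidHom.mem_ker, hφ, Subgroup.mem_subgroupOf]
    constructor
    · intro hx
      obtain ⟨k, hk, hck⟩ := h4 x hx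
      exact ⟨k, hk, hck.symm⟩
    · rintro ⟨k, hk, hck⟩
      have hck' : c k = c x := hck
      have h5 : x * k⁻¹ ∈ c.ker := by
        rw [MonoidHom.mem_ker, map_mul, map_inv, hck', mul_inv_cancel]
      have h6 := h1 h5
      rw [MonoidHom.mem_ker, map_mul, map_inv, MonoidHom.mem_ker.mp (h3 hk), inv_one,
        mul_one] at h6
      exact h6

theorem relIndex_eq_card_of_hom (c : G →* A) (Φ : G →* B) (K : Subgroup G)
    (h1 : c.ker ≤ Φ.ker) (h2 : Function.Surjective Φ) (h3 : K ≤ Φ.ker)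
    (h4 : ∀ g, Φ g = 1 → ∃ k ∈ K, c g = c k) (P S : Subgroup A) (hP : P = c.range)
    (hS : S = K.map c) : S.relIndex P = Nat.card B := by
  obtain ⟨φ, hφ, hker⟩ := exists_hom_range_ker c Φ K h1 h2 h3 h4 P S hP hS
  rw [Subgroup.relIndex, ← hker, Subgroup.index_ker, MonoidHom.range_eq_top.mpr hφ,
    Subgroup.card_top]

/-- Extending a multiplicative map from the kernel of a sign character `ε` to the whole
group, given the image `d` of an element `δ` outside the kernel. -/
theorem exists_hom_of_index_two {H : Type*} [Group H] (ε : G →* ℤˣ) (δ : G) (hδ : ε δ = -1)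
    (f : G → H) (d : H)
    (hf : ∀ x y, ε x = 1 → ε y = 1 → f (x * y) = f x * f y)
    (hconj : ∀ x, ε x = 1 → f (δ * x * δ⁻¹) = d * f x * d⁻¹)
    (hsq : f (δ * δ) = d * d) :
    ∃ Φ : G →* H, (∀ x, ε x = 1 → Φ x = f x) ∧ (∀ x, ε x = -1 → Φ x = d * f (δ⁻¹ * x)) := by
  classical
  have hε : ∀ x, ε x = 1 ∨ ε x = -1 := fun x => Int.units_eq_one_or (ε x)
  have hne : ¬ ((-1 : ℤˣ) = 1) := by decide
  have hmm : (-1 : ℤˣ) * -1 = 1 := by decide
  have hN : ∀ x, ε x = -1 → ε (δ⁻¹ * x) = 1 := by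
    intro x hx
    rw [map_mul, map_inv, hδ, hx]
    decide
  refine ⟨MonoidHom.mk' (fun g => if ε g = 1 then f g else d * f (δ⁻¹ * g)) ?_, ?_, ?_⟩
  · intro a b
    rcases hε a with ha | ha <;> rcases hε b with hb | hb
    · have hab : ε (a * b) = 1 := by rw [map_mul, ha, hb, one_mul]
      simp only [ha, hb, hab, if_true]
      exact hf a b ha hb
    · have hab : ε (a * b) = -1 := by rw [map_mul, ha, hb, one_mul]
      simp only [ha, hb, hab, hne, if_true, if_false]
      have e1 : δ⁻¹ * (a * b) = (δ⁻¹ * a * δ) * (δ⁻¹ * b) := by group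
      have hx : ε (δ⁻¹ * a * δ) = 1 := by
        rw [map_mul, map_mul, map_inv, ha, hδ]
        decide
      rw [e1, hf _ _ hx (hN b hb)]
      have h7 := hconj (δ⁻¹ * a * δ) hx
      have e2 : δ * (δ⁻¹ * a * δ) * δ⁻¹ = a := by group
      rw [e2] at h7
      rw [h7]
      group
    · have hab : ε (a * b) = -1 := by rw [map_mul, ha, hb, mul_one]
      simp only [ha, hb, hab, hne, if_true, if_false]
      have e1 : δ⁻¹ * (a * b) = (δ⁻¹ * a) * b := by group
      rw [e1, hf _ _ (hN a ha) hb, mul_assoc]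
    · have hab : ε (a * b) = 1 := by rw [map_mul, ha, hb, hmm]
      simp only [ha, hb, hab, hne, if_true, if_false]
      have hx := hN a ha
      have hy := hN b hb
      have e1 : a * b = (δ * (δ⁻¹ * a) * δ⁻¹) * (δ * δ) * (δ⁻¹ * b) := by group
      have hδδ : ε (δ * δ) = 1 := by rw [map_mul, hδ, hmm]
      have hc : ε (δ * (δ⁻¹ * a) * δ⁻¹) = 1 := by
        rw [map_mul, map_mul, map_inv, hx, hδ]
        decide
      have hcd : ε (δ * (δ⁻¹ * a) * δ⁻¹ * (δ * δ)) = 1 := by
        rw [map_mul, hc, hδδ, one_mul]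
      rw [e1, hf _ _ hcd hy, hf _ _ hc hδδ, hconj _ hx, hsq]
      group
  · intro x hx
    show (if ε x = 1 then f x else d * f (δ⁻¹ * x)) = f x
    rw [if_pos hx]
  · intro x hx
    show (if ε x = 1 then f x else d * f (δ⁻¹ * x)) = d * f (δ⁻¹ * x)
    rw [if_neg (by rw [hx]; exact hne)]

end

end Cfsg.Agent.H49
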