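import Mathlib
import Cfsg.Agent.H49.SimKer
import Cfsg.Agent.H49.GrpQuot
import Cfsg.Agent.H49.NegOne
import Cfsg.Agent.H49.Levi
import Cfsg.Agent.H95.Basic

set_option autoImplicit false
set_option linter.unusedSectionVars false

/-! Helper lemmas (helper49): the similarity group of a quadratic form: multiplier, scalars,
the invariant `det / multiplier^(n/2)`, decomposition of similarities with square multiplier. -/

namespace Cfsg.Agent.H49

open Module Matrix

section
variable {ι : Type} [Fintype ι] [DecidableEq ι] {F : Type*} [Field F]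

/-- The multiplier of a similarity. -/
noncomputable def simMul (Qf : (ι → F) → F) (g : ↥(Cfsg.Geo.quadSimilarityGroup Qf)) : Fˣ :=
  Classical.choose g.2

theorem simMul_spec (Qf : (ι → F) → F) (g : ↥(Cfsg.Geo.quadSimilarityGroup Qf)) (v : ι → F) :
    Qf (((g : Matrix.GeneralLinearGroup ι F) : Matrix ι ι F) *ᵥ v) = (simMul Qf g : F) * Qf v :=
  Classical.choose_spec g.2 v

theorem simMul_unique (Qf : (ι → F) → F) (hne : ∃ v, Qf v ≠ 0)
    (g : ↥(Cfsg.Geo.quadSimilarityGroup Qf)) (c : Fˣ)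
    (hc : ∀ v, Qf (((g : Matrix.GeneralLinearGroup ι F) : Matrix ι ι F) *ᵥ v) = (c : F) * Qf v) :
    simMul Qf g = c := by
  obtain ⟨v, hv⟩ := hne
  apply Units.ext
  have h1 := simMul_spec Qf g v
  rw [hc v] at h1
  exact (mul_right_cancel₀ hv h1).symm

/-- The multiplier homomorphism. -/
noncomputable def simMulHom (Qf : (ι → F) → F) (hne : ∃ v, Qf v ≠ 0) :
    ↥(Cfsg.Geo.quadSimilarityGroup Qf) →* Fˣ :=
  MonoidHom.mk' (simMul Qf) (by
    intro a b
    apply simMul_unique Qf hne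
    intro v
    have e1 := simMul_spec Qf a (((b : Matrix.GeneralLinearGroup ι F) : Matrix ι ι F) *ᵥ v)
    have e2 := simMul_spec Qf b v
    rw [Subgroup.coe_mul, Units.val_mul, ← Matrix.mulVec_mulVec, e1, e2,
      Units.val_mul, mul_assoc])

theorem simMulHom_apply (Qf : (ι → F) → F) (hne : ∃ v, Qf v ≠ 0)
    (g : ↥(Cfsg.Geo.quadSimilarityGroup Qf)) : simMulHom Qf hne g = simMul Qf g := rfl

/-- The scalar matrix `l` as an element of `GL`. -/
def scalGL (ι : Type) [Fintype ι] [DecidableEq ι] {F : Type*} [Field F] (l : Fˣ) :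
    Matrix.GeneralLinearGroup ι F :=
  Units.map (algebraMap F (Matrix ι ι F)).toMonoidHom l

theorem scalGL_coe (l : Fˣ) : ((scalGL ι l : Matrix.GeneralLinearGroup ι F) : Matrix ι ι F)
    = (l : F) • (1 : Matrix ι ι F) := by
  show algebraMap F (Matrix ι ι F) (l : F) = _
  rw [Algebra.algebraMap_eq_smul_one]

theorem scalGL_mulVec (l : Fˣ) (v : ι → F) :
    ((scalGL ι l : Matrix.GeneralLinearGroup ι F) : Matrix ι ι F) *ᵥ v = (l : F) • v := by
  rw [scalGL_coe, Matrix.smul_mulVec, Matrix.one_mulVec]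

theorem scalGL_mul (l l' : Fˣ) : scalGL ι (l * l') = scalGL ι l * scalGL ι l' :=
  map_mul _ l l'

theorem scalGL_commute (l : Fˣ) (x : Matrix.GeneralLinearGroup ι F) :
    scalGL ι l * x = x * scalGL ι l := by
  apply Units.ext
  rw [Units.val_mul, Units.val_mul]
  exact Algebra.commutes (l : F) (x : Matrix ι ι F)

/-- The scalar `l` as a similarity. -/
def scalSim (Q : QuadraticForm F (ι → F)) (l : Fˣ) : ↥(Cfsg.Geo.quadSimilarityGroup (⇑Q)) :=
  ⟨scalGL ι l, ⟨l * l, fun v => by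
    rw [scalGL_mulVec, QuadraticMap.map_smul, Units.val_mul, smul_eq_mul]⟩⟩

theorem scalSim_coe (Q : QuadraticForm F (ι → F)) (l : Fˣ) :
    ((scalSim Q l : ↥(Cfsg.Geo.quadSimilarityGroup (⇑Q))) : Matrix.GeneralLinearGroup ι F)
      = scalGL ι l := rfl

/-- The isometry group inside the similarity group. -/
def inclO (Q : QuadraticForm F (ι → F)) :
    ↥(Cfsg.isometryGroup F (⇑Q)) →* ↥(Cfsg.Geo.quadSimilarityGroup (⇑Q)) :=
  Subgroup.inclusion (isometryGroup_le_sim (⇑Q))

theorem inclO_coe (Q : QuadraticForm F (ι → F)) (g : ↥(Cfsg.isometryGroup F (⇑Q))) :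
    ((inclO Q g : ↥(Cfsg.Geo.quadSimilarityGroup (⇑Q))) : Matrix.GeneralLinearGroup ι F)
      = (g : Matrix.GeneralLinearGroup ι F) := rfl

theorem simMul_scalSim (Q : QuadraticForm F (ι → F)) (hne : ∃ v, Q v ≠ 0) (l : Fˣ) :
    simMul (⇑Q) (scalSim Q l) = l * l := by
  apply simMul_unique (⇑Q) hne
  intro v
  rw [scalSim_coe, scalGL_mulVec, QuadraticMap.map_smul, Units.val_mul, smul_eq_mul]

theorem simMul_inclO (Q : QuadraticForm F (ι → F)) (hne : ∃ v, Q v ≠ 0)
    (g : ↥(Cfsg.isometryGroup F (⇑Q))) : simMul (⇑Q) (inclO Q g) = 1 := by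
  apply simMul_unique (⇑Q) hne
  intro v
  rw [inclO_coe, Units.val_one, one_mul]
  exact isometry_apply g v

/-- Scalars induce the trivial automorphism. -/
theorem cHom_scalSim (Q : QuadraticForm F (ι → F)) (l : Fˣ) : cHom (⇑Q) (scalSim Q l) = 1 := by
  rw [cHom_apply]
  symm
  rw [← isInduced_iff]
  intro s s' hss'
  have e : s' = s := by
    apply Subtype.ext
    apply Subtype.ext
    apply Units.ext
    rw [hss', RingEquiv.coe_refl, Matrix.map_id, scalSim_coe, ← Units.val_mul, ← Units.val_mul,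
      scalGL_commute, mul_inv_cancel_right]
  rw [e]
  rfl

/-- A similarity with square multiplier is a scalar times an isometry. -/
theorem exists_scal_mul_of_isSquare (Q : QuadraticForm F (ι → F))
    (g : ↥(Cfsg.Geo.quadSimilarityGroup (⇑Q))) (h : IsSquare (simMul (⇑Q) g : F)) :
    ∃ (l : Fˣ) (g₀ : ↥(Cfsg.isometryGroup F (⇑Q))), g = scalSim Q l * inclO Q g₀ := by
  obtain ⟨r, hr⟩ := h
  have hr0 : r ≠ 0 := by
    rintro rfl
    rw [mul_zero] at hr
    exact (simMul (⇑Q) g).ne_zero hr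
  obtain ⟨l, hl⟩ : ∃ l : Fˣ, (l : F) = r := ⟨Units.mk0 r hr0, rfl⟩
  have hmem : (scalGL ι l)⁻¹ * (g : Matrix.GeneralLinearGroup ι F) ∈ Cfsg.isometryGroup F (⇑Q) := by
    rw [mem_isometryGroup_iff]
    intro u
    have e1 : ((scalGL ι l)⁻¹ : Matrix.GeneralLinearGroup ι F) = scalGL ι l⁻¹ :=
      (map_inv (Units.map (algebraMap F (Matrix ι ι F)).toMonoidHom) l).symm
    have e2 := simMul_spec (⇑Q) g u
    rw [e1, Units.val_mul, ← Matrix.mulVec_mulVec, scalGL_mulVec, QuadraticMap.map_smul,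
      e2, hr, smul_eq_mul, Units.val_inv_eq_inv_val, hl]
    field_simp
  refine ⟨l, ⟨_, hmem⟩, ?_⟩
  apply Subtype.ext
  show (g : Matrix.GeneralLinearGroup ι F) = scalGL ι l * ((scalGL ι l)⁻¹ * g)
  group

end

end Cfsg.Agent.H49
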