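import Mathlib
import Cfsg.Agent.H49.SimGO
import Cfsg.Agent.H49.TSTrans
import Cfsg.Agent.H49.Disc

set_option autoImplicit false
set_option linter.unusedSectionVars false

/-! Helper lemmas (helper49): the characters of the similarity group of an even-dimensional
quadratic form in odd characteristic over a finite field, and the quotients `PGO/PSO`,
`PSO/PΩ`, `PGO/PΩ`. -/

namespace Cfsg.Agent.H49

open Module Matrix

section
variable {ι : Type} [Fintype ι] [DecidableEq ι] {F : Type*} [Field F]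

theorem sim_polar (Q : QuadraticForm F (ι → F)) (g : ↥(Cfsg.Geo.quadSimilarityGroup (⇑Q)))
    (u w : ι → F) :
    QuadraticMap.polar (⇑Q) (((g : Matrix.GeneralLinearGroup ι F) : Matrix ι ι F) *ᵥ u)
        (((g : Matrix.GeneralLinearGroup ι F) : Matrix ι ι F) *ᵥ w)
      = (simMul (⇑Q) g : F) * QuadraticMap.polar (⇑Q) u w := by
  unfold QuadraticMap.polar
  rw [← Matrix.mulVec_add, simMul_spec (⇑Q) g (u + w), simMul_spec (⇑Q) g u,
    simMul_spec (⇑Q) g w]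
  ring

theorem sim_gram (Q : QuadraticForm F (ι → F)) (g : ↥(Cfsg.Geo.quadSimilarityGroup (⇑Q))) :
    ((g : Matrix.GeneralLinearGroup ι F) : Matrix ι ι F)ᵀ * stdGram Q
        * ((g : Matrix.GeneralLinearGroup ι F) : Matrix ι ι F)
      = (simMul (⇑Q) g : F) • stdGram Q := by
  ext i j
  have h := sim_polar Q g (Pi.single i 1) (Pi.single j 1)
  rw [polar_eq_dot_stdGram Q (_ *ᵥ _) (_ *ᵥ _),
    polar_eq_dot_stdGram Q (Pi.single i 1) (Pi.single j 1)] at h
  have e1 : ∀ (M : Matrix ι ι F), M i j = Pi.single i 1 ⬝ᵥ (M *ᵥ Pi.single j 1) := by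
    intro M
    simp
  rw [e1 (((g : Matrix.GeneralLinearGroup ι F) : Matrix ι ι F)ᵀ * stdGram Q
        * ((g : Matrix.GeneralLinearGroup ι F) : Matrix ι ι F)), Matrix.smul_apply, smul_eq_mul,
    e1 (stdGram Q), ← h, ← Matrix.mulVec_mulVec, ← Matrix.mulVec_mulVec,
    Matrix.dotProduct_mulVec, Matrix.vecMul_transpose]

theorem stdGram_det_ne_zero (Q : QuadraticForm F (ι → F))
    (hQ : (QuadraticMap.polarBilin Q).Nondegenerate) : (stdGram Q).det ≠ 0 := by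
  intro h0
  obtain ⟨w, hw, hw0⟩ := Matrix.exists_mulVec_eq_zero_iff.mpr h0
  apply hw
  apply hQ.2 w
  intro u
  show QuadraticMap.polar (⇑Q) u w = 0
  rw [polar_eq_dot_stdGram, hw0, dotProduct_zero]

theorem sim_det_sq (Q : QuadraticForm F (ι → F))
    (hQ : (QuadraticMap.polarBilin Q).Nondegenerate)
    (g : ↥(Cfsg.Geo.quadSimilarityGroup (⇑Q))) :
    ((g : Matrix.GeneralLinearGroup ι F) : Matrix ι ι F).det ^ 2
      = (simMul (⇑Q) g : F) ^ Fintype.card ι := by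
  have h := congrArg Matrix.det (sim_gram Q g)
  rw [Matrix.det_mul, Matrix.det_mul, Matrix.det_transpose, Matrix.det_smul] at h
  have h0 := stdGram_det_ne_zero Q hQ
  apply mul_right_cancel₀ h0
  rw [← h]
  ring

/-- The invariant `det / multiplier^k` of a similarity. -/
noncomputable def simD (Q : QuadraticForm F (ι → F)) (hne : ∃ v, Q v ≠ 0) (k : ℕ) :
    ↥(Cfsg.Geo.quadSimilarityGroup (⇑Q)) →* Fˣ :=
  MonoidHom.mk' (fun g => Matrix.GeneralLinearGroup.det (g : Matrix.GeneralLinearGroup ι F)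
      * ((simMulHom (⇑Q) hne g)⁻¹) ^ k) (by
    intro a b
    rw [Subgroup.coe_mul, map_mul, map_mul, _root_.mul_inv, mul_pow]
    exact mul_mul_mul_comm _ _ _ _)

theorem simD_val (Q : QuadraticForm F (ι → F)) (hne : ∃ v, Q v ≠ 0) (k : ℕ)
    (g : ↥(Cfsg.Geo.quadSimilarityGroup (⇑Q))) :
    ((simD Q hne k g : Fˣ) : F)
      = ((g : Matrix.GeneralLinearGroup ι F) : Matrix ι ι F).det
        * ((simMul (⇑Q) g : F)⁻¹) ^ k := by
  show ((Matrix.GeneralLinearGroup.det (g : Matrix.GeneralLinearGroup ι F)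
      * ((simMulHom (⇑Q) hne g)⁻¹) ^ k : Fˣ) : F) = _
  rw [Units.val_mul, Units.val_pow_eq_pow_val, Units.val_inv_eq_inv_val,
    Matrix.GeneralLinearGroup.val_det_apply, simMulHom_apply]

theorem simD_mul_self (Q : QuadraticForm F (ι → F))
    (hQ : (QuadraticMap.polarBilin Q).Nondegenerate) (hne : ∃ v, Q v ≠ 0) {k : ℕ}
    (hk : Fintype.card ι = 2 * k) (g : ↥(Cfsg.Geo.quadSimilarityGroup (⇑Q))) :
    simD Q hne k g * simD Q hne k g = 1 := by
  apply Units.ext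
  rw [Units.val_mul, simD_val, Units.val_one]
  have h := sim_det_sq Q hQ g
  rw [hk] at h
  have hm : (simMul (⇑Q) g : F) ≠ 0 := (simMul (⇑Q) g).ne_zero
  have e : ((g : Matrix.GeneralLinearGroup ι F) : Matrix ι ι F).det
        * ((simMul (⇑Q) g : F)⁻¹) ^ k
      * (((g : Matrix.GeneralLinearGroup ι F) : Matrix ι ι F).det
        * ((simMul (⇑Q) g : F)⁻¹) ^ k)
      = ((g : Matrix.GeneralLinearGroup ι F) : Matrix ι ι F).det ^ 2
        * ((simMul (⇑Q) g : F)⁻¹) ^ (2 * k) := by ring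
  rw [e, h, ← mul_pow, mul_inv_cancel₀ hm, one_pow]

theorem simD_cases (Q : QuadraticForm F (ι → F))
    (hQ : (QuadraticMap.polarBilin Q).Nondegenerate) (hne : ∃ v, Q v ≠ 0) {k : ℕ}
    (hk : Fintype.card ι = 2 * k) (g : ↥(Cfsg.Geo.quadSimilarityGroup (⇑Q))) :
    simD Q hne k g = 1 ∨ simD Q hne k g = -1 := by
  have h := simD_mul_self Q hQ hne hk g
  have h' : ((simD Q hne k g : Fˣ) : F) * (simD Q hne k g : Fˣ) = 1 := by
    rw [← Units.val_mul, h, Units.val_one]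
  rcases mul_self_eq_one_iff.mp h' with h1 | h1
  · left; exact Units.ext h1
  · right
    apply Units.ext
    rw [h1]
    simp

theorem simD_scalSim (Q : QuadraticForm F (ι → F)) (hne : ∃ v, Q v ≠ 0) {k : ℕ}
    (hk : Fintype.card ι = 2 * k) (l : Fˣ) : simD Q hne k (scalSim Q l) = 1 := by
  apply Units.ext
  rw [simD_val, simMul_scalSim Q hne, scalSim_coe, scalGL_coe, Matrix.det_smul, Matrix.det_one,
    hk, Units.val_one, Units.val_mul, mul_one]
  have hl : (l : F) ≠ 0 := l.ne_zero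
  rw [pow_mul, ← mul_pow, pow_two, mul_inv_cancel₀ (mul_ne_zero hl hl), one_pow]

theorem simD_inclO (Q : QuadraticForm F (ι → F)) (hne : ∃ v, Q v ≠ 0) (k : ℕ)
    (g : ↥(Cfsg.isometryGroup F (⇑Q))) :
    ((simD Q hne k (inclO Q g) : Fˣ) : F)
      = ((g : Matrix.GeneralLinearGroup ι F) : Matrix ι ι F).det := by
  rw [simD_val, simMul_inclO Q hne, inclO_coe, Units.val_one, inv_one, one_pow, mul_one]

end

section
variable {ι : Type} [Fintype ι] [DecidableEq ι] {F : Type*} [Field F] [Fintype F] [DecidableEq F]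

theorem neg_one_units_ne_one (h2 : (2 : F) ≠ 0) : (-1 : Fˣ) ≠ 1 := by
  intro h
  apply h2
  have := congrArg Units.val h
  rw [Units.val_neg, Units.val_one] at this
  linear_combination (-1 : F) * this

/-- The sign `det / multiplier^k ∈ {±1}` of a similarity, as a character to `ℤˣ`. -/
noncomputable def sgnD (Q : QuadraticForm F (ι → F)) (h2 : (2 : F) ≠ 0)
    (hQ : (QuadraticMap.polarBilin Q).Nondegenerate) (hne : ∃ v, Q v ≠ 0) {k : ℕ}
    (hk : Fintype.card ι = 2 * k) : ↥(Cfsg.Geo.quadSimilarityGroup (⇑Q)) →* ℤˣ :=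
  MonoidHom.mk' (fun g => if simD Q hne k g = 1 then 1 else -1) (by
    have hneg := neg_one_units_ne_one (F := F) h2
    intro a b
    rcases simD_cases Q hQ hne hk a with ha | ha <;>
      rcases simD_cases Q hQ hne hk b with hb | hb <;>
      simp [map_mul, ha, hb, hneg])

theorem sgnD_eq_one_iff (Q : QuadraticForm F (ι → F)) (h2 : (2 : F) ≠ 0)
    (hQ : (QuadraticMap.polarBilin Q).Nondegenerate) (hne : ∃ v, Q v ≠ 0) {k : ℕ}
    (hk : Fintype.card ι = 2 * k) (g : ↥(Cfsg.Geo.quadSimilarityGroup (⇑Q))) :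
    sgnD Q h2 hQ hne hk g = 1 ↔ simD Q hne k g = 1 := by
  show (if simD Q hne k g = 1 then (1 : ℤˣ) else -1) = 1 ↔ _
  by_cases h : simD Q hne k g = 1
  · simp [h]
  · simp only [h, if_false, iff_false]
    decide

theorem sgnD_scalSim (Q : QuadraticForm F (ι → F)) (h2 : (2 : F) ≠ 0)
    (hQ : (QuadraticMap.polarBilin Q).Nondegenerate) (hne : ∃ v, Q v ≠ 0) {k : ℕ}
    (hk : Fintype.card ι = 2 * k) (l : Fˣ) : sgnD Q h2 hQ hne hk (scalSim Q l) = 1 :=
  (sgnD_eq_one_iff Q h2 hQ hne hk _).mpr (simD_scalSim Q hne hk l)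

theorem sgnD_inclO_iff (Q : QuadraticForm F (ι → F)) (h2 : (2 : F) ≠ 0)
    (hQ : (QuadraticMap.polarBilin Q).Nondegenerate) (hne : ∃ v, Q v ≠ 0) {k : ℕ}
    (hk : Fintype.card ι = 2 * k) (g : ↥(Cfsg.isometryGroup F (⇑Q))) :
    sgnD Q h2 hQ hne hk (inclO Q g) = 1
      ↔ ((g : Matrix.GeneralLinearGroup ι F) : Matrix ι ι F).det = 1 := by
  rw [sgnD_eq_one_iff, ← Units.val_inj, simD_inclO, Units.val_one]

theorem sgnD_inclO_neg (Q : QuadraticForm F (ι → F)) (h2 : (2 : F) ≠ 0)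
    (hQ : (QuadraticMap.polarBilin Q).Nondegenerate) (hne : ∃ v, Q v ≠ 0) {k : ℕ}
    (hk : Fintype.card ι = 2 * k) (g : ↥(Cfsg.isometryGroup F (⇑Q)))
    (hg : ((g : Matrix.GeneralLinearGroup ι F) : Matrix ι ι F).det = -1) :
    sgnD Q h2 hQ hne hk (inclO Q g) = -1 := by
  rcases Int.units_eq_one_or (sgnD Q h2 hQ hne hk (inclO Q g)) with h | h
  · rw [sgnD_inclO_iff, hg] at h
    exfalso
    apply h2
    linear_combination (-1 : F) * h
  · exact h

theorem sgnD_inclO_reflG (Q : QuadraticForm F (ι → F)) (h2 : (2 : F) ≠ 0)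
    (hQ : (QuadraticMap.polarBilin Q).Nondegenerate) (hne : ∃ v, Q v ≠ 0) {k : ℕ}
    (hk : Fintype.card ι = 2 * k) (v : ι → F) (hv : Q v ≠ 0) :
    sgnD Q h2 hQ hne hk (inclO Q (reflG Q v)) = -1 :=
  sgnD_inclO_neg Q h2 hQ hne hk _ (det_reflectionMatrix Q v hv)

/-- The square class of the multiplier, as a character. -/
noncomputable def epsHom (Q : QuadraticForm F (ι → F)) (hne : ∃ v, Q v ≠ 0) :
    ↥(Cfsg.Geo.quadSimilarityGroup (⇑Q)) →* ℤˣ :=
  (quadraticChar F).toUnitHom.comp (simMulHom (⇑Q) hne)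

theorem epsHom_eq_one_iff (Q : QuadraticForm F (ι → F)) (hne : ∃ v, Q v ≠ 0)
    (g : ↥(Cfsg.Geo.quadSimilarityGroup (⇑Q))) :
    epsHom Q hne g = 1 ↔ IsSquare (simMul (⇑Q) g : F) := by
  rw [← quadraticChar_one_iff_isSquare (simMul (⇑Q) g).ne_zero]
  show (quadraticChar F).toUnitHom (simMul (⇑Q) g) = 1 ↔ _
  rw [← Units.val_inj, MulChar.coe_toUnitHom, Units.val_one]

theorem epsHom_scalSim (Q : QuadraticForm F (ι → F)) (hne : ∃ v, Q v ≠ 0) (l : Fˣ) :
    epsHom Q hne (scalSim Q l) = 1 := by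
  rw [epsHom_eq_one_iff, simMul_scalSim Q hne, Units.val_mul]
  exact ⟨l, rfl⟩

theorem epsHom_inclO (Q : QuadraticForm F (ι → F)) (hne : ∃ v, Q v ≠ 0)
    (g : ↥(Cfsg.isometryGroup F (⇑Q))) : epsHom Q hne (inclO Q g) = 1 := by
  rw [epsHom_eq_one_iff, simMul_inclO Q hne, Units.val_one]
  exact ⟨1, (one_mul 1).symm⟩

theorem epsHom_neg (Q : QuadraticForm F (ι → F)) (hne : ∃ v, Q v ≠ 0)
    (δ : ↥(Cfsg.Geo.quadSimilarityGroup (⇑Q))) (hδ : ¬ IsSquare (simMul (⇑Q) δ : F)) :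
    epsHom Q hne δ = -1 := by
  rcases Int.units_eq_one_or (epsHom Q hne δ) with h | h
  · exact absurd ((epsHom_eq_one_iff Q hne δ).mp h) hδ
  · exact h

theorem exists_inclO_of_eps (Q : QuadraticForm F (ι → F)) (hne : ∃ v, Q v ≠ 0)
    (g : ↥(Cfsg.Geo.quadSimilarityGroup (⇑Q))) (h : epsHom Q hne g = 1) :
    ∃ (l : Fˣ) (g₀ : ↥(Cfsg.isometryGroup F (⇑Q))), g = scalSim Q l * inclO Q g₀ :=
  exists_scal_mul_of_isSquare Q g ((epsHom_eq_one_iff Q hne g).mp h)

theorem eq_scalSim_of_cHom_eq_one (Q : QuadraticForm F (ι → F))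
    (hQ : (QuadraticMap.polarBilin Q).Nondegenerate) (h3 : HasTS3 Q) (hne : ∃ v, Q v ≠ 0)
    (g : ↥(Cfsg.Geo.quadSimilarityGroup (⇑Q))) (h : cHom (⇑Q) g = 1) :
    ∃ l : Fˣ, g = scalSim Q l := by
  obtain ⟨l, hl⟩ := scalar_of_cAut_eq_one Q hQ h3 g h
  have hl0 : l ≠ 0 := by
    rintro rfl
    obtain ⟨v, hv⟩ := hne
    have e := simMul_spec (⇑Q) g v
    rw [hl, zero_smul, map_zero] at e
    exact mul_ne_zero (simMul (⇑Q) g).ne_zero hv e.symm
  refine ⟨Units.mk0 l hl0, ?_⟩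
  apply Subtype.ext
  apply Units.ext
  apply matrix_ext_mulVec
  intro x
  rw [hl, scalSim_coe, scalGL_mulVec]
  rfl

theorem scalGL_one : scalGL ι (1 : Fˣ) = 1 := map_one _

theorem scalSim_one (Q : QuadraticForm F (ι → F)) : scalSim Q (1 : Fˣ) = 1 := by
  apply Subtype.ext
  exact scalGL_one

theorem scalGL_neg_one : scalGL ι (-1 : Fˣ) = -1 := by
  apply Units.ext
  rw [scalGL_coe]
  simp

theorem inclO_negG (Q : QuadraticForm F (ι → F)) : inclO Q (negG Q) = scalSim Q (-1) := by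
  apply Subtype.ext
  show (-1 : Matrix.GeneralLinearGroup ι F) = scalGL ι (-1)
  rw [scalGL_neg_one]

/-- An isometry that is a scalar is `±1`. -/
theorem scal_isometry (Q : QuadraticForm F (ι → F)) (hne : ∃ v, Q v ≠ 0) (l : Fˣ)
    (g₀ : ↥(Cfsg.isometryGroup F (⇑Q)))
    (h : (g₀ : Matrix.GeneralLinearGroup ι F) = scalGL ι l) : g₀ = 1 ∨ g₀ = negG Q := by
  obtain ⟨v, hv⟩ := hne
  have e := isometry_apply g₀ v
  rw [h, scalGL_mulVec, QuadraticMap.map_smul, smul_eq_mul] at e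
  have e2 : (l : F) * l = 1 := by
    have : ((l : F) * l - 1) * Q v = 0 := by linear_combination e
    rcases mul_eq_zero.mp this with h1 | h1
    · linear_combination h1
    · exact absurd h1 hv
  rcases mul_self_eq_one_iff.mp e2 with h1 | h1
  · left
    apply Subtype.ext
    rw [h]
    have : l = 1 := Units.ext h1
    rw [this]
    exact scalGL_one
  · right
    apply Subtype.ext
    rw [h]
    have : l = -1 := Units.ext (by rw [h1]; simp)
    rw [this]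
    exact scalGL_neg_one

theorem scal_mul_eq (Q : QuadraticForm F (ι → F)) (hne : ∃ v, Q v ≠ 0) (l l' : Fˣ)
    (g₀ g₁ : ↥(Cfsg.isometryGroup F (⇑Q)))
    (h : scalSim Q l * inclO Q g₀ = scalSim Q l' * inclO Q g₁) :
    g₁ = g₀ ∨ g₁ = negG Q * g₀ := by
  have h1 : scalGL ι l * (g₀ : Matrix.GeneralLinearGroup ι F)
      = scalGL ι l' * (g₁ : Matrix.GeneralLinearGroup ι F) := congrArg Subtype.val h
  have h2 : ((g₁ * g₀⁻¹ : ↥(Cfsg.isometryGroup F (⇑Q))) : Matrix.GeneralLinearGroup ι F)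
      = scalGL ι (l'⁻¹ * l) := by
    rw [scalGL_mul]
    show (g₁ : Matrix.GeneralLinearGroup ι F) * (g₀ : Matrix.GeneralLinearGroup ι F)⁻¹ = _
    have e1 : (scalGL ι l' : Matrix.GeneralLinearGroup ι F)⁻¹ = scalGL ι l'⁻¹ :=
      (map_inv (Units.map (algebraMap F (Matrix ι ι F)).toMonoidHom) l').symm
    rw [← e1, mul_inv_eq_iff_eq_mul, mul_assoc, h1, inv_mul_cancel_left]
  rcases scal_isometry Q hne _ _ h2 with h3 | h3
  · left
    exact mul_inv_eq_one.mp h3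
  · right
    exact mul_inv_eq_iff_eq_mul.mp h3

theorem scal_mul_scal_mul (Q : QuadraticForm F (ι → F)) (l l' : Fˣ)
    (x₀ y₀ : ↥(Cfsg.isometryGroup F (⇑Q))) :
    (scalSim Q l * inclO Q x₀) * (scalSim Q l' * inclO Q y₀)
      = scalSim Q (l * l') * inclO Q (x₀ * y₀) := by
  apply Subtype.ext
  show (scalGL ι l * (x₀ : Matrix.GeneralLinearGroup ι F))
      * (scalGL ι l' * (y₀ : Matrix.GeneralLinearGroup ι F))
    = scalGL ι (l * l') * ((x₀ : Matrix.GeneralLinearGroup ι F) * y₀)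
  rw [scalGL_mul, mul_assoc, ← mul_assoc (x₀ : Matrix.GeneralLinearGroup ι F),
    ← scalGL_commute l' (x₀ : Matrix.GeneralLinearGroup ι F), mul_assoc, mul_assoc]

theorem conj_scal_mul (Q : QuadraticForm F (ι → F)) (δ : ↥(Cfsg.Geo.quadSimilarityGroup (⇑Q)))
    (l : Fˣ) (x₀ : ↥(Cfsg.isometryGroup F (⇑Q))) :
    δ * (scalSim Q l * inclO Q x₀) * δ⁻¹ = scalSim Q l * inclO Q (simConj (⇑Q) δ x₀) := by
  apply Subtype.ext
  show (δ : Matrix.GeneralLinearGroup ι F) * (scalGL ι l * (x₀ : Matrix.GeneralLinearGroup ι F))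
      * (δ : Matrix.GeneralLinearGroup ι F)⁻¹
    = scalGL ι l * ((δ : Matrix.GeneralLinearGroup ι F) * x₀
      * (δ : Matrix.GeneralLinearGroup ι F)⁻¹)
  rw [← mul_assoc, ← scalGL_commute l (δ : Matrix.GeneralLinearGroup ι F), mul_assoc, mul_assoc,
    mul_assoc]

theorem simConj_reflG (Q : QuadraticForm F (ι → F)) (δ : ↥(Cfsg.Geo.quadSimilarityGroup (⇑Q)))
    (v : ι → F) :
    simConj (⇑Q) δ (reflG Q v)
      = reflG Q (((δ : Matrix.GeneralLinearGroup ι F) : Matrix ι ι F) *ᵥ v) := by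
  apply isometry_ext
  intro x
  obtain ⟨y, rfl⟩ : ∃ y, x = ((δ : Matrix.GeneralLinearGroup ι F) : Matrix ι ι F) *ᵥ y :=
    ⟨(((δ : Matrix.GeneralLinearGroup ι F)⁻¹ : Matrix.GeneralLinearGroup ι F) : Matrix ι ι F)
      *ᵥ x, by
      rw [Matrix.mulVec_mulVec, ← Units.val_mul, mul_inv_cancel, Units.val_one,
        Matrix.one_mulVec]⟩
  have e1 : ((simConj (⇑Q) δ (reflG Q v) : ↥(Cfsg.isometryGroup F (⇑Q))) :
      Matrix.GeneralLinearGroup ι F)
      = (δ : Matrix.GeneralLinearGroup ι F) * (reflG Q v : Matrix.GeneralLinearGroup ι F)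
        * (δ : Matrix.GeneralLinearGroup ι F)⁻¹ := rfl
  have hμ : (simMul (⇑Q) δ : F) ≠ 0 := (simMul (⇑Q) δ).ne_zero
  rw [e1, Matrix.mulVec_mulVec, ← Units.val_mul, inv_mul_cancel_right, Units.val_mul,
    ← Matrix.mulVec_mulVec, reflG_coe, reflG_coe, reflectionMatrix_mulVec,
    reflectionMatrix_mulVec, Matrix.mulVec_sub, Matrix.mulVec_smul, simMul_spec (⇑Q) δ v,
    sim_polar Q δ v y]
  congr 2
  rw [_root_.mul_inv, mul_mul_mul_comm, inv_mul_cancel₀ hμ, one_mul]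

theorem spinSign_simConj (Q : QuadraticForm F (ι → F)) (h2 : (2 : F) ≠ 0)
    (hQ : (QuadraticMap.polarBilin Q).Nondegenerate) (hne : ∃ v, Q v ≠ 0) {k : ℕ}
    (hk : Fintype.card ι = 2 * k) (δ : ↥(Cfsg.Geo.quadSimilarityGroup (⇑Q)))
    (hδ : ¬ IsSquare (simMul (⇑Q) δ : F)) (x₀ : ↥(Cfsg.isometryGroup F (⇑Q))) :
    spinSign Q (simConj (⇑Q) δ x₀) = spinSign Q x₀ * sgnD Q h2 hQ hne hk (inclO Q x₀) := by
  have key : (spinSign Q).comp (simConj (⇑Q) δ).toMonoidHom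
      = spinSign Q * (sgnD Q h2 hQ hne hk).comp (inclO Q) := by
    apply MonoidHom.eq_of_eqOn_dense (closure_reflSet_eq_top Q h2 hQ)
    rintro r ⟨v, hv, rfl⟩
    show spinSign Q (simConj (⇑Q) δ (reflG Q v))
      = spinSign Q (reflG Q v) * sgnD Q h2 hQ hne hk (inclO Q (reflG Q v))
    have hv' : Q (((δ : Matrix.GeneralLinearGroup ι F) : Matrix ι ι F) *ᵥ v) ≠ 0 := by
      rw [simMul_spec (⇑Q) δ v]
      exact mul_ne_zero (simMul (⇑Q) δ).ne_zero hv
    rw [simConj_reflG, spinSign_reflG Q h2 _ hv', spinSign_reflG Q h2 v hv,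
      simMul_spec (⇑Q) δ v, sgnD_inclO_reflG Q h2 hQ hne hk v hv, mul_comm (simMul (⇑Q) δ : F)]
    have hiff := isSquare_mul_nonsquare_iff hv hδ
    by_cases hs : IsSquare (Q v)
    · rw [if_neg (fun h => (hiff.mp h) hs), if_pos hs]
      rfl
    · rw [if_pos (hiff.mpr hs), if_neg hs]
      rfl
  exact DFunLike.congr_fun key x₀

end

end Cfsg.Agent.H49
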