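import Mathlib
import Cfsg.Agent.H49.SimQuot

set_option autoImplicit false
set_option linter.unusedSectionVars false

/-! Helper lemmas (helper49): the quotients `PGO/PSO`, `PSO/PΩ`, `PGO/PΩ` of the images in
`Aut(PΩ)` for an even-dimensional quadratic form in odd characteristic over a finite field. -/

namespace Cfsg.Agent.H49

open Module Matrix

section
variable {ι : Type} [Fintype ι] [DecidableEq ι] {F : Type*} [Field F] [Fintype F] [DecidableEq F]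

theorem exists_Q_eq_of_ts3 (Q : QuadraticForm F (ι → F))
    (hQ : (QuadraticMap.polarBilin Q).Nondegenerate) (h3 : HasTS3 Q) (c : F) :
    ∃ v : ι → F, Q v = c := by
  obtain ⟨e, e', he, he', hee, -, -⟩ := exists_hyp_pair_orth_le_one Q hQ h3 ⊥ (by simp)
  refine ⟨e + c • e', ?_⟩
  rw [Q_add', QuadraticMap.map_smul, he, he', QuadraticMap.polar_smul_right, hee]
  simp

theorem exists_nonsquare_of_two_ne_zero (h2 : (2 : F) ≠ 0) : ∃ a : F, ¬ IsSquare a := by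
  apply FiniteField.exists_nonsquare
  intro h
  apply h2
  have := CharP.cast_eq_zero F (ringChar F)
  rw [h] at this
  exact_mod_cast this

theorem omegaGL_le_special (Qf : (ι → F) → F) :
    Cfsg.Geo.omegaGL Qf ≤ Cfsg.specialIsometryGL F Qf := by
  rintro _ ⟨s, hs, rfl⟩
  refine ⟨s.2, ?_⟩
  have h3 : (Matrix.GeneralLinearGroup.det.comp (Cfsg.isometryGroup F Qf).subtype) s = 1 :=
    MonoidHom.mem_ker.mp (Abelianization.commutator_subset_ker _ hs)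
  exact h3

theorem inn_le_psoAut (Qf : (ι → F) → F) :
    Cfsg.Inn (Cfsg.POmega F Qf) ≤ Cfsg.psoAut F Qf := by
  rw [inn_eq, psoAut_eq]
  apply Subgroup.map_mono
  apply Subgroup.comap_mono
  exact omegaGL_le_special Qf

theorem det_negG (Q : QuadraticForm F (ι → F)) {k : ℕ} (hk : Fintype.card ι = 2 * k) :
    (((negG Q : ↥(Cfsg.isometryGroup F (⇑Q))) : Matrix.GeneralLinearGroup ι F) :
      Matrix ι ι F).det = 1 := by
  have : (((negG Q : ↥(Cfsg.isometryGroup F (⇑Q))) : Matrix.GeneralLinearGroup ι F)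
      : Matrix ι ι F) = -1 := rfl
  rw [this, Matrix.det_neg, Matrix.det_one, hk, mul_one, pow_mul]
  simp

/-- Existence of isometries with prescribed spinor sign and determinant sign. -/
theorem exists_iso_spin_sgn (Q : QuadraticForm F (ι → F)) (h2 : (2 : F) ≠ 0)
    (hQ : (QuadraticMap.polarBilin Q).Nondegenerate) (h3 : HasTS3 Q) (hne : ∃ v, Q v ≠ 0) {k : ℕ}
    (hk : Fintype.card ι = 2 * k) (a s : ℤˣ) :
    ∃ g₀ : ↥(Cfsg.isometryGroup F (⇑Q)), spinSign Q g₀ = a ∧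
      sgnD Q h2 hQ hne hk (inclO Q g₀) = s := by
  obtain ⟨x, hx⟩ := exists_Q_eq_of_ts3 Q hQ h3 1
  obtain ⟨ν, hν⟩ := exists_nonsquare_of_two_ne_zero (F := F) h2
  obtain ⟨y, hy⟩ := exists_Q_eq_of_ts3 Q hQ h3 ν
  have hx0 : Q x ≠ 0 := by rw [hx]; exact one_ne_zero
  have hy0 : Q y ≠ 0 := by
    rw [hy]
    rintro rfl
    exact hν ⟨0, by simp⟩
  have h1 : spinSign Q (reflG Q x) = -1 := by
    rw [spinSign_reflG Q h2 x hx0, if_pos (by rw [hx]; exact ⟨1, by simp⟩)]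
  have h1' : spinSign Q (reflG Q y) = 1 := by
    rw [spinSign_reflG Q h2 y hy0, if_neg (by rw [hy]; exact hν)]
  have h4 := sgnD_inclO_reflG Q h2 hQ hne hk x hx0
  have h4' := sgnD_inclO_reflG Q h2 hQ hne hk y hy0
  rcases Int.units_eq_one_or a with rfl | rfl <;> rcases Int.units_eq_one_or s with rfl | rfl
  · exact ⟨1, map_one _, by rw [map_one, map_one]⟩
  · exact ⟨reflG Q y, h1', h4'⟩
  · refine ⟨reflG Q x * reflG Q y, ?_, ?_⟩
    · rw [map_mul, h1, h1', mul_one]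
    · rw [map_mul, map_mul, h4, h4']
      rfl
  · exact ⟨reflG Q x, h1, h4⟩

/-- `PGO/PSO` is elementary abelian of order four. -/
theorem pgo_mod_pso (Q : QuadraticForm F (ι → F)) (h2 : (2 : F) ≠ 0)
    (hQ : (QuadraticMap.polarBilin Q).Nondegenerate) (h3 : HasTS3 Q) {k : ℕ}
    (hk : Fintype.card ι = 2 * k) (δ : ↥(Cfsg.Geo.quadSimilarityGroup (⇑Q)))
    (hδ : ¬ IsSquare (simMul (⇑Q) δ : F)) :
    ∃ φ : ↥(Cfsg.pgoAut F (⇑Q)) →* ℤˣ × ℤˣ, Function.Surjective φ ∧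
      φ.ker = (Cfsg.psoAut F (⇑Q)).subgroupOf (Cfsg.pgoAut F (⇑Q)) := by
  have hne : ∃ v, Q v ≠ 0 := by
    obtain ⟨x, hx⟩ := exists_Q_eq_of_ts3 Q hQ h3 1
    exact ⟨x, by rw [hx]; exact one_ne_zero⟩
  refine exists_hom_range_ker (cHom (⇑Q)) ((epsHom Q hne).prod (sgnD Q h2 hQ hne hk))
    ((Cfsg.specialIsometryGL F (⇑Q)).comap (Cfsg.Geo.quadSimilarityGroup (⇑Q)).subtype)
    ?_ ?_ ?_ ?_ _ _ (pgoAut_eq _) (psoAut_eq _)
  · intro g hg
    obtain ⟨l, rfl⟩ := eq_scalSim_of_cHom_eq_one Q hQ h3 hne g (MonoidHom.mem_ker.mp hg)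
    rw [MonoidHom.mem_ker]
    exact Prod.ext (epsHom_scalSim Q hne l) (sgnD_scalSim Q h2 hQ hne hk l)
  · rintro ⟨a, s⟩
    have hδe := epsHom_neg Q hne δ hδ
    rcases Int.units_eq_one_or a with rfl | rfl
    · obtain ⟨g₀, -, hg₀⟩ := exists_iso_spin_sgn Q h2 hQ h3 hne hk 1 s
      exact ⟨inclO Q g₀, Prod.ext (epsHom_inclO Q hne g₀) hg₀⟩
    · obtain ⟨g₀, -, hg₀⟩ := exists_iso_spin_sgn Q h2 hQ h3 hne hk 1
        ((sgnD Q h2 hQ hne hk δ)⁻¹ * s)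
      refine ⟨δ * inclO Q g₀, Prod.ext ?_ ?_⟩
      · show epsHom Q hne (δ * inclO Q g₀) = -1
        rw [map_mul, hδe, epsHom_inclO Q hne g₀, mul_one]
      · show sgnD Q h2 hQ hne hk (δ * inclO Q g₀) = s
        rw [map_mul, hg₀, mul_inv_cancel_left]
  · intro g hg
    obtain ⟨hgO, hgS⟩ := hg
    have hg' : g = inclO Q ⟨g.1, hgO⟩ := rfl
    rw [MonoidHom.mem_ker, hg']
    refine Prod.ext (epsHom_inclO Q hne _) ?_
    show sgnD Q h2 hQ hne hk (inclO Q ⟨g.1, hgO⟩) = 1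
    rw [sgnD_inclO_iff]
    exact (Cfsg.Agent.H95.mem_specialLinear_iff _).mp hgS
  · intro g hg
    have hg1 : epsHom Q hne g = 1 := congrArg Prod.fst hg
    have hg2 : sgnD Q h2 hQ hne hk g = 1 := congrArg Prod.snd hg
    obtain ⟨l, g₀, rfl⟩ := exists_inclO_of_eps Q hne g hg1
    rw [map_mul, sgnD_scalSim, one_mul, sgnD_inclO_iff] at hg2
    refine ⟨inclO Q g₀, ⟨g₀.2, (Cfsg.Agent.H95.mem_specialLinear_iff _).mpr hg2⟩, ?_⟩
    rw [map_mul, cHom_scalSim, one_mul]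

/-- If `-1 ∉ Ω` then `PSO = PΩ` inside `Aut(PΩ)`. -/
theorem psoAut_le_inn (Q : QuadraticForm F (ι → F)) (h2 : (2 : F) ≠ 0)
    (hQ : (QuadraticMap.polarBilin Q).Nondegenerate) {k : ℕ}
    (hk : Fintype.card ι = 2 * k) (hneg : spinSign Q (negG Q) ≠ 1) :
    Cfsg.psoAut F (⇑Q) ≤ Cfsg.Inn (Cfsg.POmega F (⇑Q)) := by
  rw [inn_eq, psoAut_eq]
  rintro _ ⟨g, hg, rfl⟩
  obtain ⟨hgO, hgS⟩ := hg
  have hdet : (((⟨g.1, hgO⟩ : ↥(Cfsg.isometryGroup F (⇑Q))) : Matrix.GeneralLinearGroup ι F)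
      : Matrix ι ι F).det = 1 := (Cfsg.Agent.H95.mem_specialLinear_iff _).mp hgS
  have hg' : g = inclO Q ⟨g.1, hgO⟩ := rfl
  rcases Int.units_eq_one_or (spinSign Q ⟨g.1, hgO⟩) with h | h
  · refine ⟨g, ⟨⟨g.1, hgO⟩, ?_, rfl⟩, rfl⟩
    exact (mem_commutator_iff_spinSign_det Q h2 hQ _).mpr ⟨h, hdet⟩
  · have hn : spinSign Q (negG Q) = -1 := (Int.units_eq_one_or _).resolve_left hneg
    refine ⟨inclO Q (negG Q * ⟨g.1, hgO⟩), ⟨negG Q * ⟨g.1, hgO⟩, ?_, rfl⟩, ?_⟩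
    · rw [SetLike.mem_coe]
      show negG Q * ⟨g.1, hgO⟩ ∈ commutator ↥(Cfsg.isometryGroup F (⇑Q))
      rw [mem_commutator_iff_spinSign_det Q h2 hQ, map_mul, hn, h, det_mul_iso, hdet,
        det_negG Q hk]
      exact ⟨rfl, mul_one 1⟩
    · rw [map_mul, inclO_negG, map_mul, cHom_scalSim, one_mul]
      rfl

/-- If `-1 ∈ Ω` then `PΩ` has index two in `PSO`. -/
theorem relIndex_inn_psoAut (Q : QuadraticForm F (ι → F)) (h2 : (2 : F) ≠ 0)
    (hQ : (QuadraticMap.polarBilin Q).Nondegenerate) (h3 : HasTS3 Q) {k : ℕ}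
    (hk : Fintype.card ι = 2 * k) (hneg : spinSign Q (negG Q) = 1) :
    (Cfsg.Inn (Cfsg.POmega F (⇑Q))).relIndex (Cfsg.psoAut F (⇑Q)) = 2 := by
  have hne : ∃ v, Q v ≠ 0 := by
    obtain ⟨x, hx⟩ := exists_Q_eq_of_ts3 Q hQ h3 1
    exact ⟨x, by rw [hx]; exact one_ne_zero⟩
  obtain ⟨SO', hSO⟩ : ∃ S : Subgroup ↥(Cfsg.Geo.quadSimilarityGroup (⇑Q)),
      S = (Cfsg.specialIsometryGL F (⇑Q)).comap (Cfsg.Geo.quadSimilarityGroup (⇑Q)).subtype :=
    ⟨_, rfl⟩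
  have hmemSO : ∀ x : ↥(Cfsg.Geo.quadSimilarityGroup (⇑Q)), x ∈ SO' ↔
      ((x : Matrix.GeneralLinearGroup ι F) ∈ Cfsg.isometryGroup F (⇑Q) ∧
        ((x : Matrix.GeneralLinearGroup ι F) : Matrix ι ι F).det = 1) := by
    intro x
    rw [hSO, ← Cfsg.Agent.H95.mem_specialLinear_iff]
    rfl
  have hmemO : ∀ s : ↥SO', (s.1 : Matrix.GeneralLinearGroup ι F) ∈ Cfsg.isometryGroup F (⇑Q) :=
    fun s => ((hmemSO s.1).mp s.2).1
  have hmemS : ∀ s : ↥SO', ((s.1 : Matrix.GeneralLinearGroup ι F) : Matrix ι ι F).det = 1 :=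
    fun s => ((hmemSO s.1).mp s.2).2
  obtain ⟨toO, htoO⟩ : ∃ f : ↥SO' →* ↥(Cfsg.isometryGroup F (⇑Q)),
      ∀ s, f s = ⟨s.1, hmemO s⟩ :=
    ⟨MonoidHom.mk' (fun s => ⟨s.1, hmemO s⟩) (fun a b => rfl), fun s => rfl⟩
  have hincl : ∀ s : ↥SO', (s : ↥(Cfsg.Geo.quadSimilarityGroup (⇑Q))) = inclO Q (toO s) := by
    intro s
    rw [htoO]
    rfl
  have key := relIndex_eq_card_of_hom ((cHom (⇑Q)).comp SO'.subtype) ((spinSign Q).comp toO)
    (((Cfsg.Geo.omegaGL (⇑Q)).comap (Cfsg.Geo.quadSimilarityGroup (⇑Q)).subtype).subgroupOf SO')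
    ?_ ?_ ?_ ?_ (Cfsg.psoAut F (⇑Q)) (Cfsg.Inn (Cfsg.POmega F (⇑Q))) ?_ ?_
  · rw [key, Nat.card_eq_fintype_card, Fintype.card_units_int]
  · intro s hs
    have hs' : cHom (⇑Q) (s : ↥(Cfsg.Geo.quadSimilarityGroup (⇑Q))) = 1 := MonoidHom.mem_ker.mp hs
    obtain ⟨l, hl⟩ := eq_scalSim_of_cHom_eq_one Q hQ h3 hne _ hs'
    rw [MonoidHom.mem_ker]
    show spinSign Q (toO s) = 1
    have h5 : ((toO s : ↥(Cfsg.isometryGroup F (⇑Q))) : Matrix.GeneralLinearGroup ι F)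
        = scalGL ι l := by
      rw [htoO]
      exact congrArg Subtype.val hl
    rcases scal_isometry Q hne l (toO s) h5 with h6 | h6
    · rw [h6, map_one]
    · rw [h6, hneg]
  · intro a
    obtain ⟨g₀, hg₀, hg₀'⟩ := exists_iso_spin_sgn Q h2 hQ h3 hne hk a 1
    rw [sgnD_inclO_iff] at hg₀'
    have hmem : inclO Q g₀ ∈ SO' := (hmemSO _).mpr ⟨g₀.2, hg₀'⟩
    refine ⟨⟨inclO Q g₀, hmem⟩, ?_⟩
    show spinSign Q (toO ⟨inclO Q g₀, hmem⟩) = a
    rw [htoO]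
    exact hg₀
  · intro s hs
    rw [Subgroup.mem_subgroupOf] at hs
    obtain ⟨t, ht, hts⟩ := hs
    rw [MonoidHom.mem_ker]
    show spinSign Q (toO s) = 1
    have e : toO s = t := by
      rw [htoO]
      apply Subtype.ext
      exact hts.symm
    rw [e]
    exact ((mem_commutator_iff_spinSign_det Q h2 hQ t).mp ht).1
  · intro s hs
    refine ⟨s, ?_, rfl⟩
    rw [Subgroup.mem_subgroupOf]
    refine ⟨toO s, ?_, ?_⟩
    · rw [SetLike.mem_coe]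
      show toO s ∈ commutator ↥(Cfsg.isometryGroup F (⇑Q))
      rw [mem_commutator_iff_spinSign_det Q h2 hQ]
      refine ⟨hs, ?_⟩
      rw [htoO]
      exact hmemS s
    · rw [htoO]
      rfl
  · rw [psoAut_eq, MonoidHom.range_comp, Subgroup.range_subtype, hSO]
  · rw [inn_eq, ← Subgroup.map_map, Subgroup.subgroupOf_map_subtype, inf_of_le_left]
    rw [hSO]
    exact Subgroup.comap_mono (omegaGL_le_special (⇑Q))

end

end Cfsg.Agent.H49
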