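import Mathlib
import Cfsg.Agent.H49.SimQuot2
import Cfsg.Agent.H49.AutOut2

set_option autoImplicit false
set_option linter.unusedSectionVars false
set_option linter.unusedSimpArgs false
set_option linter.unusedVariables false

/-! Helper lemmas (helper49): conjugating a similarity by a semisimilarity; invariance of the
characters `epsHom` and `sgnD`. -/

namespace Cfsg.Agent.H49

open Module Matrix

section
variable {ι : Type} [Fintype ι] [DecidableEq ι] {F : Type*} [Field F]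

theorem semi_conj_sim_spec (Q : QuadraticForm F (ι → F)) {g : Matrix.GeneralLinearGroup ι F}
    {σ : F ≃+* F} (hp : Cfsg.IsSemisimilarityPair (⇑Q) g σ)
    (h : ↥(Cfsg.Geo.quadSimilarityGroup (⇑Q))) (v : ι → F) :
    Q (((g * Matrix.GeneralLinearGroup.map (σ : F →+* F) h.1 * g⁻¹ :
      Matrix.GeneralLinearGroup ι F) : Matrix ι ι F) *ᵥ v)
      = σ (simMul (⇑Q) h : F) * Q v := by
  obtain ⟨c, hc⟩ := hp
  obtain ⟨w, hw⟩ : ∃ w : ι → F, w = fun i => σ.symm ((((g⁻¹ : Matrix.GeneralLinearGroup ι F) :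
      Matrix ι ι F) *ᵥ v) i) := ⟨_, rfl⟩
  have e1 : (fun i => σ (w i)) = ((g⁻¹ : Matrix.GeneralLinearGroup ι F) : Matrix ι ι F) *ᵥ v := by
    rw [hw]
    funext i
    simp only [RingEquiv.apply_symm_apply]
  have e2 : (g : Matrix ι ι F) *ᵥ (fun i => σ (w i)) = v := by
    rw [e1, Matrix.mulVec_mulVec, ← Units.val_mul, mul_inv_cancel, Units.val_one,
      Matrix.one_mulVec]
  have e3 : ((g * Matrix.GeneralLinearGroup.map (σ : F →+* F) h.1 * g⁻¹ :
      Matrix.GeneralLinearGroup ι F) : Matrix ι ι F) *ᵥ v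
      = (g : Matrix ι ι F) *ᵥ (fun i => σ ((((h.1 : Matrix.GeneralLinearGroup ι F) :
          Matrix ι ι F) *ᵥ w) i)) := by
    rw [Units.val_mul, Units.val_mul, ← Matrix.mulVec_mulVec, ← Matrix.mulVec_mulVec, glMap_val,
      ← sigma_mulVec, e1]
  have hv := hc w
  rw [e2] at hv
  rw [e3, hc, simMul_spec (⇑Q) h w, map_mul, hv]
  ring

/-- The conjugate of a similarity by a semisimilarity. -/
def semiConjSim (Q : QuadraticForm F (ι → F)) {g : Matrix.GeneralLinearGroup ι F}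
    {σ : F ≃+* F} (hp : Cfsg.IsSemisimilarityPair (⇑Q) g σ)
    (h : ↥(Cfsg.Geo.quadSimilarityGroup (⇑Q))) : ↥(Cfsg.Geo.quadSimilarityGroup (⇑Q)) :=
  ⟨g * Matrix.GeneralLinearGroup.map (σ : F →+* F) h.1 * g⁻¹,
    ⟨Units.map (σ : F →* F) (simMul (⇑Q) h), fun v => semi_conj_sim_spec Q hp h v⟩⟩

theorem semiConjSim_coe (Q : QuadraticForm F (ι → F)) {g : Matrix.GeneralLinearGroup ι F}
    {σ : F ≃+* F} (hp : Cfsg.IsSemisimilarityPair (⇑Q) g σ)
    (h : ↥(Cfsg.Geo.quadSimilarityGroup (⇑Q))) :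
    ((semiConjSim Q hp h : ↥(Cfsg.Geo.quadSimilarityGroup (⇑Q))) : Matrix.GeneralLinearGroup ι F)
      = g * Matrix.GeneralLinearGroup.map (σ : F →+* F) h.1 * g⁻¹ := rfl

theorem simMul_semiConjSim (Q : QuadraticForm F (ι → F)) (hne : ∃ v, Q v ≠ 0)
    {g : Matrix.GeneralLinearGroup ι F}
    {σ : F ≃+* F} (hp : Cfsg.IsSemisimilarityPair (⇑Q) g σ)
    (h : ↥(Cfsg.Geo.quadSimilarityGroup (⇑Q))) :
    (simMul (⇑Q) (semiConjSim Q hp h) : F) = σ (simMul (⇑Q) h : F) := by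
  have := simMul_unique (⇑Q) hne (semiConjSim Q hp h) (Units.map (σ : F →* F) (simMul (⇑Q) h))
    (fun v => semi_conj_sim_spec Q hp h v)
  rw [this]
  rfl

theorem det_semiConjSim (Q : QuadraticForm F (ι → F)) {g : Matrix.GeneralLinearGroup ι F}
    {σ : F ≃+* F} (hp : Cfsg.IsSemisimilarityPair (⇑Q) g σ)
    (h : ↥(Cfsg.Geo.quadSimilarityGroup (⇑Q))) :
    (((semiConjSim Q hp h : ↥(Cfsg.Geo.quadSimilarityGroup (⇑Q))) :
      Matrix.GeneralLinearGroup ι F) : Matrix ι ι F).det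
      = σ (((h : Matrix.GeneralLinearGroup ι F) : Matrix ι ι F).det) := by
  rw [semiConjSim_coe, Units.val_mul, Units.val_mul, Matrix.det_units_conj, glMap_val]
  exact (RingHom.map_det (σ : F →+* F) _).symm

/-- Conjugating the automorphism induced by a similarity by the automorphism induced by a
semisimilarity. -/
theorem conj_cHom (Q : QuadraticForm F (ι → F)) {g : Matrix.GeneralLinearGroup ι F}
    {σ : F ≃+* F} (hp : Cfsg.IsSemisimilarityPair (⇑Q) g σ)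
    {φ : MulAut (Cfsg.POmega F (⇑Q))}
    (hi : Cfsg.IsInducedBySemilinearPOmega (⇑Q) g σ φ)
    (h : ↥(Cfsg.Geo.quadSimilarityGroup (⇑Q))) :
    φ * cHom (⇑Q) h * φ⁻¹ = cHom (⇑Q) (semiConjSim Q hp h) := by
  have hx : Cfsg.IsInducedBySemilinearPOmega (⇑Q) h.1 (RingEquiv.refl F) (cHom (⇑Q) h) :=
    (isInduced_iff (⇑Q) h (cHom (⇑Q) h)).mpr rfl
  have px : Cfsg.IsSemisimilarityPair (⇑Q) h.1 (RingEquiv.refl F) := h.2
  have i1 := induced_mul hi hx px
  have i2 := induced_inv hi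
  have p2 := pair_inv hp
  have i3 := induced_mul i1 i2 p2
  have e1 : (σ.symm.trans ((RingEquiv.refl F).trans σ)) = RingEquiv.refl F := by
    apply RingEquiv.ext
    intro x
    simp
  have e2 : g * Matrix.GeneralLinearGroup.map (σ : F →+* F) h.1
      * Matrix.GeneralLinearGroup.map ((((RingEquiv.refl F).trans σ : F ≃+* F)) : F →+* F)
        (Matrix.GeneralLinearGroup.map (σ.symm : F →+* F) g⁻¹)
      = g * Matrix.GeneralLinearGroup.map (σ : F →+* F) h.1 * g⁻¹ := by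
    congr 1
    apply Units.ext
    ext i j
    show ((RingEquiv.refl F).trans σ) (σ.symm (((g⁻¹ : Matrix.GeneralLinearGroup ι F) :
      Matrix ι ι F) i j)) = ((g⁻¹ : Matrix.GeneralLinearGroup ι F) : Matrix ι ι F) i j
    rw [RingEquiv.trans_apply, RingEquiv.refl_apply, RingEquiv.apply_symm_apply]
  rw [e1, e2] at i3
  exact (isInduced_iff (⇑Q) (semiConjSim Q hp h) _).mp i3

end

section
variable {ι : Type} [Fintype ι] [DecidableEq ι] {F : Type*} [Field F] [Fintype F] [DecidableEq F]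

theorem isSquare_map_iff (σ : F ≃+* F) (x : F) : IsSquare (σ x) ↔ IsSquare x := by
  constructor
  · rintro ⟨r, hr⟩
    refine ⟨σ.symm r, ?_⟩
    rw [← map_mul, ← hr, RingEquiv.symm_apply_apply]
  · rintro ⟨r, hr⟩
    exact ⟨σ r, by rw [hr, map_mul]⟩

theorem epsHom_semiConjSim (Q : QuadraticForm F (ι → F)) (hne : ∃ v, Q v ≠ 0)
    {g : Matrix.GeneralLinearGroup ι F}
    {σ : F ≃+* F} (hp : Cfsg.IsSemisimilarityPair (⇑Q) g σ)
    (h : ↥(Cfsg.Geo.quadSimilarityGroup (⇑Q))) :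
    epsHom Q hne (semiConjSim Q hp h) = epsHom Q hne h := by
  have hiff : epsHom Q hne (semiConjSim Q hp h) = 1 ↔ epsHom Q hne h = 1 := by
    rw [epsHom_eq_one_iff, epsHom_eq_one_iff, simMul_semiConjSim Q hne hp h, isSquare_map_iff]
  rcases Int.units_eq_one_or (epsHom Q hne h) with h1 | h1
  · rw [h1]
    exact hiff.mpr h1
  · rcases Int.units_eq_one_or (epsHom Q hne (semiConjSim Q hp h)) with h2 | h2
    · rw [hiff.mp h2] at h1
      exact absurd h1 (by decide)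
    · rw [h1, h2]

theorem sgnD_semiConjSim (Q : QuadraticForm F (ι → F)) (h2 : (2 : F) ≠ 0)
    (hQ : (QuadraticMap.polarBilin Q).Nondegenerate) (hne : ∃ v, Q v ≠ 0) {k : ℕ}
    (hk : Fintype.card ι = 2 * k) {g : Matrix.GeneralLinearGroup ι F}
    {σ : F ≃+* F} (hp : Cfsg.IsSemisimilarityPair (⇑Q) g σ)
    (h : ↥(Cfsg.Geo.quadSimilarityGroup (⇑Q))) :
    sgnD Q h2 hQ hne hk (semiConjSim Q hp h) = sgnD Q h2 hQ hne hk h := by
  have hval : ((simD Q hne k (semiConjSim Q hp h) : Fˣ) : F) = σ ((simD Q hne k h : Fˣ) : F) := by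
    rw [simD_val, simD_val, det_semiConjSim, simMul_semiConjSim Q hne hp h, map_mul, map_pow,
      map_inv₀]
  have hiff : sgnD Q h2 hQ hne hk (semiConjSim Q hp h) = 1 ↔ sgnD Q h2 hQ hne hk h = 1 := by
    rw [sgnD_eq_one_iff, sgnD_eq_one_iff, ← Units.val_inj, ← Units.val_inj (a := simD Q hne k h),
      hval, Units.val_one]
    constructor
    · intro hh
      have := congrArg σ.symm hh
      rw [RingEquiv.symm_apply_apply, map_one] at this
      exact this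
    · intro hh
      rw [hh, map_one]
  rcases Int.units_eq_one_or (sgnD Q h2 hQ hne hk h) with h1 | h1
  · rw [h1]
    exact hiff.mpr h1
  · rcases Int.units_eq_one_or (sgnD Q h2 hQ hne hk (semiConjSim Q hp h)) with h2' | h2'
    · rw [hiff.mp h2'] at h1
      exact absurd h1 (by decide)
    · rw [h1, h2']

/-- A similarity with trivial characters induces an automorphism in the image of `SO`. -/
theorem cHom_mem_psoAut_of (Q : QuadraticForm F (ι → F)) (h2 : (2 : F) ≠ 0)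
    (hQ : (QuadraticMap.polarBilin Q).Nondegenerate) (hne : ∃ v, Q v ≠ 0) {k : ℕ}
    (hk : Fintype.card ι = 2 * k) (g : ↥(Cfsg.Geo.quadSimilarityGroup (⇑Q)))
    (h1 : epsHom Q hne g = 1) (h2' : sgnD Q h2 hQ hne hk g = 1) :
    cHom (⇑Q) g ∈ Cfsg.psoAut F (⇑Q) := by
  rw [psoAut_eq]
  obtain ⟨l, g₀, rfl⟩ := exists_inclO_of_eps Q hne g h1
  rw [map_mul, sgnD_scalSim, one_mul, sgnD_inclO_iff] at h2'
  refine ⟨inclO Q g₀, ⟨g₀.2, (Cfsg.Agent.H95.mem_specialLinear_iff _).mpr h2'⟩, ?_⟩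
  rw [map_mul, cHom_scalSim, one_mul]

/-- A similarity inducing an automorphism in the image of `SO` has trivial `sgnD`. -/
theorem sgnD_eq_one_of_mem_psoAut (Q : QuadraticForm F (ι → F)) (h2 : (2 : F) ≠ 0)
    (hQ : (QuadraticMap.polarBilin Q).Nondegenerate) (h3 : HasTS3 Q) (hne : ∃ v, Q v ≠ 0) {k : ℕ}
    (hk : Fintype.card ι = 2 * k) (g : ↥(Cfsg.Geo.quadSimilarityGroup (⇑Q)))
    (hg : cHom (⇑Q) g ∈ Cfsg.psoAut F (⇑Q)) : sgnD Q h2 hQ hne hk g = 1 := by
  rw [psoAut_eq] at hg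
  obtain ⟨s, ⟨hsO, hsS⟩, hs⟩ := hg
  have h1 : cHom (⇑Q) (s⁻¹ * g) = 1 := by rw [map_mul, map_inv, hs, inv_mul_cancel]
  obtain ⟨l, hl⟩ := eq_scalSim_of_cHom_eq_one Q hQ h3 hne _ h1
  have hg' : g = s * scalSim Q l := by rw [← hl]; group
  have hs' : s = inclO Q ⟨s.1, hsO⟩ := rfl
  rw [hg', map_mul, sgnD_scalSim, mul_one, hs', sgnD_inclO_iff]
  exact (Cfsg.Agent.H95.mem_specialLinear_iff _).mp hsS

/-- The automorphism induced by a semisimilarity centralises `PGO` modulo `PSO`. -/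
theorem comm_mem_psoAut (Q : QuadraticForm F (ι → F)) (h2 : (2 : F) ≠ 0)
    (hQ : (QuadraticMap.polarBilin Q).Nondegenerate) (hne : ∃ v, Q v ≠ 0) {k : ℕ}
    (hk : Fintype.card ι = 2 * k) {g : Matrix.GeneralLinearGroup ι F}
    {σ : F ≃+* F} (hp : Cfsg.IsSemisimilarityPair (⇑Q) g σ)
    {φ : MulAut (Cfsg.POmega F (⇑Q))}
    (hi : Cfsg.IsInducedBySemilinearPOmega (⇑Q) g σ φ)
    (x : MulAut (Cfsg.POmega F (⇑Q))) (hx : x ∈ Cfsg.pgoAut F (⇑Q)) :
    φ * x * φ⁻¹ * x⁻¹ ∈ Cfsg.psoAut F (⇑Q) := by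
  rw [pgoAut_eq] at hx
  obtain ⟨h, rfl⟩ := hx
  rw [conj_cHom Q hp hi h, ← map_inv, ← map_mul]
  apply cHom_mem_psoAut_of Q h2 hQ hne hk
  · rw [map_mul, map_inv, epsHom_semiConjSim Q hne hp h, mul_inv_cancel]
  · rw [map_mul, map_inv, sgnD_semiConjSim Q h2 hQ hne hk hp h, mul_inv_cancel]

end

end Cfsg.Agent.H49
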