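import Mathlib
import Cfsg.Agent.H49.SemiConjSim
import Cfsg.Agent.H49.MinusFrob
import Cfsg.Agent.H49.GalDesc

set_option autoImplicit false
set_option linter.unusedSectionVars false
set_option linter.unusedSimpArgs false
set_option linter.unusedVariables false

/-! Helper lemmas (helper49): Galois descent for semisimilarities of finite order, used for the
conjugacy of field automorphisms of the orthogonal groups. -/

namespace Cfsg.Agent.H49

open Module Matrix
open GalDesc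

section
variable {ι : Type} [Fintype ι] [DecidableEq ι] {F : Type*} [Field F]

/-- The semilinear map `v ↦ A σ(v)`. -/
def semiL (σ : RingAut F) (A : Matrix ι ι F) (v : ι → F) : ι → F :=
  A *ᵥ (fun i => σ (v i))

theorem semiL_add (σ : RingAut F) (A : Matrix ι ι F) (u v : ι → F) :
    semiL σ A (u + v) = semiL σ A u + semiL σ A v := by
  unfold semiL
  rw [← Matrix.mulVec_add]
  congr 1
  funext i
  simp

theorem semiL_smul (σ : RingAut F) (A : Matrix ι ι F) (a : F) (v : ι → F) :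
    semiL σ A (a • v) = σ a • semiL σ A v := by
  unfold semiL
  rw [← Matrix.mulVec_smul]
  congr 1
  funext i
  simp

theorem semiL_smul_left (σ : RingAut F) (A : Matrix ι ι F) (t : F) (v : ι → F) :
    semiL σ (t • A) v = t • semiL σ A v := by
  unfold semiL
  rw [Matrix.smul_mulVec]

/-- Hilbert 90 for `GL` over an arbitrary finite index type. -/
theorem exists_lang_iota (σ : RingAut F) {r : ℕ} (hr : orderOf σ = r) (hr0 : 0 < r)
    (A : Matrix ι ι F) (hS : ∀ v : ι → F, (semiL σ A)^[r] v = v) :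
    ∃ P : Matrix.GeneralLinearGroup ι F, A * (P : Matrix ι ι F).map σ = (P : Matrix ι ι F) := by
  classical
  have hspan := span_fixed σ hr hr0 (semiL σ A) (semiL_add σ A) (semiL_smul σ A) hS
  obtain ⟨b, hb, -, hli⟩ :=
    Submodule.exists_fun_fin_finrank_span_eq F {v : ι → F | semiL σ A v = v}
  have hn : Module.finrank F (Submodule.span F {v : ι → F | semiL σ A v = v})
      = Fintype.card ι := by
    rw [hspan, finrank_top, Module.finrank_fintype_fun_eq_card]
  obtain ⟨e⟩ : Nonempty (ι ≃ Fin (Module.finrank F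
      (Submodule.span F {v : ι → F | semiL σ A v = v}))) :=
    ⟨Fintype.equivFinOfCardEq hn.symm⟩
  obtain ⟨b', hb'def⟩ : ∃ b' : ι → (ι → F), b' = fun j => b (e j) := ⟨_, rfl⟩
  have hb' : ∀ j, semiL σ A (b' j) = b' j := fun j => by rw [hb'def]; exact hb _
  have hli' : LinearIndependent F b' := by
    rw [hb'def]
    exact hli.comp _ e.injective
  obtain ⟨B, hBdef⟩ : ∃ B : Matrix ι ι F, B = Matrix.of fun i j => b' j i := ⟨_, rfl⟩
  have hB : IsUnit B := by
    rw [← Matrix.linearIndependent_cols_iff_isUnit]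
    have : B.col = b' := by
      funext j i
      rw [hBdef]
      rfl
    rw [this]
    exact hli'
  obtain ⟨x, hx⟩ := hB
  refine ⟨x, ?_⟩
  rw [hx]
  ext i j
  have := congrFun (hb' j) i
  refine Eq.trans ?_ (this.trans ?_)
  · simp [semiL, Matrix.mul_apply, Matrix.mulVec, dotProduct, hBdef]
  · rw [hBdef]
    rfl

theorem gl_mulVec_eq_zero (g : Matrix.GeneralLinearGroup ι F) (w : ι → F)
    (h : (g : Matrix ι ι F) *ᵥ w = 0) : w = 0 := by
  have h1 : ((g⁻¹ : Matrix.GeneralLinearGroup ι F) : Matrix ι ι F) *ᵥ ((g : Matrix ι ι F) *ᵥ w)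
      = w := by
    rw [Matrix.mulVec_mulVec, ← Units.val_mul, inv_mul_cancel, Units.val_one, Matrix.one_mulVec]
  rw [← h1, h, Matrix.mulVec_zero]

/-- A power of a semisimilarity inducing the identity is a scalar. -/
theorem semi_pow_scalar [Fintype F] (Q : QuadraticForm F (ι → F))
    (hQ : (QuadraticMap.polarBilin Q).Nondegenerate) (h3 : HasTS3 Q) (hne : ∃ v, Q v ≠ 0)
    (σ : RingAut F) {r : ℕ} (hr : orderOf σ = r)
    (g : Matrix.GeneralLinearGroup ι F) (hp : Cfsg.IsSemisimilarityPair (⇑Q) g σ)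
    {β : MulAut (Cfsg.POmega F (⇑Q))} (hi : Cfsg.IsInducedBySemilinearPOmega (⇑Q) g σ β)
    (hβ : β ^ r = 1) :
    ∃ l : F, l ≠ 0 ∧ ∀ v : ι → F, (semiL σ (g : Matrix ι ι F))^[r] v = l • v := by
  have hσr : σ ^ r = 1 := by rw [← hr]; exact pow_orderOf_eq_one σ
  obtain ⟨gr, hpr, hir, hv⟩ := induced_pow hp hi r
  rw [hσr] at hpr hir hv
  rw [hβ] at hir
  have hmem : gr ∈ Cfsg.Geo.quadSimilarityGroup (⇑Q) := by
    obtain ⟨c, hc⟩ := hpr
    exact ⟨c, fun v => hc v⟩
  have h1 : cAut (⇑Q) ⟨gr, hmem⟩ = 1 := ((isInduced_iff (⇑Q) ⟨gr, hmem⟩ 1).mp hir).symm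
  obtain ⟨l, hl⟩ := scalar_of_cAut_eq_one Q hQ h3 ⟨gr, hmem⟩ h1
  have hl0 : l ≠ 0 := by
    rintro rfl
    obtain ⟨v, hv0⟩ := hne
    have h2 := hl v
    rw [zero_smul] at h2
    have h3' := gl_mulVec_eq_zero gr v h2
    rw [h3', QuadraticMap.map_zero] at hv0
    exact hv0 rfl
  refine ⟨l, hl0, fun v => ?_⟩
  have h2 := hv v
  have h3' : (semiL σ (g : Matrix ι ι F))^[r] v
      = (fun v : ι → F => (g : Matrix ι ι F) *ᵥ (fun i => σ (v i)))^[r] v := rfl
  rw [h3', ← h2]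
  exact hl v

/-- Lang's theorem for a semisimilarity whose `r`-th power induces the identity. -/
theorem exists_lang_of_pow [Fintype F] (Q : QuadraticForm F (ι → F))
    (hQ : (QuadraticMap.polarBilin Q).Nondegenerate) (h3 : HasTS3 Q) (hne : ∃ v, Q v ≠ 0)
    (σ : RingAut F) {r : ℕ} (hr : orderOf σ = r) (hr0 : 0 < r)
    (g : Matrix.GeneralLinearGroup ι F) (hp : Cfsg.IsSemisimilarityPair (⇑Q) g σ)
    {β : MulAut (Cfsg.POmega F (⇑Q))} (hi : Cfsg.IsInducedBySemilinearPOmega (⇑Q) g σ β)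
    (hβ : β ^ r = 1) :
    ∃ (P : Matrix.GeneralLinearGroup ι F) (t : F), t ≠ 0 ∧
      (t • (g : Matrix ι ι F)) * (P : Matrix ι ι F).map σ = (P : Matrix ι ι F) := by
  obtain ⟨l, hl0, hl⟩ := semi_pow_scalar Q hQ h3 hne σ hr g hp hi hβ
  have hσl : σ l = l := by
    obtain ⟨v, hv0⟩ := hne
    have hS0 : semiL σ (g : Matrix ι ι F) v ≠ 0 := by
      intro h
      have h1 := gl_mulVec_eq_zero g _ h
      have h2 : v = 0 := by
        funext i
        have := congrFun h1 i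
        simpa using this
      rw [h2, QuadraticMap.map_zero] at hv0
      exact hv0 rfl
    have e1 : (semiL σ (g : Matrix ι ι F))^[r + 1] v = σ l • semiL σ (g : Matrix ι ι F) v := by
      rw [Function.iterate_succ_apply', hl, semiL_smul]
    have e2 : (semiL σ (g : Matrix ι ι F))^[r + 1] v = l • semiL σ (g : Matrix ι ι F) v := by
      rw [Function.iterate_succ_apply, hl]
    have e3 : (σ l - l) • semiL σ (g : Matrix ι ι F) v = 0 := by
      rw [sub_smul, ← e1, ← e2, sub_self]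
    rcases smul_eq_zero.mp e3 with h | h
    · exact sub_eq_zero.mp h
    · exact absurd h hS0
  obtain ⟨t, ht0, ht⟩ := exists_nrm_eq σ hr hr0 l⁻¹ (inv_ne_zero hl0) (by rw [map_inv₀, hσl])
  have hiter : ∀ (k : ℕ) (v : ι → F), (semiL σ (t • (g : Matrix ι ι F)))^[k] v
      = nrmF σ k t • (semiL σ (g : Matrix ι ι F))^[k] v := by
    intro k
    induction k with
    | zero => intro v; rw [nrmF_zero, one_smul]; rfl
    | succ k ih =>
      intro v
      rw [Function.iterate_succ_apply', ih, semiL_smul_left, semiL_smul, smul_smul,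
        Function.iterate_succ_apply', nrmF_succ]
  obtain ⟨P, hP⟩ := exists_lang_iota σ hr hr0 (t • (g : Matrix ι ι F)) (fun v => by
    rw [hiter, ht, hl, smul_smul, inv_mul_cancel₀ hl0, one_smul])
  exact ⟨P, t, ht0, hP⟩


/-- The form transported along a solution of Lang's equation is, up to a scalar, equivariant
under `σ`. -/
theorem exists_equivariant [Fintype F] (Q : QuadraticForm F (ι → F)) (hne : ∃ v, Q v ≠ 0)
    (σ : RingAut F) {r : ℕ} (hr : orderOf σ = r) (hr0 : 0 < r)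
    (hσQ : ∀ v : ι → F, Q (fun i => σ (v i)) = σ (Q v))
    (A : Matrix ι ι F) (μ : F) (hA : ∀ v, Q (A *ᵥ v) = μ * Q v)
    (P : Matrix.GeneralLinearGroup ι F) (hP : A * (P : Matrix ι ι F).map σ = (P : Matrix ι ι F)) :
    ∃ e : F, e ≠ 0 ∧ ∀ w : ι → F,
      e⁻¹ * Q ((P : Matrix ι ι F) *ᵥ (fun i => σ (w i))) = σ (e⁻¹ * Q ((P : Matrix ι ι F) *ᵥ w)) := by
  have hσr : σ ^ r = 1 := by rw [← hr]; exact pow_orderOf_eq_one σ
  have key1 : ∀ w : ι → F, Q ((P : Matrix ι ι F) *ᵥ (fun i => σ (w i)))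
      = μ * σ (Q ((P : Matrix ι ι F) *ᵥ w)) := by
    intro w
    have e1 : (P : Matrix ι ι F) *ᵥ (fun i => σ (w i))
        = A *ᵥ (((P : Matrix ι ι F).map σ) *ᵥ (fun i => σ (w i))) := by
      rw [Matrix.mulVec_mulVec, hP]
    rw [e1, hA, sigma_mulVec, hσQ]
  have key2 : ∀ (k : ℕ) (w : ι → F), Q ((P : Matrix ι ι F) *ᵥ (fun i => (σ ^ k) (w i)))
      = nrmF σ k μ * (σ ^ k) (Q ((P : Matrix ι ι F) *ᵥ w)) := by
    intro k
    induction k with
    | zero => intro w; rw [nrmF_zero, one_mul]; rfl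
    | succ k ih =>
      intro w
      have e1 : (fun i => (σ ^ (k + 1)) (w i)) = fun i => σ ((fun i => (σ ^ k) (w i)) i) := by
        funext i
        rw [pow_succ']
        rfl
      rw [e1, key1, ih, map_mul, nrmF_succ, pow_succ', mul_assoc]
      rfl
  obtain ⟨v₀, hv₀⟩ := hne
  have hN : nrmF σ r μ = 1 := by
    have h1 := key2 r (((P⁻¹ : Matrix.GeneralLinearGroup ι F) : Matrix ι ι F) *ᵥ v₀)
    rw [hσr] at h1
    have h2 : (P : Matrix ι ι F) *ᵥ (((P⁻¹ : Matrix.GeneralLinearGroup ι F) : Matrix ι ι F) *ᵥ v₀)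
        = v₀ := by
      rw [Matrix.mulVec_mulVec, ← Units.val_mul, mul_inv_cancel, Units.val_one, Matrix.one_mulVec]
    have h3 : Q v₀ = nrmF σ r μ * Q v₀ := by
      have h4 : Q ((P : Matrix ι ι F) *ᵥ
          (fun i => (1 : RingAut F) ((((P⁻¹ : Matrix.GeneralLinearGroup ι F) : Matrix ι ι F) *ᵥ v₀) i)))
          = nrmF σ r μ * (1 : RingAut F) (Q ((P : Matrix ι ι F) *ᵥ
            (((P⁻¹ : Matrix.GeneralLinearGroup ι F) : Matrix ι ι F) *ᵥ v₀))) := h1
      rw [h2] at h4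
      have h5 : (fun i => (1 : RingAut F)
          ((((P⁻¹ : Matrix.GeneralLinearGroup ι F) : Matrix ι ι F) *ᵥ v₀) i))
          = ((P⁻¹ : Matrix.GeneralLinearGroup ι F) : Matrix ι ι F) *ᵥ v₀ := rfl
      rw [h5, h2] at h4
      exact h4
    have h6 : (nrmF σ r μ - 1) * Q v₀ = 0 := by rw [sub_mul, one_mul, ← h3, sub_self]
    rcases mul_eq_zero.mp h6 with h | h
    · exact sub_eq_zero.mp h
    · exact absurd h hv₀
  obtain ⟨e, he0, he⟩ := exists_h90_cyc σ hr hr0 μ hN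
  refine ⟨e, he0, fun w => ?_⟩
  have hσe : σ e ≠ 0 := (map_ne_zero _).mpr he0
  rw [key1, map_mul, map_inv₀]
  have h7 : e⁻¹ * μ = (σ e)⁻¹ :=
    eq_inv_of_mul_eq_one_left (by rw [mul_assoc, he, inv_mul_cancel₀ he0])
  rw [← mul_assoc, h7]


/-- A `σ`-equivariant quadratic form descends to the fixed field. -/
theorem exists_fixed_form (σ : RingAut F) (K : Subfield F) (hK : ∀ a : F, σ a = a ↔ a ∈ K)
    (Q2 : QuadraticForm F (ι → F))
    (hQ2 : ∀ w : ι → F, Q2 (fun i => σ (w i)) = σ (Q2 w)) :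
    ∃ Q0 : QuadraticForm K (ι → K), ∀ w : ι → K, ((Q0 w : K) : F) = Q2 (fun i => (w i : F)) := by
  classical
  obtain ⟨π, hπ⟩ := LinearMap.exists_leftInverse_of_injective (Algebra.linearMap K F)
    (LinearMap.ker_eq_bot.mpr (algebraMap K F).injective)
  obtain ⟨j, hj⟩ : ∃ j : (ι → K) →ₗ[K] (ι → F), ∀ w, j w = fun i => (w i : F) :=
    ⟨(Algebra.linearMap K F).compLeft ι, fun w => rfl⟩
  obtain ⟨Q1, hQ1⟩ : ∃ Q1 : QuadraticMap K (ι → K) F, ∀ w, Q1 w = Q2 (j w) :=
    ⟨(Q2.restrictScalars (S := K)).comp j, fun w => rfl⟩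
  refine ⟨π.compQuadraticMap Q1, fun w => ?_⟩
  have hmem : Q2 (fun i => (w i : F)) ∈ K := by
    rw [← hK, ← hQ2]
    congr 1
    funext i
    exact (hK _).mpr (w i).2
  have h1 : (π.compQuadraticMap Q1) w = π (Q2 (fun i => (w i : F))) := by
    show π (Q1 w) = _
    rw [hQ1, hj]
  have h2 : Q2 (fun i => (w i : F)) = Algebra.linearMap K F ⟨_, hmem⟩ := rfl
  rw [h1]
  conv_lhs => rw [h2]
  have h3 := LinearMap.congr_fun hπ ⟨_, hmem⟩
  have h4 : π (Algebra.linearMap K F ⟨_, hmem⟩) = ⟨_, hmem⟩ := h3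
  rw [h4]

theorem fixed_form_polar (K : Subfield F) (Q2 : QuadraticForm F (ι → F))
    (Q0 : QuadraticForm K (ι → K))
    (h : ∀ w : ι → K, ((Q0 w : K) : F) = Q2 (fun i => (w i : F))) (u v : ι → K) :
    ((QuadraticMap.polar (⇑Q0) u v : K) : F)
      = QuadraticMap.polar (⇑Q2) (fun i => (u i : F)) (fun i => (v i : F)) := by
  simp only [QuadraticMap.polar]
  rw [Subfield.coe_sub, Subfield.coe_sub, h, h, h]
  rfl

theorem coe_single (K : Subfield F) (i : ι) :
    (fun k => (((Pi.single i (1 : K) : ι → K) k : K) : F)) = Pi.single i (1 : F) := by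
  funext k
  by_cases hk : k = i
  · subst hk
    simp
  · simp [Pi.single_apply, hk]

theorem fixed_form_nondeg (K : Subfield F) (Q2 : QuadraticForm F (ι → F))
    (hQ2 : (QuadraticMap.polarBilin Q2).Nondegenerate) (Q0 : QuadraticForm K (ι → K))
    (h : ∀ w : ι → K, ((Q0 w : K) : F) = Q2 (fun i => (w i : F))) :
    (QuadraticMap.polarBilin Q0).Nondegenerate := by
  classical
  have key : ∀ a : ι → K, (∀ b, QuadraticMap.polar (⇑Q0) a b = 0) → a = 0 := by
    intro a ha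
    have h1 : ∀ i : ι, QuadraticMap.polar (⇑Q2) (fun k => (a k : F)) (Pi.single i (1 : F)) = 0 := by
      intro i
      rw [← coe_single K i, ← fixed_form_polar K Q2 Q0 h, ha]
      rfl
    have h2 : QuadraticMap.polarBilin Q2 (fun k => (a k : F)) = 0 := by
      apply (Pi.basisFun F ι).ext
      intro i
      rw [Pi.basisFun_apply]
      exact h1 i
    have h3 : (fun k => (a k : F)) = 0 := by
      apply hQ2.1
      intro v
      rw [h2]
      rfl
    funext k
    apply Subtype.ext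
    exact congrFun h3 k
  constructor
  · intro x hx
    exact key x hx
  · intro y hy
    apply key y
    intro x
    rw [QuadraticMap.polar_comm]
    exact hy x

/-- The matrix over `F` whose columns are the vectors of a basis over a subfield. -/
theorem exists_gl_of_basis (K : Subfield F) (b : Basis ι K (ι → K)) :
    ∃ B : Matrix.GeneralLinearGroup ι F, ∀ i j, (B : Matrix ι ι F) i j = ((b j i : K) : F) := by
  classical
  obtain ⟨M₀, hM₀⟩ : ∃ M₀ : Matrix ι ι K, M₀ = (Pi.basisFun K ι).toMatrix b := ⟨_, rfl⟩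
  obtain ⟨N₀, hN₀⟩ : ∃ N₀ : Matrix ι ι K, N₀ = b.toMatrix (Pi.basisFun K ι) := ⟨_, rfl⟩
  have h1 : M₀ * N₀ = 1 := by rw [hM₀, hN₀]; exact Basis.toMatrix_mul_toMatrix_flip _ _
  have h2 : N₀ * M₀ = 1 := by rw [hM₀, hN₀]; exact Basis.toMatrix_mul_toMatrix_flip _ _
  refine ⟨⟨M₀.map K.subtype, N₀.map K.subtype, ?_, ?_⟩, fun i j => ?_⟩
  · rw [← Matrix.map_mul, h1, Matrix.map_one _ (map_zero _) (map_one _)]
  · rw [← Matrix.map_mul, h2, Matrix.map_one _ (map_zero _) (map_one _)]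
  · show K.subtype (M₀ i j) = _
    rw [hM₀, Basis.toMatrix_apply, Pi.basisFun_repr]
    rfl


/-- Comparing a transported form with a multiple of a form on the standard basis. -/
theorem form_eq_of_basis_images (Q Q' : QuadraticForm F (ι → F)) (c : F) (B : Matrix ι ι F)
    (h1 : ∀ i, Q' (B *ᵥ Pi.single i 1) = c * Q (Pi.single i 1))
    (h2 : ∀ i j, QuadraticMap.polar (⇑Q') (B *ᵥ Pi.single i 1) (B *ᵥ Pi.single j 1)
      = c * QuadraticMap.polar (⇑Q) (Pi.single i 1) (Pi.single j 1)) (v : ι → F) :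
    Q' (B *ᵥ v) = c * Q v := by
  have hcomp : Q'.comp (Matrix.toLin' B) = c • Q := by
    apply quad_ext_basis (Pi.basisFun F ι)
    · intro i
      rw [QuadraticMap.comp_apply, Pi.basisFun_apply, Matrix.toLin'_apply, h1]
      rfl
    · intro i j
      have e1 : QuadraticMap.polar (⇑(Q'.comp (Matrix.toLin' B))) (Pi.basisFun F ι i)
          (Pi.basisFun F ι j)
          = QuadraticMap.polar (⇑Q') (B *ᵥ Pi.single i 1) (B *ᵥ Pi.single j 1) := by
        simp only [QuadraticMap.polar, QuadraticMap.comp_apply, map_add, Pi.basisFun_apply,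
          Matrix.toLin'_apply]
      have e2 : QuadraticMap.polar (⇑(c • Q)) (Pi.basisFun F ι i) (Pi.basisFun F ι j)
          = c * QuadraticMap.polar (⇑Q) (Pi.single i 1) (Pi.single j 1) := by
        simp only [QuadraticMap.polar, _root_.smul_apply, smul_eq_mul, Pi.basisFun_apply]
        ring
      rw [e1, e2, h2]
  have := congrArg (fun q : QuadraticForm F (ι → F) => q v) hcomp
  simpa using this

/-- Transporting a non-degenerate form along an invertible matrix and rescaling keeps it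
non-degenerate. -/
theorem nondeg_of_transport (Q Q2 : QuadraticForm F (ι → F))
    (hQ : (QuadraticMap.polarBilin Q).Nondegenerate) (P : Matrix.GeneralLinearGroup ι F)
    (e : F) (he : e ≠ 0) (h : ∀ w, Q2 w = e⁻¹ * Q ((P : Matrix ι ι F) *ᵥ w)) :
    (QuadraticMap.polarBilin Q2).Nondegenerate := by
  have key : ∀ a : ι → F, (∀ b, QuadraticMap.polar (⇑Q2) a b = 0) → a = 0 := by
    intro a ha
    have h1 : ∀ b, QuadraticMap.polar (⇑Q2) a b
        = e⁻¹ * QuadraticMap.polar (⇑Q) ((P : Matrix ι ι F) *ᵥ a) ((P : Matrix ι ι F) *ᵥ b) := by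
      intro b
      simp only [QuadraticMap.polar, h, Matrix.mulVec_add]
      ring
    have h2 : (P : Matrix ι ι F) *ᵥ a = 0 := by
      apply hQ.1
      intro v
      have h3 := ha (((P⁻¹ : Matrix.GeneralLinearGroup ι F) : Matrix ι ι F) *ᵥ v)
      rw [h1, Matrix.mulVec_mulVec, ← Units.val_mul, mul_inv_cancel, Units.val_one,
        Matrix.one_mulVec] at h3
      exact (mul_eq_zero.mp h3).resolve_left (inv_ne_zero he)
    exact gl_mulVec_eq_zero P a h2
  constructor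
  · intro x hx
    exact key x hx
  · intro y hy
    apply key y
    intro x
    rw [QuadraticMap.polar_comm]
    exact hy x

/-- A solution of Lang's equation inside the similarity group conjugates the standard field
automorphism to its translate. -/
theorem conj_of_lang [Fintype F] (Q : QuadraticForm F (ι → F)) (σ : RingAut F)
    (hp1 : Cfsg.IsSemisimilarityPair (⇑Q) (1 : Matrix.GeneralLinearGroup ι F) σ)
    {φ : MulAut (Cfsg.POmega F (⇑Q))}
    (hi1 : Cfsg.IsInducedBySemilinearPOmega (⇑Q) (1 : Matrix.GeneralLinearGroup ι F) σ φ)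
    (g P' : ↥(Cfsg.Geo.quadSimilarityGroup (⇑Q))) (t : F) (ht : t ≠ 0)
    (hP : (t • ((g : Matrix.GeneralLinearGroup ι F) : Matrix ι ι F))
      * ((P' : Matrix.GeneralLinearGroup ι F) : Matrix ι ι F).map σ
        = ((P' : Matrix.GeneralLinearGroup ι F) : Matrix ι ι F)) :
    cHom (⇑Q) g * φ = cHom (⇑Q) P' * φ * (cHom (⇑Q) P')⁻¹ := by
  have hc := conj_cHom Q hp1 hi1 P'
  have hmul : scalSim Q (Units.mk0 t ht) * g * semiConjSim Q hp1 P' = P' := by
    apply Subtype.ext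
    apply Units.ext
    show ((scalGL ι (Units.mk0 t ht) : Matrix.GeneralLinearGroup ι F) : Matrix ι ι F)
        * ((g : Matrix.GeneralLinearGroup ι F) : Matrix ι ι F)
        * (((1 : Matrix.GeneralLinearGroup ι F) *
            Matrix.GeneralLinearGroup.map (σ : F →+* F) P'.1 * (1 : Matrix.GeneralLinearGroup ι F)⁻¹ :
            Matrix.GeneralLinearGroup ι F) : Matrix ι ι F)
        = ((P' : Matrix.GeneralLinearGroup ι F) : Matrix ι ι F)
    rw [scalGL_coe, one_mul, inv_one, mul_one, glMap_val, Units.val_mk0, Matrix.smul_mul,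
      Matrix.one_mul]
    exact hP
  have h1 : cHom (⇑Q) g * cHom (⇑Q) (semiConjSim Q hp1 P') = cHom (⇑Q) P' := by
    have h0 := congrArg (cHom (⇑Q)) hmul
    rw [map_mul, map_mul, cHom_scalSim, one_mul] at h0
    exact h0
  rw [← hc] at h1
  have h2 : cHom (⇑Q) g = cHom (⇑Q) P' * (φ * cHom (⇑Q) P' * φ⁻¹)⁻¹ := eq_mul_inv_of_mul_eq h1
  rw [h2]
  group


/-- Reduction of the coset-conjugacy problem to Lang's equation. -/
theorem field_coset_reduce [Fintype F] (Q : QuadraticForm F (ι → F))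
    (hQ : (QuadraticMap.polarBilin Q).Nondegenerate) (h3 : HasTS3 Q) (hne : ∃ v, Q v ≠ 0)
    (htop : ∀ β : MulAut (Cfsg.POmega F (⇑Q)), β ∈ Cfsg.gammaPOmega F (⇑Q))
    (σ : RingAut F) (hσ : σ ≠ 1)
    (hp1 : Cfsg.IsSemisimilarityPair (⇑Q) (1 : Matrix.GeneralLinearGroup ι F) σ)
    {φ : MulAut (Cfsg.POmega F (⇑Q))}
    (hi1 : Cfsg.IsInducedBySemilinearPOmega (⇑Q) (1 : Matrix.GeneralLinearGroup ι F) σ φ)
    (α x δ : MulAut (Cfsg.POmega F (⇑Q))) (hαx : α * x * α⁻¹ = φ) {r : ℕ} (hr : r.Prime)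
    (hxr : orderOf x = r) (hδ : δ ∈ Cfsg.pgoAut F (⇑Q)) (ho : orderOf (δ * x) = r) :
    orderOf σ = r ∧ ∃ (g : ↥(Cfsg.Geo.quadSimilarityGroup (⇑Q)))
      (P : Matrix.GeneralLinearGroup ι F) (t : F), t ≠ 0 ∧ α * δ * α⁻¹ = cHom (⇑Q) g ∧
        (t • ((g : Matrix.GeneralLinearGroup ι F) : Matrix ι ι F)) * (P : Matrix ι ι F).map σ
          = (P : Matrix ι ι F) := by
  have : Fact r.Prime := ⟨hr⟩
  obtain ⟨Ψ, hΨ⟩ := exists_sigHom Q hQ h3 htop
  have hker := sigHom_ker Q htop Ψ hΨ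
  have hΨφ : Ψ φ = σ := hΨ φ 1 σ hp1 hi1
  have hxr1 : x ^ r = 1 := by rw [← hxr]; exact pow_orderOf_eq_one x
  have hφr : φ ^ r = 1 := by
    rw [← hαx, conj_pow, hxr1, mul_one, mul_inv_cancel]
  have hσr : σ ^ r = 1 := by rw [← hΨφ, ← map_pow, hφr, map_one]
  have hord : orderOf σ = r := orderOf_eq_prime hσr hσ
  have hδ' : α * δ * α⁻¹ ∈ Cfsg.pgoAut F (⇑Q) := by
    rw [← hker] at hδ ⊢
    rw [MonoidHom.mem_ker] at hδ ⊢
    rw [map_mul, map_mul, hδ, mul_one, map_inv, mul_inv_cancel]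
  rw [pgoAut_eq] at hδ'
  obtain ⟨g, hg⟩ := hδ'
  have hx0 : Cfsg.IsInducedBySemilinearPOmega (⇑Q) g.1 (RingEquiv.refl F) (cHom (⇑Q) g) :=
    (isInduced_iff (⇑Q) g (cHom (⇑Q) g)).mpr rfl
  have hpx0 : Cfsg.IsSemisimilarityPair (⇑Q) g.1 (RingEquiv.refl F) := by
    obtain ⟨c, hc⟩ := g.2
    exact ⟨c, fun v => hc v⟩
  have e1 : (g.1 : Matrix.GeneralLinearGroup ι F)
      * Matrix.GeneralLinearGroup.map ((RingEquiv.refl F : F ≃+* F) : F →+* F)
        (1 : Matrix.GeneralLinearGroup ι F) = g.1 := by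
    rw [map_one, mul_one]
  have e2 : (σ : F ≃+* F).trans (RingEquiv.refl F) = σ := RingEquiv.ext (fun _ => rfl)
  have hpg : Cfsg.IsSemisimilarityPair (⇑Q) g.1 σ := by
    have h := pair_mul hpx0 hp1
    rw [e1, e2] at h
    exact h
  have hig : Cfsg.IsInducedBySemilinearPOmega (⇑Q) g.1 σ (cHom (⇑Q) g * φ) := by
    have h := induced_mul hx0 hi1 hp1
    rw [e1, e2] at h
    exact h
  have hpow : (cHom (⇑Q) g * φ) ^ r = 1 := by
    have e3 : cHom (⇑Q) g * φ = α * (δ * x) * α⁻¹ := by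
      rw [hg, ← hαx]
      group
    have hdx : (δ * x) ^ r = 1 := by rw [← ho]; exact pow_orderOf_eq_one _
    rw [e3, conj_pow, hdx, mul_one, mul_inv_cancel]
  obtain ⟨P, t, ht0, hP⟩ := exists_lang_of_pow Q hQ h3 hne σ hord hr.pos g.1 hpg hig hpow
  exact ⟨hord, g, P, t, ht0, hg.symm, hP⟩

/-- The conjugating element obtained from a similarity solving Lang's equation. -/
theorem field_coset_finish [Fintype F] (Q : QuadraticForm F (ι → F)) (σ : RingAut F)
    (hp1 : Cfsg.IsSemisimilarityPair (⇑Q) (1 : Matrix.GeneralLinearGroup ι F) σ)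
    {φ : MulAut (Cfsg.POmega F (⇑Q))}
    (hi1 : Cfsg.IsInducedBySemilinearPOmega (⇑Q) (1 : Matrix.GeneralLinearGroup ι F) σ φ)
    (α x δ : MulAut (Cfsg.POmega F (⇑Q))) (hαx : α * x * α⁻¹ = φ)
    (g P' : ↥(Cfsg.Geo.quadSimilarityGroup (⇑Q))) (t : F) (ht : t ≠ 0)
    (hg : α * δ * α⁻¹ = cHom (⇑Q) g)
    (hP : (t • ((g : Matrix.GeneralLinearGroup ι F) : Matrix ι ι F))
      * ((P' : Matrix.GeneralLinearGroup ι F) : Matrix ι ι F).map σ
        = ((P' : Matrix.GeneralLinearGroup ι F) : Matrix ι ι F)) :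
    δ * x = (α⁻¹ * cHom (⇑Q) P' * α) * x * (α⁻¹ * cHom (⇑Q) P' * α)⁻¹ := by
  have h := conj_of_lang Q σ hp1 hi1 g P' t ht hP
  rw [← hg, ← hαx] at h
  have e1 : δ * x = α⁻¹ * ((α * δ * α⁻¹) * (α * x * α⁻¹)) * α := by group
  rw [e1, h]
  group

/-- The image of the conformal group is normal in the automorphism group. -/
theorem pgoAut_conj_mem [Fintype F] (Q : QuadraticForm F (ι → F))
    (hQ : (QuadraticMap.polarBilin Q).Nondegenerate) (h3 : HasTS3 Q)
    (htop : ∀ β : MulAut (Cfsg.POmega F (⇑Q)), β ∈ Cfsg.gammaPOmega F (⇑Q))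
    (α β : MulAut (Cfsg.POmega F (⇑Q))) (hβ : β ∈ Cfsg.pgoAut F (⇑Q)) :
    α * β * α⁻¹ ∈ Cfsg.pgoAut F (⇑Q) := by
  obtain ⟨Ψ, hΨ⟩ := exists_sigHom Q hQ h3 htop
  have hker := sigHom_ker Q htop Ψ hΨ
  rw [← hker] at hβ ⊢
  rw [MonoidHom.mem_ker] at hβ ⊢
  rw [map_mul, map_mul, hβ, mul_one, map_inv, mul_inv_cancel]

end

end Cfsg.Agent.H49
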