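import Cfsg.Agent.H96.GuDefs

set_option autoImplicit false
set_option linter.unusedSectionVars false
set_option linter.unusedVariables false

/-! helper49: piece GU-FT of helper96's S5700 project: an isometry mapping the `F[J]`-line of
every singular vector into the `F[J]`-line of its image normalises `F[J]`. -/

namespace Cfsg.Agent.H49.Gu

open Module Matrix Cfsg.Agent.H49 Cfsg.Agent.H95 Cfsg.Agent.H96.Gu

universe u

theorem ft (hInd : StInd.{u}) (hSNM : StSNM.{u}) : StFT.{u} := by
  intro ι _ _ F _ _ Q J t N C g h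
  choose! a b hab using h
  -- `b z ≠ 0` for non-zero singular `z`
  have hb : ∀ z : ι → F, z ≠ 0 → Q z = 0 → b z ≠ 0 := by
    intro z hz hQz hbz
    have h1 := hab z hQz
    rw [hbz, zero_smul, add_zero, ← act_smul] at h1
    have h2 := act_injective g h1
    have h3 := (hInd Q J t N C z hz).1 (a z) (-1) (by rw [h2]; module)
    exact one_ne_zero (neg_eq_zero.mp h3.2)
  -- orthogonal singular vectors on different lines have the same coefficients
  have hpair : ∀ z w : ι → F, z ≠ 0 → Q z = 0 → Q w = 0 → QuadraticMap.polar (⇑Q) z w = 0 →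
      ¬ inK J z w → a z = a w ∧ b z = b w := by
    intro z w hz hQz hQw hzw hnK
    have hQzw : Q (z + w) = 0 := by rw [Q_add', hQz, hQw, hzw]; ring
    have e1 := hab z hQz
    have e2 := hab w hQw
    have e3 := hab (z + w) hQzw
    have hgz : act g z ≠ 0 := act_ne_zero g hz
    have hnK' : ¬ inK J (act g z) (act g w) := by
      rintro ⟨a', b', hw⟩
      apply hnK
      have hJ : J (act g z) = act g ((b z)⁻¹ • (J z - a z • z)) := by
        rw [act_smul, act_sub, act_smul, e1, add_sub_cancel_left, smul_smul,
          inv_mul_cancel₀ (hb z hz hQz), one_smul]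
      rw [hJ, ← act_smul, ← act_smul, ← act_add] at hw
      have hw' := act_injective g hw
      refine ⟨a' - b' * (b z)⁻¹ * a z, b' * (b z)⁻¹, ?_⟩
      rw [hw']
      module
    have hsum : act g (J (z + w)) = act g (J z) + act g (J w) := by rw [map_add, act_add]
    rw [e1, e2, e3, act_add, map_add] at hsum
    have hind := (hInd Q J t N C (act g z) hgz).2 (act g w) hnK'
      (a (z + w) - a z) (b (z + w) - b z) (a (z + w) - a w) (b (z + w) - b w) (by
        calc (a (z + w) - a z) • act g z + (b (z + w) - b z) • J (act g z)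
              + (a (z + w) - a w) • act g w + (b (z + w) - b w) • J (act g w)
            = (a (z + w) • (act g z + act g w) + b (z + w) • (J (act g z) + J (act g w)))
              - (a z • act g z + b z • J (act g z) + (a w • act g w + b w • J (act g w))) := by
              module
          _ = 0 := by rw [hsum, sub_self])
    exact ⟨(sub_eq_zero.mp hind.1).symm.trans (sub_eq_zero.mp hind.2.2.1),
      (sub_eq_zero.mp hind.2.1).symm.trans (sub_eq_zero.mp hind.2.2.2)⟩
  -- any two non-zero singular vectors have the same coefficients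
  have hconst : ∀ z w : ι → F, z ≠ 0 → Q z = 0 → w ≠ 0 → Q w = 0 → a z = a w ∧ b z = b w := by
    intro z w hz hQz hw hQw
    obtain ⟨e, he, hez, hew, hne⟩ := hSNM Q J t N C z w
    have h1 := hpair z e hz hQz he (by rw [QuadraticMap.polar_comm]; exact hez.1) (by
      rintro ⟨a', b', h'⟩
      exact hne a' b' 0 0 (by rw [h']; module))
    have h2 := hpair w e hw hQw he (by rw [QuadraticMap.polar_comm]; exact hew.1) (by
      rintro ⟨a', b', h'⟩
      exact hne 0 0 a' b' (by rw [h']; module))
    exact ⟨h1.1.trans h2.1.symm, h1.2.trans h2.2.symm⟩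
  obtain ⟨z₀, hz₀, -, -, hne₀⟩ := hSNM Q J t N C 0 0
  have hz₀0 : z₀ ≠ 0 := by
    intro h0
    exact hne₀ 0 0 0 0 (by rw [h0]; simp)
  refine ⟨a z₀, b z₀, ?_⟩
  have hsing : ∀ s : ι → F, Q s = 0 → act g (J s) = a z₀ • act g s + b z₀ • J (act g s) := by
    intro s hs
    by_cases hs0 : s = 0
    · rw [hs0, map_zero, act_zero, map_zero, smul_zero, smul_zero, add_zero]
    · obtain ⟨h1, h2⟩ := hconst z₀ s hz₀0 hz₀ hs0 hs
      rw [h1, h2]
      exact hab s hs
  have hdim : finrank F (ι → F) = Fintype.card ι := Module.finrank_fintype_fun_eq_card F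
  have h14 := C.dim
  obtain ⟨e, e', he, he', hee, -, -⟩ := exists_hyp_pair_orth Q C.nd ⊥ (by
    rw [finrank_bot]; omega)
  intro x
  have hx := mem_span_singular Q ⊤ e e' Submodule.mem_top Submodule.mem_top he he' hee x
    Submodule.mem_top
  induction hx using Submodule.span_induction with
  | mem s hs => exact hsing s hs.2
  | zero => rw [map_zero, act_zero, map_zero, smul_zero, smul_zero, add_zero]
  | add p q _ _ hp hq =>
    simp only [map_add, act_add, hp, hq]
    module
  | smul c p _ hp =>
    simp only [map_smul, act_smul, hp]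
    module

example (hInd : Cfsg.Agent.H96.Gu.StInd.{u}) (hSNM : Cfsg.Agent.H96.Gu.StSNM.{u}) :
    Cfsg.Agent.H96.Gu.StFT.{u} := ft hInd hSNM

end Cfsg.Agent.H49.Gu

#print axioms Cfsg.Agent.H49.Gu.ft
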