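import Cfsg.Agent.H96.GuDefs

set_option autoImplicit false
set_option linter.unusedSectionVars false
set_option linter.unusedVariables false

/-! helper49: piece GU-SNM of helper96's S5700 project (parallel take): a singular vector
orthogonal to, and outside, the span of `u, J u, v, J v`. -/

namespace Cfsg.Agent.H49.Gu

open Module Matrix Cfsg.Agent.H49 Cfsg.Agent.H95 Cfsg.Agent.H96.Gu

universe u

theorem snm : StSNM.{u} := by
  intro ι _ _ F _ _ Q J t N C u v
  classical
  have h4 : finrank F (Submodule.span F ({u, J u, v, J v} : Set (ι → F))) ≤ 4 := by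
    have h := finrank_span_finset_le_card (R := F) ({u, J u, v, J v} : Finset (ι → F))
    have h2 : (({u, J u, v, J v} : Finset (ι → F)) : Set (ι → F)) = {u, J u, v, J v} := by
      simp
    rw [h2] at h
    exact h.trans Finset.card_le_four
  have hinf := Submodule.finrank_mono (inf_le_left :
    Submodule.span F ({u, J u, v, J v} : Set (ι → F))
      ⊓ LinearMap.BilinForm.orthogonal (QuadraticMap.polarBilin Q)
        (Submodule.span F ({u, J u, v, J v} : Set (ι → F)))
      ≤ Submodule.span F ({u, J u, v, J v} : Set (ι → F)))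
  have hdim : finrank F (ι → F) = Fintype.card ι := Module.finrank_fintype_fun_eq_card F
  have h14 := C.dim
  obtain ⟨e, he, heX, hne⟩ := exists_singular_orth_not_mem' Q C.nd
    (Submodule.span F ({u, J u, v, J v} : Set (ι → F))) (by omega)
  have k : ∀ g ∈ ({u, J u, v, J v} : Set (ι → F)), QuadraticMap.polar (⇑Q) e g = 0 := by
    intro g hg
    rw [QuadraticMap.polar_comm]
    exact heX g (Submodule.subset_span hg)
  refine ⟨e, he, ⟨k u (by simp), k (J u) (by simp)⟩, ⟨k v (by simp), k (J v) (by simp)⟩, ?_⟩
  intro a b c d heq
  apply hne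
  rw [heq]
  exact Submodule.add_mem _ (Submodule.add_mem _ (Submodule.add_mem _
    (Submodule.smul_mem _ _ (Submodule.subset_span (by simp)))
    (Submodule.smul_mem _ _ (Submodule.subset_span (by simp))))
    (Submodule.smul_mem _ _ (Submodule.subset_span (by simp))))
    (Submodule.smul_mem _ _ (Submodule.subset_span (by simp)))

example : Cfsg.Agent.H96.Gu.StSNM.{u} := snm

end Cfsg.Agent.H49.Gu

#print axioms Cfsg.Agent.H49.Gu.snm
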