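import Cfsg.Agent.H96.GuDefs

set_option autoImplicit false
set_option linter.unusedSectionVars false
set_option linter.unusedVariables false

/-! helper49: piece GU-TAU of helper96's S5700 project (parallel take): the Siegel element at
`(u, J u)` commutes with `J`. -/

namespace Cfsg.Agent.H49.Gu

open Module Matrix Cfsg.Agent.H49 Cfsg.Agent.H95 Cfsg.Agent.H96.Gu

universe u

theorem tau : StTau.{u} := by
  intro ι _ _ F _ _ Q J t N C u hu hJu h c x
  rw [act_siegelG, act_siegelG, C.polJJ, C.adj' u x]
  simp only [map_add, map_smul, map_sub, C.sq]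
  module

example : Cfsg.Agent.H96.Gu.StTau.{u} := tau

end Cfsg.Agent.H49.Gu

#print axioms Cfsg.Agent.H49.Gu.tau
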