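import Cfsg.Agent.H8BN2
import Cfsg.Agent.H23.BN2

set_option autoImplicit false

/-!
# IC-COAT, abstract part

In a group with a (B, N)-pair: if all distinguished generators but one (`s`) lie in `J₀` and `s` is not
in the parabolic subgroup `P_{J₀}`, then `P_{J₀}` is a maximal subgroup and `s` does not normalize it.
Then the same for the maximal parabolic subgroup of a Chevalley group obtained by leaving out one node.
-/

namespace Cfsg.Agent.H49.Ic

open Cfsg Cfsg.Lie Cfsg.Agent.H23

theorem coat_abs {G : Type*} [Group G] (P : Cfsg.BNPair G) (J₀ : Set G) (_hJ₀ : J₀ ⊆ P.S) (s : G)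
    (hS : P.S ⊆ J₀ ∪ {s}) (hs : s ∉ P.parabolic J₀) :
    IsCoatom (P.parabolic J₀) ∧
      (P.parabolic J₀).map (MulAut.conj s).toMonoidHom ≠ P.parabolic J₀ := by
  have hB₀ : P.B ≤ P.parabolic J₀ := le_sup_left
  have hC₀ : Subgroup.closure J₀ ≤ P.parabolic J₀ := le_sup_right
  refine ⟨⟨?_, ?_⟩, ?_⟩
  · intro h
    exact hs (h ▸ Subgroup.mem_top s)
  · intro M hM
    have hB : P.B ≤ M := le_trans hB₀ hM.le
    have hMJ : M = P.parabolic (P.S ∩ M) := Cfsg.H8BN.eq_parabolic_of_le P M hB
    by_cases hJ : P.S ∩ (M : Set G) ⊆ J₀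
    · exfalso
      have hle : M ≤ P.parabolic J₀ := by
        rw [hMJ]
        exact sup_le_sup_left (Subgroup.closure_mono hJ) _
      exact absurd hM (not_lt_of_ge hle)
    · obtain ⟨t, htJ, htJ₀⟩ := Set.not_subset.mp hJ
      have hts : t = s := by
        rcases hS htJ.1 with h | h
        · exact absurd h htJ₀
        · exact h
      have hsM : s ∈ M := hts ▸ htJ.2
      have hSM : P.S ⊆ (M : Set G) := by
        intro x hx
        rcases hS hx with h | h
        · exact hM.le (hC₀ (Subgroup.subset_closure h))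
        · rw [Set.mem_singleton_iff] at h
          rw [h]
          exact hsM
      have hN : P.N ≤ M := by
        rw [← P.closure_sup]
        exact sup_le ((Subgroup.closure_le M).mpr hSM) (le_trans inf_le_left hB)
      rw [eq_top_iff, ← P.sup_eq_top]
      exact sup_le hB hN
  · intro h
    have hnorm : s ∈ Subgroup.normalizer (P.parabolic J₀ : Set G) := by
      rw [Subgroup.mem_normalizer_iff]
      intro x
      constructor
      · intro hx
        rw [← h]
        exact ⟨x, hx, rfl⟩
      · intro hx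
        rw [← h] at hx
        obtain ⟨y, hy, hyx⟩ := hx
        have hyx' : s * y * s⁻¹ = s * x * s⁻¹ := hyx
        have : y = x := by
          have := congrArg (fun w => s⁻¹ * w * s) hyx'
          simpa [mul_assoc] using this
        exact this ▸ hy
    rw [Cfsg.H8BN.normalizer_parabolic P J₀] at hnorm
    exact hs hnorm

variable {D : ChevalleyDatum} {F : Type*} [Field F] {z : ℕ → ℕ → ℤ} {η : ℕ → ℕ → ℤ}

/-- The maximal parabolic subgroup of a Chevalley group leaving out the node `k` is a maximal subgroup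
and is not normalized by `n_k`, as soon as `n_k` is not in it. -/
theorem coat_gen (hP : PackB D F z η) (k : ℕ)
    (hnot : nU hP.sem (D.simple k) 1 ∉ D.parabolicSubgroup F {j | j ≠ k})
    (hn : nU hP.sem (D.simple k) 1 ∈ D.group F) :
    IsCoatom ((D.parabolicSubgroup F {j | j ≠ k}).subgroupOf (D.group F)) ∧
      ((D.parabolicSubgroup F {j | j ≠ k}).subgroupOf (D.group F)).map
        (MulAut.conj (⟨nU hP.sem (D.simple k) 1, hn⟩ : ↥(D.group F))).toMonoidHom ≠
        (D.parabolicSubgroup F {j | j ≠ k}).subgroupOf (D.group F) := by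
  have hS := hP.sem
  set J₀ : Set ↥(D.group F) := {n | ∃ i < D.rank, i ≠ k ∧
    ((n : GL D.Idx F) : Matrix D.Idx D.Idx F) = D.nMat F (D.simple i) 1} with hJ₀def
  set X : Set (GL D.Idx F) := {g | ∃ j ∈ ({j | j ≠ k} : Set ℕ), j < D.rank ∧
    (g : Matrix D.Idx D.Idx F) = D.nMat F (D.simple j) 1} with hXdef
  have hXG : ∀ g ∈ X, g ∈ D.group F := by
    rintro g ⟨j, -, -, hg⟩
    have e : g = nU hS (D.simple j) 1 := Units.ext (hg.trans (nU_val hS _ 1).symm)
    rw [e]
    exact wordU_mem_group hS _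
  have hX : Subgroup.closure X = (Subgroup.closure J₀).map (D.group F).subtype := by
    rw [MonoidHom.map_closure]
    congr 1
    ext g
    constructor
    · rintro ⟨j, hjJ, hj, hg⟩
      exact ⟨⟨g, hXG g ⟨j, hjJ, hj, hg⟩⟩, ⟨j, hj, hjJ, hg⟩, rfl⟩
    · rintro ⟨n, ⟨j, hj, hj3, hg⟩, rfl⟩
      exact ⟨j, hj3, hj, hg⟩
  have hpar : (D.parabolicSubgroup F {j | j ≠ k}).subgroupOf (D.group F) =
      (bnPair hP).parabolic J₀ := by
    have h1 : D.parabolicSubgroup F {j | j ≠ k} = D.borelSubgroup F ⊔ Subgroup.closure X := rfl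
    have hXle : Subgroup.closure X ≤ D.group F := (Subgroup.closure_le _).mpr hXG
    rw [h1, Subgroup.subgroupOf_sup (borel_le_group hS) hXle]
    have h2 : (Subgroup.closure X).subgroupOf (D.group F) = Subgroup.closure J₀ := by
      rw [hX]
      exact Subgroup.comap_map_eq_self_of_injective (Subgroup.subtype_injective _) _
    rw [h2]
    rfl
  have hJS : J₀ ⊆ (bnPair hP).S := by
    rintro n ⟨i, hi, -, hn⟩
    exact ⟨i, hi, hn⟩
  have hSJ : (bnPair hP).S ⊆ J₀ ∪ {(⟨nU hP.sem (D.simple k) 1, hn⟩ : ↥(D.group F))} := by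
    rintro n ⟨i, hi, hni⟩
    by_cases hik : i = k
    · right
      rw [Set.mem_singleton_iff]
      apply Subtype.ext
      apply Units.ext
      rw [hni, hik]
      exact (nU_val hP.sem _ 1).symm
    · left
      exact ⟨i, hi, hik, hni⟩
  have hs : (⟨nU hP.sem (D.simple k) 1, hn⟩ : ↥(D.group F)) ∉ (bnPair hP).parabolic J₀ := by
    rw [← hpar]
    intro h
    exact hnot (Subgroup.mem_subgroupOf.mp h)
  rw [hpar]
  exact coat_abs (bnPair hP) J₀ hJS _ hSJ hs

end Cfsg.Agent.H49.Ic
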