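import Mathlib
import Cfsg.Agent.H49.GeoGlue
import Cfsg.Agent.H49.NonMax
import Cfsg.Agent.H49.Siegel
import Cfsg.Agent.H49.ClassTwo

set_option autoImplicit false

namespace Cfsg.Agent.H49

open Module Matrix

section
variable {ι : Type} [Fintype ι] [DecidableEq ι] {F : Type*} [Field F]

/-- `Ω` does not stabilise a non-zero totally singular subspace. -/
theorem exists_commutator_not_stab [Fintype F] (Q : QuadraticForm F (ι → F))
    (hQ : (QuadraticMap.polarBilin Q).Nondegenerate)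
    (hex : Fintype.card F ≠ 2 ∨ finrank F (ι → F) ≠ 4) (h3 : 2 < finrank F (ι → F))
    (U₁ : Submodule F (ι → F)) (hU₁ : IsTS Q U₁) (hU₁bot : U₁ ≠ ⊥) :
    ∃ g : ↥(Cfsg.isometryGroup F (⇑Q)), g ∈ commutator ↥(Cfsg.isometryGroup F (⇑Q)) ∧
      U₁.map (Matrix.mulVecLin ((g : Matrix.GeneralLinearGroup ι F) : Matrix ι ι F)) ≠ U₁ := by
  have hnd : ∀ a : ι → F, (∀ b : ι → F, QuadraticMap.polar (⇑Q) a b = 0) → a = 0 :=
    fun a h => hQ.1 a h
  obtain ⟨p, hpU, hp⟩ := Submodule.exists_mem_ne_zero_of_ne_bot hU₁bot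
  obtain ⟨w, hQw, hpw⟩ := exists_hyp_partner Q hnd p hp (hU₁ p hpU)
  have hw0 : w ≠ 0 := by
    rintro rfl
    rw [QuadraticMap.polar_zero_right] at hpw
    exact zero_ne_one hpw
  obtain ⟨g, hg, hgp⟩ := exists_commutator_map_ts_lt Q hQ hex (Submodule.span F {p})
    (Submodule.span F {w}) (isTS_span_singleton Q p (hU₁ p hpU)) (isTS_span_singleton Q w hQw)
    (by rw [finrank_span_singleton hp, finrank_span_singleton hw0])
    (by rw [finrank_span_singleton hw0]; omega)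
  refine ⟨g, hg, ?_⟩
  intro hgU
  have h1 : ((g : Matrix.GeneralLinearGroup ι F) : Matrix ι ι F) *ᵥ p ∈ U₁ := by
    rw [← hgU]
    exact Submodule.mem_map.mpr ⟨p, hpU, rfl⟩
  have h2 : ((g : Matrix.GeneralLinearGroup ι F) : Matrix ι ι F) *ᵥ p
      ∈ Submodule.span F {w} := by
    rw [← hgp]
    exact Submodule.mem_map.mpr ⟨p, Submodule.mem_span_singleton_self p, rfl⟩
  obtain ⟨c, hc⟩ := Submodule.mem_span_singleton.mp h2
  have hc0 : c ≠ 0 := by
    rintro rfl
    rw [zero_smul] at hc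
    apply hp
    apply mulVecLin_injective g
    rw [Matrix.mulVecLin_apply, ← hc, map_zero]
  have hwU : w ∈ U₁ := by
    have := U₁.smul_mem c⁻¹ h1
    rwa [← hc, smul_smul, inv_mul_cancel₀ hc0, one_smul] at this
  have := hU₁.polar hpU hwU
  rw [hpw] at this
  exact one_ne_zero this

/-- For a decomposition of a plus-type space of dimension `2k`, `k` odd, into two totally
singular subspaces: `Ω` cannot interchange them, some element of `Ω` stabilises the first but
not the second, and some element of `Ω` does not stabilise the first. -/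
theorem decomp_ts_not_maximal [Fintype F] (Q : QuadraticForm F (ι → F))
    (hQ : (QuadraticMap.polarBilin Q).Nondegenerate) {k : ℕ} (hV : finrank F (ι → F) = 2 * k)
    (hk : 3 ≤ k) (hko : Odd k) (D₀ D₁ : Submodule F (ι → F)) (h₀ : IsTS Q D₀)
    (d₀ : finrank F D₀ = k) (hdisj : D₀ ⊓ D₁ = ⊥) (hsup : D₀ ⊔ D₁ = ⊤) :
    (∀ g : ↥(Cfsg.isometryGroup F (⇑Q)), g ∈ commutator ↥(Cfsg.isometryGroup F (⇑Q)) →
      D₀.map (Matrix.mulVecLin ((g : Matrix.GeneralLinearGroup ι F) : Matrix ι ι F)) ≠ D₁) ∧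
    (∃ g : ↥(Cfsg.isometryGroup F (⇑Q)), g ∈ commutator ↥(Cfsg.isometryGroup F (⇑Q)) ∧
      D₀.map (Matrix.mulVecLin ((g : Matrix.GeneralLinearGroup ι F) : Matrix ι ι F)) = D₀ ∧
      D₁.map (Matrix.mulVecLin ((g : Matrix.GeneralLinearGroup ι F) : Matrix ι ι F)) ≠ D₁) ∧
    (∃ g : ↥(Cfsg.isometryGroup F (⇑Q)), g ∈ commutator ↥(Cfsg.isometryGroup F (⇑Q)) ∧
      D₀.map (Matrix.mulVecLin ((g : Matrix.GeneralLinearGroup ι F) : Matrix ι ι F)) ≠ D₀) := by
  have hD₀bot : D₀ ≠ ⊥ := by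
    intro h
    rw [h, finrank_bot] at d₀
    omega
  refine ⟨?_, ?_, ?_⟩
  · intro g hg hgD
    have he := even_of_mem_commutator Q hQ hV D₀ h₀ d₀ hg
    rw [hgD, hdisj, finrank_bot, Nat.sub_zero] at he
    exact (Nat.not_even_iff_odd.mpr hko) he
  · obtain ⟨u, huD, hu0⟩ := Submodule.exists_mem_ne_zero_of_ne_bot hD₀bot
    have hlt : Submodule.span F {u} < D₀ := by
      refine lt_of_le_of_ne ((Submodule.span_singleton_le_iff_mem u D₀).mpr huD) ?_
      intro h
      rw [← h, finrank_span_singleton hu0] at d₀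
      omega
    obtain ⟨v, hvD, hvu⟩ := SetLike.exists_of_lt hlt
    obtain ⟨T, hT⟩ : ∃ T : ↥(Cfsg.isometryGroup F (⇑Q)),
        T = siegelG Q u v (h₀ u huD) (h₀ v hvD) (h₀.polar huD hvD) 1 := ⟨_, rfl⟩
    have hTD₀ : D₀.map (Matrix.mulVecLin ((T : Matrix.GeneralLinearGroup ι F) : Matrix ι ι F))
        = D₀ := by
      apply map_eq_of_forall_mem
      intro w hw
      rw [hT, siegelG_mulVec, h₀.polar huD hw, h₀.polar hvD hw]
      simpa using hw
    have hTΩ : T ∈ commutator ↥(Cfsg.isometryGroup F (⇑Q)) := by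
      by_cases h2 : (2 : F) = 0
      · apply (even_iff_mem_commutator_two Q h2 hQ hV (Or.inr (by omega)) D₀ h₀ d₀ T).mp
        rw [hTD₀, inf_idem, d₀]
        simp
      · rw [hT]
        exact siegelG_mem_commutator_odd Q h2 hQ u v _ _ _ 1
    refine ⟨T, hTΩ, hTD₀, ?_⟩
    intro hTD₁
    obtain ⟨x, hxD, hux⟩ : ∃ x ∈ D₁, QuadraticMap.polar (⇑Q) u x ≠ 0 := by
      by_contra hcon
      push Not at hcon
      apply hu0
      apply hQ.1
      intro y
      have hy : y ∈ D₀ ⊔ D₁ := by rw [hsup]; exact Submodule.mem_top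
      obtain ⟨a, ha, b, hb, rfl⟩ := Submodule.mem_sup.mp hy
      show QuadraticMap.polar (⇑Q) u (a + b) = 0
      rw [QuadraticMap.polar_add_right, h₀.polar huD ha, hcon b hb, add_zero]
    have h1 : ((T : Matrix.GeneralLinearGroup ι F) : Matrix ι ι F) *ᵥ x ∈ D₁ := by
      rw [← hTD₁]
      exact Submodule.mem_map.mpr ⟨x, hxD, rfl⟩
    rw [hT, siegelG_mulVec, one_smul] at h1
    have h2 : QuadraticMap.polar (⇑Q) u x • v - QuadraticMap.polar (⇑Q) v x • u ∈ D₁ := by
      have := D₁.sub_mem h1 hxD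
      simpa using this
    have h3 : QuadraticMap.polar (⇑Q) u x • v - QuadraticMap.polar (⇑Q) v x • u ∈ D₀ :=
      D₀.sub_mem (D₀.smul_mem _ hvD) (D₀.smul_mem _ huD)
    have h4 : QuadraticMap.polar (⇑Q) u x • v - QuadraticMap.polar (⇑Q) v x • u = 0 := by
      have : QuadraticMap.polar (⇑Q) u x • v - QuadraticMap.polar (⇑Q) v x • u ∈ D₀ ⊓ D₁ :=
        Submodule.mem_inf.mpr ⟨h3, h2⟩
      rw [hdisj] at this
      exact (Submodule.mem_bot F).mp this
    apply hvu
    have h5 : v = ((QuadraticMap.polar (⇑Q) u x)⁻¹ * QuadraticMap.polar (⇑Q) v x) • u := by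
      have h6 : QuadraticMap.polar (⇑Q) u x • v = QuadraticMap.polar (⇑Q) v x • u :=
        sub_eq_zero.mp h4
      rw [mul_smul, ← h6, smul_smul, inv_mul_cancel₀ hux, one_smul]
    rw [h5]
    exact Submodule.smul_mem _ _ (Submodule.mem_span_singleton_self u)
  · exact exists_commutator_not_stab Q hQ (Or.inr (by omega)) (by omega) D₀ h₀ hD₀bot

end

end Cfsg.Agent.H49
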