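import Mathlib
import Cfsg.Agent.H49.InvOmega
import Cfsg.Agent.H49.GeoGlue
import Cfsg.Agent.H17.Witt
import Cfsg.Agent.H95.Basic

set_option autoImplicit false
set_option linter.unusedSectionVars false

/-! Helper lemmas (helper49): characteristic two, the stabiliser in `Ω` of a nonsingular vector
is a maximal subgroup (primitivity of `Ω` on the vectors of a given nonzero norm, via the
orbitals `f(x, y) = c`). -/

namespace Cfsg.Agent.H49

open Module Matrix

section
variable {ι : Type} [Fintype ι] [DecidableEq ι] {F : Type*} [Field F]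

theorem smul_eq_of_Q_smul_eq (Q : QuadraticForm F (ι → F)) (h2 : (2 : F) = 0) {v : ι → F}
    (hv : Q v ≠ 0) (c : F) (h : Q (c • v) = Q v) : c • v = v := by
  rw [QuadraticMap.map_smul, smul_eq_mul] at h
  have h1 : (c * c - 1) * Q v = 0 := by linear_combination h
  have h3 := (mul_eq_zero.mp h1).resolve_right hv
  have h4 : (c - 1) * (c - 1) = 0 := by linear_combination h3 + (1 - c) * h2
  have h5 : c = 1 := sub_eq_zero.mp (mul_self_eq_zero.mp h4)
  rw [h5, one_smul]

theorem not_mem_span_of_Q_eq (Q : QuadraticForm F (ι → F)) (h2 : (2 : F) = 0) {v x : ι → F}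
    (hv : Q v ≠ 0) (hx : Q x = Q v) (hne : x ≠ v) : x ∉ Submodule.span F {v} := by
  intro hmem
  obtain ⟨c, rfl⟩ := Submodule.mem_span_singleton.mp hmem
  exact hne (smul_eq_of_Q_smul_eq Q h2 hv c hx)

theorem act_inv_eq_of_act_eq {Qf : (ι → F) → F} {g : ↥(Cfsg.isometryGroup F Qf)} {x y : ι → F}
    (h : act g x = y) : act g⁻¹ y = x := by
  rw [← h, act_inv_act]

/-- `Ω` is transitive on the pairs `(v, x)` of distinct vectors of the same nonzero norm with a
given value of `f(v, x)`. -/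
theorem exists_commutator_pair_map [Fintype F] (Q : QuadraticForm F (ι → F)) (h2 : (2 : F) = 0)
    (hQ : (QuadraticMap.polarBilin Q).Nondegenerate) {m : ℕ} (hV : finrank F (ι → F) = 2 * m)
    (hm : 3 ≤ m) (v x x' : ι → F) (hv : Q v ≠ 0) (hx : Q x = Q v) (hx' : Q x' = Q v)
    (hxv : x ≠ v) (hx'v : x' ≠ v)
    (hp : QuadraticMap.polar (⇑Q) v x = QuadraticMap.polar (⇑Q) v x') :
    ∃ h ∈ commutator ↥(Cfsg.isometryGroup F (⇑Q)), act h v = v ∧ act h x = x' := by
  have hx1 := not_mem_span_of_Q_eq Q h2 hv hx hxv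
  have hx1' := not_mem_span_of_Q_eq Q h2 hv hx' hx'v
  have hv1 : v ∉ Submodule.span F {x} :=
    not_mem_span_of_Q_eq Q h2 (by rw [hx]; exact hv) hx.symm (Ne.symm hxv)
  have hv0 : v ≠ 0 := by
    rintro rfl
    exact hv (QuadraticMap.map_zero Q)
  obtain ⟨s₁, hs₁x, hs₁v⟩ := exists_orth_polar_ne Q hQ (Submodule.span F {x}) v hv1
  obtain ⟨s₂, hs₂v, hs₂x⟩ := exists_orth_polar_ne Q hQ (Submodule.span F {v}) x hx1
  have hs₁x' : QuadraticMap.polar (⇑Q) x s₁ = 0 := hs₁x x (Submodule.mem_span_singleton_self x)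
  have hs₂v' : QuadraticMap.polar (⇑Q) v s₂ = 0 := hs₂v v (Submodule.mem_span_singleton_self v)
  obtain ⟨T, hT⟩ : ∃ T : (ι → F) →ₗ[F] (ι → F), ∀ u, T u
      = ((QuadraticMap.polar (⇑Q) v s₁)⁻¹ * QuadraticMap.polar (⇑Q) u s₁) • v
        + ((QuadraticMap.polar (⇑Q) x s₂)⁻¹ * QuadraticMap.polar (⇑Q) u s₂) • x' := by
    refine ⟨((QuadraticMap.polar (⇑Q) v s₁)⁻¹ • (QuadraticMap.polarBilin Q).flip s₁).smulRight v
      + ((QuadraticMap.polar (⇑Q) x s₂)⁻¹ • (QuadraticMap.polarBilin Q).flip s₂).smulRight x',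
      ?_⟩
    intro u
    simp only [LinearMap.add_apply, LinearMap.smulRight_apply, LinearMap.smul_apply,
      LinearMap.flip_apply, QuadraticMap.polarBilin_apply_apply, smul_eq_mul]
  have hTv : T v = v := by
    rw [hT, hs₂v', mul_zero, zero_smul, add_zero, inv_mul_cancel₀ hs₁v, one_smul]
  have hTx : T x = x' := by
    rw [hT, hs₁x', mul_zero, zero_smul, zero_add, inv_mul_cancel₀ hs₂x, one_smul]
  obtain ⟨g, hg, hgX⟩ := H17.witt_quad Q hQ (Submodule.span F {v, x}) T
    (by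
      intro u hu
      obtain ⟨a, b, rfl⟩ := Submodule.mem_span_pair.mp hu
      rw [map_add, map_smul, map_smul, hTv, hTx, Q_add', Q_add', QuadraticMap.map_smul,
        QuadraticMap.map_smul, QuadraticMap.map_smul, QuadraticMap.polar_smul_left,
        QuadraticMap.polar_smul_right, QuadraticMap.polar_smul_left,
        QuadraticMap.polar_smul_right, hx, hx', hp])
    (by
      intro u hu hu0
      obtain ⟨a, b, rfl⟩ := Submodule.mem_span_pair.mp hu
      rw [map_add, map_smul, map_smul, hTv, hTx] at hu0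
      have hb : b = 0 := by
        by_contra hb
        apply hx1'
        rw [Submodule.mem_span_singleton]
        refine ⟨-(b⁻¹ * a), ?_⟩
        have e : x' = b⁻¹ • (a • v + b • x') - (b⁻¹ * a) • v := by
          rw [smul_add, smul_smul, smul_smul, inv_mul_cancel₀ hb, one_smul]
          abel
        rw [e, hu0, smul_zero, zero_sub, neg_smul]
      rw [hb, zero_smul, add_zero] at hu0
      have ha : a = 0 := (smul_eq_zero.mp hu0).resolve_right hv0
      rw [ha, hb, zero_smul, zero_smul, add_zero])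
  have hmem : H95.glOf g ∈ Cfsg.isometryGroup F (⇑Q) := by
    rw [mem_isometryGroup_iff]
    intro u
    rw [H95.glOf_mulVec]
    exact hg u
  obtain ⟨h₀, hh₀⟩ : ∃ h₀ : ↥(Cfsg.isometryGroup F (⇑Q)), h₀ = ⟨H95.glOf g, hmem⟩ := ⟨_, rfl⟩
  have hact : ∀ u, act h₀ u = g u := by
    intro u
    rw [hh₀]
    exact H95.glOf_mulVec g u
  have h₀v : act h₀ v = v := by
    rw [hact, hgX v (Submodule.subset_span (by simp)), hTv]
  have h₀x : act h₀ x = x' := by
    rw [hact, hgX x (Submodule.subset_span (by simp)), hTx]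
  rcases mem_commutator_or_two Q h2 hQ hV (Or.inr (by omega)) h₀⁻¹ with h | h
  · exact ⟨h₀, (Subgroup.inv_mem_iff _).mp h, h₀v, h₀x⟩
  · obtain ⟨w, hw, hwW⟩ := exists_anisotropic_orthogonal Q hQ (Submodule.span F {v, x})
      (by
        have := finrank_span_pair_le (F := F) v x
        omega)
    have hwv : QuadraticMap.polar (⇑Q) w v = 0 := hwW v (Submodule.subset_span (by simp))
    have hwx : QuadraticMap.polar (⇑Q) w x = 0 := hwW x (Submodule.subset_span (by simp))
    have h' := h (reflG Q w) ⟨w, hw, rfl⟩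
    refine ⟨(reflG Q w * h₀⁻¹)⁻¹, (Subgroup.inv_mem_iff _).mpr h', ?_, ?_⟩
    · apply act_inv_eq_of_act_eq
      rw [act_mul, act_inv_eq_of_act_eq h₀v, act_reflG, hwv, mul_zero, zero_smul, sub_zero]
    · apply act_inv_eq_of_act_eq
      rw [act_mul, act_inv_eq_of_act_eq h₀x, act_reflG, hwx, mul_zero, zero_smul, sub_zero]

/-- Two distinct vectors of the same nonzero norm have a common neighbour in every orbital. -/
theorem exists_common_nbr_nonsing [Fintype F] (Q : QuadraticForm F (ι → F)) (h2 : (2 : F) = 0)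
    (hQ : (QuadraticMap.polarBilin Q).Nondegenerate) (hdim : 9 ≤ finrank F (ι → F))
    (v y : ι → F) (hv : Q v ≠ 0) (hy : Q y = Q v) (hyv : y ≠ v) (c : F) :
    ∃ z, Q z = Q v ∧ z ≠ v ∧ z ≠ y ∧ QuadraticMap.polar (⇑Q) v z = c ∧
      QuadraticMap.polar (⇑Q) z y = c := by
  have hy1 := not_mem_span_of_Q_eq Q h2 hv hy hyv
  have hv1 : v ∉ Submodule.span F {y} :=
    not_mem_span_of_Q_eq Q h2 (by rw [hy]; exact hv) hy.symm (Ne.symm hyv)
  -- a vector `e` orthogonal to `v, y` outside their span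
  obtain ⟨e, heP, heP'⟩ : ∃ e, e ∈ LinearMap.BilinForm.orthogonal (QuadraticMap.polarBilin Q)
      (Submodule.span F {v, y}) ∧ e ∉ Submodule.span F {v, y} := by
    by_contra hcon
    push Not at hcon
    have hle : LinearMap.BilinForm.orthogonal (QuadraticMap.polarBilin Q)
        (Submodule.span F {v, y}) ≤ Submodule.span F {v, y} := fun e he => hcon e he
    have h1 := Submodule.finrank_mono hle
    have h3 := LinearMap.BilinForm.finrank_orthogonal hQ (Submodule.span F {v, y})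
    have h4 := finrank_span_pair_le (F := F) v y
    omega
  rw [LinearMap.BilinForm.mem_orthogonal_iff] at heP
  have hve : QuadraticMap.polar (⇑Q) v e = 0 := heP v (Submodule.subset_span (by simp))
  have hye : QuadraticMap.polar (⇑Q) y e = 0 := heP y (Submodule.subset_span (by simp))
  have hv2 : v ∉ Submodule.span F {y, e} := by
    intro hmem
    obtain ⟨a, b, hab⟩ := Submodule.mem_span_pair.mp hmem
    by_cases hb : b = 0
    · rw [hb, zero_smul, add_zero] at hab
      exact hv1 (Submodule.mem_span_singleton.mpr ⟨a, hab⟩)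
    · apply heP'
      rw [Submodule.mem_span_pair]
      refine ⟨b⁻¹, -(b⁻¹ * a), ?_⟩
      rw [← hab, smul_add, smul_smul, smul_smul, inv_mul_cancel₀ hb, one_smul, neg_smul]
      abel
  have hy2 : y ∉ Submodule.span F {v, e} := by
    intro hmem
    obtain ⟨a, b, hab⟩ := Submodule.mem_span_pair.mp hmem
    by_cases hb : b = 0
    · rw [hb, zero_smul, add_zero] at hab
      exact hy1 (Submodule.mem_span_singleton.mpr ⟨a, hab⟩)
    · apply heP'
      rw [Submodule.mem_span_pair]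
      refine ⟨-(b⁻¹ * a), b⁻¹, ?_⟩
      rw [← hab, smul_add, smul_smul, smul_smul, inv_mul_cancel₀ hb, one_smul, neg_smul]
      abel
  obtain ⟨s₁, hs₁W, hs₁⟩ := exists_orth_polar_ne Q hQ (Submodule.span F {y, e}) v hv2
  obtain ⟨s₂, hs₂W, hs₂⟩ := exists_orth_polar_ne Q hQ (Submodule.span F {v, e}) y hy2
  obtain ⟨s₃, hs₃W, hs₃⟩ := exists_orth_polar_ne Q hQ (Submodule.span F {v, y}) e heP'
  have hys₁ : QuadraticMap.polar (⇑Q) y s₁ = 0 := hs₁W y (Submodule.subset_span (by simp))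
  have hes₁ : QuadraticMap.polar (⇑Q) e s₁ = 0 := hs₁W e (Submodule.subset_span (by simp))
  have hvs₂ : QuadraticMap.polar (⇑Q) v s₂ = 0 := hs₂W v (Submodule.subset_span (by simp))
  have hes₂ : QuadraticMap.polar (⇑Q) e s₂ = 0 := hs₂W e (Submodule.subset_span (by simp))
  have hvs₃ : QuadraticMap.polar (⇑Q) v s₃ = 0 := hs₃W v (Submodule.subset_span (by simp))
  have hys₃ : QuadraticMap.polar (⇑Q) y s₃ = 0 := hs₃W y (Submodule.subset_span (by simp))
  obtain ⟨z₀, hz₀⟩ : ∃ z₀, z₀ = (c * (QuadraticMap.polar (⇑Q) v s₁)⁻¹) • s₁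
      + (c * (QuadraticMap.polar (⇑Q) y s₂)⁻¹) • s₂
      + (QuadraticMap.polar (⇑Q) e s₃)⁻¹ • s₃ := ⟨_, rfl⟩
  have hvz₀ : QuadraticMap.polar (⇑Q) v z₀ = c := by
    rw [hz₀]
    simp only [QuadraticMap.polar_add_right, QuadraticMap.polar_smul_right, smul_eq_mul, hvs₂,
      hvs₃, mul_zero, add_zero]
    rw [mul_assoc, inv_mul_cancel₀ hs₁, mul_one]
  have hyz₀ : QuadraticMap.polar (⇑Q) y z₀ = c := by
    rw [hz₀]
    simp only [QuadraticMap.polar_add_right, QuadraticMap.polar_smul_right, smul_eq_mul, hys₁,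
      hys₃, mul_zero, add_zero, zero_add]
    rw [mul_assoc, inv_mul_cancel₀ hs₂, mul_one]
  have hez₀ : QuadraticMap.polar (⇑Q) e z₀ = 1 := by
    rw [hz₀]
    simp only [QuadraticMap.polar_add_right, QuadraticMap.polar_smul_right, smul_eq_mul, hes₁,
      hes₂, mul_zero, zero_add]
    rw [inv_mul_cancel₀ hs₃]
  -- a nonsingular vector orthogonal to `v, y, e, z₀`
  obtain ⟨w, hw, hwW⟩ := exists_anisotropic_orthogonal Q hQ
    (Submodule.span F {v, y} ⊔ Submodule.span F {e, z₀})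
    (by
      have h1 := finrank_span_pair_le (F := F) v y
      have h3 := finrank_span_pair_le (F := F) e z₀
      have h4 := Submodule.finrank_add_le_finrank_add_finrank (Submodule.span F {v, y})
        (Submodule.span F {e, z₀})
      omega)
  have hwv : QuadraticMap.polar (⇑Q) w v = 0 :=
    hwW v (Submodule.mem_sup_left (Submodule.subset_span (by simp)))
  have hwy : QuadraticMap.polar (⇑Q) w y = 0 :=
    hwW y (Submodule.mem_sup_left (Submodule.subset_span (by simp)))
  have hwe : QuadraticMap.polar (⇑Q) w e = 0 :=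
    hwW e (Submodule.mem_sup_right (Submodule.subset_span (by simp)))
  have hwz₀ : QuadraticMap.polar (⇑Q) w z₀ = 0 :=
    hwW z₀ (Submodule.mem_sup_right (Submodule.subset_span (by simp)))
  obtain ⟨l, hl⟩ := exists_sqrt_char_two h2 ((Q v - Q z₀) * (Q w)⁻¹)
  have hez : QuadraticMap.polar (⇑Q) e (z₀ + l • w) = 1 := by
    rw [QuadraticMap.polar_add_right, QuadraticMap.polar_smul_right, hez₀,
      QuadraticMap.polar_comm (⇑Q) e w, hwe, smul_zero, add_zero]
  refine ⟨z₀ + l • w, ?_, ?_, ?_, ?_, ?_⟩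
  · rw [Q_add', QuadraticMap.map_smul, QuadraticMap.polar_smul_right,
      QuadraticMap.polar_comm (⇑Q) z₀ w, hwz₀, smul_zero, add_zero, hl, smul_eq_mul, mul_assoc,
      inv_mul_cancel₀ hw, mul_one]
    ring
  · intro h
    rw [h, QuadraticMap.polar_comm, hve] at hez
    exact zero_ne_one hez
  · intro h
    rw [h, QuadraticMap.polar_comm, hye] at hez
    exact zero_ne_one hez
  · rw [QuadraticMap.polar_add_right, QuadraticMap.polar_smul_right, hvz₀,
      QuadraticMap.polar_comm (⇑Q) v w, hwv, smul_zero, add_zero]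
  · rw [QuadraticMap.polar_comm, QuadraticMap.polar_add_right, QuadraticMap.polar_smul_right,
      hyz₀, QuadraticMap.polar_comm (⇑Q) y w, hwy, smul_zero, add_zero]

/-- There is another vector of the same norm. -/
theorem exists_ne_same_norm (Q : QuadraticForm F (ι → F))
    (hQ : (QuadraticMap.polarBilin Q).Nondegenerate) (hdim : 5 ≤ finrank F (ι → F))
    (v : ι → F) (hv : Q v ≠ 0) : ∃ x, Q x = Q v ∧ x ≠ v := by
  have hv0 : v ≠ 0 := by
    rintro rfl
    exact hv (QuadraticMap.map_zero Q)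
  obtain ⟨u₀, hu₀⟩ : ∃ u₀, QuadraticMap.polar (⇑Q) v u₀ ≠ 0 := by
    by_contra hcon
    push Not at hcon
    exact hv0 (hQ.1 v hcon)
  obtain ⟨u, hu, hQu⟩ : ∃ u, QuadraticMap.polar (⇑Q) v u ≠ 0 ∧ Q u ≠ 0 := by
    by_cases h0 : Q u₀ = 0
    · obtain ⟨w, hw, hwW⟩ := exists_anisotropic_orthogonal Q hQ (Submodule.span F {v, u₀})
        (by
          have := finrank_span_pair_le (F := F) v u₀
          omega)
      have hwv : QuadraticMap.polar (⇑Q) w v = 0 := hwW v (Submodule.subset_span (by simp))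
      have hwu : QuadraticMap.polar (⇑Q) w u₀ = 0 := hwW u₀ (Submodule.subset_span (by simp))
      refine ⟨u₀ + w, ?_, ?_⟩
      · rw [QuadraticMap.polar_add_right, QuadraticMap.polar_comm (⇑Q) v w, hwv, add_zero]
        exact hu₀
      · rw [Q_add', h0, QuadraticMap.polar_comm, hwu, zero_add, add_zero]
        exact hw
    · exact ⟨u₀, hu₀, h0⟩
  have hu0 : u ≠ 0 := by
    rintro rfl
    exact hQu (QuadraticMap.map_zero Q)
  refine ⟨v - (QuadraticMap.polar (⇑Q) v u * (Q u)⁻¹) • u, ?_, ?_⟩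
  · rw [Q_sub', QuadraticMap.map_smul, QuadraticMap.polar_smul_right, smul_eq_mul, smul_eq_mul]
    field_simp
    ring
  · intro h
    have h1 : (QuadraticMap.polar (⇑Q) v u * (Q u)⁻¹) • u = 0 := by
      have := sub_eq_self.mp h
      exact this
    rcases smul_eq_zero.mp h1 with h3 | h3
    · rcases mul_eq_zero.mp h3 with h4 | h4
      · exact hu h4
      · exact hQu (inv_eq_zero.mp h4)
    · exact hu0 h3

/-- Core of the maximality proof. -/
theorem nonsing_max_core [Fintype F] (Q : QuadraticForm F (ι → F)) (h2 : (2 : F) = 0)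
    (hQ : (QuadraticMap.polarBilin Q).Nondegenerate) {m : ℕ} (hV : finrank F (ι → F) = 2 * m)
    (hm : 5 ≤ m) (v : ι → F) (hv : Q v ≠ 0)
    (M : Subgroup ↥(Cfsg.isometryGroup F (⇑Q)))
    (hMΩ : M ≤ commutator ↥(Cfsg.isometryGroup F (⇑Q)))
    (hM : ∀ g ∈ commutator ↥(Cfsg.isometryGroup F (⇑Q)), act g v = v → g ∈ M)
    (g₀ : ↥(Cfsg.isometryGroup F (⇑Q))) (hg₀ : g₀ ∈ M) (hg₀v : act g₀ v ≠ v) :
    commutator ↥(Cfsg.isometryGroup F (⇑Q)) ≤ M := by
  obtain ⟨c₀, hc₀⟩ : ∃ c₀, c₀ = QuadraticMap.polar (⇑Q) v (act g₀ v) := ⟨_, rfl⟩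
  have stepA : ∀ x, Q x = Q v → x ≠ v → QuadraticMap.polar (⇑Q) v x = c₀ →
      ∃ k ∈ M, act k v = x := by
    intro x hx hxv hpx
    obtain ⟨h, hh, hhv, hhx⟩ := exists_commutator_pair_map Q h2 hQ hV (by omega) v (act g₀ v) x
      hv (Q_act Q g₀ v) hx hg₀v hxv (by rw [← hc₀, hpx])
    exact ⟨h * g₀, M.mul_mem (hM h hh hhv) hg₀, by rw [act_mul, hhx]⟩
  have stepB : ∀ y, Q y = Q v → ∃ k ∈ M, act k v = y := by
    intro y hy
    by_cases hyv : y = v
    · exact ⟨1, M.one_mem, by rw [act_one, hyv]⟩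
    · obtain ⟨z, hz, hzv, hzy, hvz, hzy'⟩ := exists_common_nbr_nonsing Q h2 hQ (by omega) v y hv
        hy hyv c₀
      obtain ⟨k₁, hk₁, hk₁v⟩ := stepA z hz hzv hvz
      have hy' : Q (act k₁⁻¹ y) = Q v := by rw [Q_act, hy]
      have hy'v : act k₁⁻¹ y ≠ v := by
        intro h
        apply hzy
        rw [← hk₁v, ← h, act_act_inv]
      have hp' : QuadraticMap.polar (⇑Q) v (act k₁⁻¹ y) = c₀ := by
        rw [← polar_act Q k₁, act_act_inv, hk₁v]
        exact hzy'
      obtain ⟨k₂, hk₂, hk₂v⟩ := stepA _ hy' hy'v hp'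
      exact ⟨k₁ * k₂, M.mul_mem hk₁ hk₂, by rw [act_mul, hk₂v, act_act_inv]⟩
  intro g hg
  obtain ⟨k, hk, hkv⟩ := stepB (act g v) (Q_act Q g v)
  have h1 : k⁻¹ * g ∈ M := by
    apply hM
    · exact Subgroup.mul_mem _ (Subgroup.inv_mem _ (hMΩ hk)) hg
    · rw [act_mul]
      exact act_inv_eq_of_act_eq hkv
  have : g = k * (k⁻¹ * g) := by group
  rw [this]
  exact M.mul_mem hk h1

theorem coe_mem_stabilizer_span_iff (Q : QuadraticForm F (ι → F)) (h2 : (2 : F) = 0)
    (v : ι → F) (hv : Q v ≠ 0) (g : ↥(Cfsg.isometryGroup F (⇑Q))) :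
    (g : Matrix.GeneralLinearGroup ι F) ∈ Cfsg.Geo.subspaceStabilizer (Submodule.span F {v})
      ↔ act g v = v := by
  constructor
  · intro h
    have h1 := ((H95.mem_subspaceStabilizer_iff _ _).mp h v).mp
      (Submodule.mem_span_singleton_self v)
    obtain ⟨c, hc⟩ := Submodule.mem_span_singleton.mp h1
    have h3 : Q (c • v) = Q v := by
      rw [hc]
      exact Q_act Q g v
    rw [smul_eq_of_Q_smul_eq Q h2 hv c h3] at hc
    exact hc.symm
  · intro h
    apply H95.mem_subspaceStabilizer_of_forall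
    intro u hu
    obtain ⟨c, rfl⟩ := Submodule.mem_span_singleton.mp hu
    rw [Matrix.mulVec_smul]
    have : ((g : Matrix.GeneralLinearGroup ι F) : Matrix ι ι F) *ᵥ v = v := h
    rw [this]
    exact Submodule.smul_mem _ c (Submodule.mem_span_singleton_self v)

/-- Characteristic two: the stabiliser in `Ω` of a nonsingular point is maximal. -/
theorem nonsing_stabilizer_isMaximalIn [Fintype F] (Q : QuadraticForm F (ι → F))
    (h2 : (2 : F) = 0) (hQ : (QuadraticMap.polarBilin Q).Nondegenerate) {m : ℕ}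
    (hV : finrank F (ι → F) = 2 * m) (hm : 5 ≤ m) (v : ι → F) (hv : Q v ≠ 0) :
    Cfsg.Geo.IsMaximalIn (Cfsg.Geo.omegaGL (⇑Q))
      (Cfsg.Geo.subspaceStabilizer (Submodule.span F {v}) ⊓ Cfsg.Geo.omegaGL (⇑Q)) := by
  refine ⟨lt_of_le_of_ne inf_le_right ?_, ?_⟩
  · intro hEq
    obtain ⟨x, hx, hxv⟩ := exists_ne_same_norm Q hQ (by omega) v hv
    obtain ⟨z, hz, hzv, hzx, hvz, hzx'⟩ := exists_common_nbr_nonsing Q h2 hQ (by omega) v x hv
      hx hxv 0
    obtain ⟨h, hh, -, hhv⟩ := exists_commutator_pair_map Q h2 hQ hV (by omega) z v x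
      (by rw [hz]; exact hv) hz.symm (by rw [hx, hz]) (Ne.symm hzv) (Ne.symm hzx)
      (by rw [hzx', QuadraticMap.polar_comm, hvz])
    have hmem : (Cfsg.isometryGroup F (⇑Q)).subtype h ∈ Cfsg.Geo.omegaGL (⇑Q) := ⟨h, hh, rfl⟩
    rw [← hEq] at hmem
    have := (coe_mem_stabilizer_span_iff Q h2 v hv h).mp hmem.1
    rw [hhv] at this
    exact hxv this
  · intro M hHM hMΩ
    by_cases hMH : M = Cfsg.Geo.subspaceStabilizer (Submodule.span F {v}) ⊓
        Cfsg.Geo.omegaGL (⇑Q)
    · exact Or.inl hMH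
    · right
      apply le_antisymm hMΩ
      obtain ⟨g, hgM, hgH⟩ : ∃ g ∈ M, g ∉ Cfsg.Geo.subspaceStabilizer (Submodule.span F {v}) ⊓
          Cfsg.Geo.omegaGL (⇑Q) := by
        by_contra hcon
        push Not at hcon
        exact hMH (le_antisymm hcon hHM)
      obtain ⟨g', hg', rfl⟩ := hMΩ hgM
      have hg'v : act g' v ≠ v := by
        intro h
        exact hgH ⟨(coe_mem_stabilizer_span_iff Q h2 v hv g').mpr h, ⟨g', hg', rfl⟩⟩
      have key := nonsing_max_core Q h2 hQ hV hm v hv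
        (M.comap (Cfsg.isometryGroup F (⇑Q)).subtype)
        (by
          intro k hk
          obtain ⟨k', hk', hkk'⟩ := hMΩ (Subgroup.mem_comap.mp hk)
          have : k' = k := Subtype.ext hkk'
          rw [← this]
          exact hk')
        (by
          intro k hk hkv
          exact hHM ⟨(coe_mem_stabilizer_span_iff Q h2 v hv k).mpr hkv, ⟨k, hk, rfl⟩⟩)
        g' hgM hg'v
      rintro _ ⟨k, hk, rfl⟩
      exact key hk

end

end Cfsg.Agent.H49
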