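import Mathlib
import Cfsg.Agent.H83.PCDefs
import Cfsg.Agent.H79.PCZC

/-!
# PC-INV (helper49, for helper83, S3366)

`Hyp R f → ∃ t, IsInv R f t`: an involution over `-1 ∈ SL(2,3)` that inverts `R / Z(R)`.
-/

set_option autoImplicit false

namespace Cfsg.Agent.H49.PC

open Cfsg.Agent.H83.PC

universe u

section
variable {X : Type u} [Group X]

/-- The centre of `R`, as a subgroup of `X`. -/
def zR (R : Subgroup X) : Subgroup X := R ⊓ Subgroup.centralizer (R : Set X)

theorem mem_zR {R : Subgroup X} {z : X} : z ∈ zR R ↔ IsZ R z := by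
  unfold zR IsZ
  rw [Subgroup.mem_inf, Subgroup.mem_centralizer_iff]
  constructor
  · rintro ⟨h1, h2⟩
    exact ⟨h1, fun s hs => (h2 s hs).symm⟩
  · rintro ⟨h1, h2⟩
    exact ⟨h1, fun s hs => (h2 s hs).symm⟩

theorem zR_le (R : Subgroup X) : zR R ≤ R := inf_le_left

/-- The elements of `R` fixed by `t` modulo the centre. -/
def rP (R : Subgroup X) (t : X) : Subgroup X where
  carrier := {r | r ∈ R ∧ t * r * t⁻¹ * r⁻¹ ∈ zR R}
  one_mem' := by
    refine ⟨R.one_mem, ?_⟩
    have : t * 1 * t⁻¹ * (1 : X)⁻¹ = 1 := by group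
    rw [this]
    exact (zR R).one_mem
  mul_mem' := by
    intro r s hr hs
    refine ⟨R.mul_mem hr.1 hs.1, ?_⟩
    have hc := (mem_zR.mp hs.2).2 r⁻¹ (R.inv_mem hr.1)
    have e : t * (r * s) * t⁻¹ * (r * s)⁻¹ = (t * r * t⁻¹) * ((t * s * t⁻¹ * s⁻¹) * r⁻¹) := by
      group
    rw [e, hc]
    have e2 : t * r * t⁻¹ * (r⁻¹ * (t * s * t⁻¹ * s⁻¹))
        = (t * r * t⁻¹ * r⁻¹) * (t * s * t⁻¹ * s⁻¹) := by group
    rw [e2]
    exact (zR R).mul_mem hr.2 hs.2
  inv_mem' := by
    intro r hr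
    refine ⟨R.inv_mem hr.1, ?_⟩
    have hc := (mem_zR.mp hr.2).2 r hr.1
    have e : t * r⁻¹ * t⁻¹ * r⁻¹⁻¹ = ((t * r * t⁻¹ * r⁻¹) * r)⁻¹ * r := by group
    rw [e, hc]
    have e2 : (r * (t * r * t⁻¹ * r⁻¹))⁻¹ * r = (t * r * t⁻¹ * r⁻¹)⁻¹ := by group
    rw [e2]
    exact (zR R).inv_mem hr.2

theorem mem_rP {R : Subgroup X} {t r : X} :
    r ∈ rP R t ↔ r ∈ R ∧ t * r * t⁻¹ * r⁻¹ ∈ zR R := Iff.rfl

theorem rP_le (R : Subgroup X) (t : X) : rP R t ≤ R := fun _ h => h.1

/-- A non-abelian group of order 27: the centre has order 3 and contains the commutators. -/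
theorem center_facts [Finite X] (R : Subgroup X) (hcard : Nat.card R = 27)
    (hab : ∃ a ∈ R, ∃ b ∈ R, a * b ≠ b * a) :
    Nat.card (zR R) = 3 ∧ ∀ r ∈ R, ∀ s ∈ R, r * s * r⁻¹ * s⁻¹ ∈ zR R := by
  obtain ⟨a, ha, b, hb, hab⟩ := hab
  have hf3 : Fact (Nat.Prime 3) := ⟨Nat.prime_three⟩
  have hcen : Nat.card (Subgroup.center R) = 3 := by
    have hdvd : Nat.card (Subgroup.center R) ∣ 3 ^ 3 := by
      have := Subgroup.card_subgroup_dvd_card (Subgroup.center R)
      rw [hcard] at this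
      exact this
    have hne_top : Subgroup.center R ≠ ⊤ := by
      intro htop
      apply hab
      have h1 : (⟨a, ha⟩ : R) ∈ Subgroup.center R := htop ▸ Subgroup.mem_top _
      have h2 := Subgroup.mem_center_iff.mp h1 ⟨b, hb⟩
      exact (congrArg Subtype.val h2).symm
    obtain ⟨m, hm, hm'⟩ := (Nat.dvd_prime_pow Nat.prime_three).mp hdvd
    interval_cases m
    · exfalso
      have hp : IsPGroup 3 R := IsPGroup.of_card (n := 3) (by rw [hcard]; norm_num)
      have hnt : Nontrivial R := by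
        rw [← Finite.one_lt_card_iff_nontrivial, hcard]; norm_num
      have h1 := hp.center_nontrivial
      rw [← Finite.one_lt_card_iff_nontrivial, hm'] at h1
      norm_num at h1
    · simpa using hm'
    · exfalso
      have hidx : (Subgroup.center R).index = 3 := by
        have h1 := (Subgroup.center R).index_mul_card
        rw [hm', hcard] at h1
        omega
      have : IsCyclic (R ⧸ Subgroup.center R) := isCyclic_of_prime_card (p := 3) hidx
      apply hab
      have h2 := commutative_of_cyclic_center_quotient (QuotientGroup.mk' (Subgroup.center R))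
        (by rw [QuotientGroup.ker_mk']) (⟨a, ha⟩ : R) ⟨b, hb⟩
      exact congrArg Subtype.val h2
    · exfalso
      apply hne_top
      exact Subgroup.eq_top_of_card_eq _ (by rw [hm', hcard]; norm_num)
  have hmemc : ∀ (x : X) (hx : x ∈ R), (⟨x, hx⟩ : R) ∈ Subgroup.center R ↔ x ∈ zR R := by
    intro x hx
    rw [Subgroup.mem_center_iff, mem_zR]
    constructor
    · intro h
      exact ⟨hx, fun s hs => (congrArg Subtype.val (h ⟨s, hs⟩)).symm⟩
    · intro h g
      exact Subtype.ext (h.2 g.1 g.2).symm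
  have hcz : Nat.card (zR R) = 3 := by
    rw [← hcen]
    apply Nat.card_congr
    exact
      { toFun := fun w => ⟨⟨w.1, zR_le R w.2⟩, (hmemc w.1 (zR_le R w.2)).mpr w.2⟩
        invFun := fun z => ⟨z.1.1, (hmemc z.1.1 z.1.2).mp z.2⟩
        left_inv := fun w => rfl
        right_inv := fun z => rfl }
  refine ⟨hcz, ?_⟩
  intro r hr s hs
  have hq : Nat.card (R ⧸ Subgroup.center R) = 3 ^ 2 := by
    have h1 := (Subgroup.center R).index_mul_card
    rw [hcen, hcard] at h1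
    have h2 : (Subgroup.center R).index = 9 := by omega
    exact h2
  have hcomm := IsPGroup.commutative_of_card_eq_prime_sq hq
  have h0 : ∀ u v : R ⧸ Subgroup.center R, u * v * u⁻¹ * v⁻¹ = 1 := by
    intro u v
    rw [hcomm u v]
    group
  have h1 : ((⟨r, hr⟩ : R) * ⟨s, hs⟩ * (⟨r, hr⟩ : R)⁻¹ * (⟨s, hs⟩ : R)⁻¹) ∈ Subgroup.center R := by
    rw [← QuotientGroup.eq_one_iff]
    exact h0 (QuotientGroup.mk ⟨r, hr⟩) (QuotientGroup.mk ⟨s, hs⟩)
  exact (hmemc (r * s * r⁻¹ * s⁻¹) _).mp h1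

theorem inv : StInv.{u} := by
  intro X _ _ R f hyp
  have hzc := Cfsg.Agent.H79.PC.zc X R f hyp
  obtain ⟨hRn, hcard, hexp, hab, hsurj, hker, -, h2, -⟩ := hyp
  obtain ⟨hcz, hcomm⟩ := center_facts R hcard hab
  -- the element `-1` of `SL(2,3)`
  obtain ⟨m, hm⟩ : ∃ m : SL23, m.1 = -1 := ⟨⟨-1, by simp [Matrix.det_fin_two]⟩, rfl⟩
  have hm2 : m * m = 1 := by
    apply Subtype.ext
    show m.1 * m.1 = 1
    rw [hm]
    simp
  have hmc : ∀ g : SL23, g * m = m * g := by
    intro g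
    apply Subtype.ext
    show g.1 * m.1 = m.1 * g.1
    rw [hm]
    simp
  have hm1 : m ≠ 1 := by
    intro h
    have h1 : (-1 : Matrix (Fin 2) (Fin 2) (ZMod 3)) 0 0
        = (1 : Matrix (Fin 2) (Fin 2) (ZMod 3)) 0 0 := by
      rw [← hm, h]
      rfl
    have h3 : ((-1 : ZMod 3)) ≠ 1 := by decide
    apply h3
    simpa using h1
  obtain ⟨x, hx⟩ := hsurj m
  have hx2 : x * x ∈ R := by
    rw [← hker, MonoidHom.mem_ker, map_mul, hx, hm2]
  obtain ⟨t, ht⟩ : ∃ t : X, t = x ^ 3 := ⟨_, rfl⟩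
  have hft : f t = m := by
    rw [ht, map_pow, hx, pow_three, hm2, mul_one]
  have htt : t * t = 1 := by
    have h1 := hexp _ hx2
    rw [ht, ← pow_add]
    rw [← pow_two, ← pow_mul] at h1
    exact h1
  have hσR : ∀ r ∈ R, t * r * t⁻¹ ∈ R := fun r hr => hRn.conj_mem r hr t
  have hzfix : ∀ z ∈ zR R, t * z * t⁻¹ = z := by
    intro z hz
    rw [hzc t z (mem_zR.mp hz), mul_inv_cancel_right]
  have hZD : zR R ≤ rP R t := by
    intro z hz
    refine mem_rP.mpr ⟨zR_le R hz, ?_⟩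
    rw [hzfix z hz, mul_inv_cancel]
    exact (zR R).one_mem
  have hconj : ∀ y : X, y⁻¹ * t * y * t⁻¹ ∈ R := by
    intro y
    rw [← hker, MonoidHom.mem_ker]
    simp only [map_mul, map_inv, hft]
    calc (f y)⁻¹ * m * f y * m⁻¹ = (f y)⁻¹ * (m * f y) * m⁻¹ := by group
      _ = (f y)⁻¹ * (f y * m) * m⁻¹ := by rw [← hmc (f y)]
      _ = 1 := by group
  have hDn : (rP R t).Normal := by
    constructor
    intro r hr y
    obtain ⟨hrR, hrz⟩ := mem_rP.mp hr
    have hcR := hconj y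
    have hκ := hcomm _ hcR r hrR
    have hc1 := (mem_zR.mp hrz).2 _ hcR
    refine mem_rP.mpr ⟨hRn.conj_mem r hrR y, ?_⟩
    have hprod := (zR R).mul_mem hrz hκ
    have e : t * (y * r * y⁻¹) * t⁻¹ * (y * r * y⁻¹)⁻¹
        = y * (((y⁻¹ * t * y * t⁻¹) * (t * r * t⁻¹ * r⁻¹)) * (r * (y⁻¹ * t * y * t⁻¹)⁻¹ * r⁻¹))
          * y⁻¹ := by group
    rw [e, ← hc1]
    have e2 : y * (((t * r * t⁻¹ * r⁻¹) * (y⁻¹ * t * y * t⁻¹)) * (r * (y⁻¹ * t * y * t⁻¹)⁻¹ * r⁻¹))
          * y⁻¹
        = y * ((t * r * t⁻¹ * r⁻¹) * ((y⁻¹ * t * y * t⁻¹) * r * (y⁻¹ * t * y * t⁻¹)⁻¹ * r⁻¹))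
          * y⁻¹ := by group
    rw [e2, hzc y _ (mem_zR.mp hprod), mul_inv_cancel_right]
    exact hprod
  by_cases hA : rP R t ≤ zR R
  · refine ⟨t, htt, by rw [hft, hm], fun r hr => ?_⟩
    apply mem_zR.mp
    apply hA
    refine mem_rP.mpr ⟨R.mul_mem (hσR r hr) hr, ?_⟩
    have e : t * (t * r * t⁻¹ * r) * t⁻¹ * (t * r * t⁻¹ * r)⁻¹
        = (t * t) * r * (t * t)⁻¹ * (t * r * t⁻¹) * r⁻¹ * (t * r * t⁻¹)⁻¹ := by group
    rw [e, htt]
    have e2 : 1 * r * (1 : X)⁻¹ * (t * r * t⁻¹) * r⁻¹ * (t * r * t⁻¹)⁻¹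
        = r * (t * r * t⁻¹) * r⁻¹ * (t * r * t⁻¹)⁻¹ := by group
    rw [e2]
    exact hcomm r hr _ (hσR r hr)
  · exfalso
    have hDR := rP_le R t
    have hdvd : Nat.card (rP R t) ∣ 3 ^ 3 := by
      have := Subgroup.card_dvd_of_le hDR
      rw [hcard] at this
      exact this
    obtain ⟨k, hk, hk'⟩ := (Nat.dvd_prime_pow Nat.prime_three).mp hdvd
    have h3dvd : 3 ∣ Nat.card (rP R t) := by
      have := Subgroup.card_dvd_of_le hZD
      rw [hcz] at this
      exact this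
    interval_cases k
    · rw [hk'] at h3dvd
      norm_num at h3dvd
    · apply hA
      have h1 : zR R = rP R t :=
        Subgroup.eq_of_le_of_card_ge hZD (by rw [hk', hcz]; norm_num)
      exact le_of_eq h1.symm
    · -- `|D| = 9`
      have hex : ∃ r0 ∈ R, r0 ∉ rP R t := by
        by_contra hcon
        have hle : R ≤ rP R t := by
          intro r hr
          by_contra hrD
          exact hcon ⟨r, hr, hrD⟩
        have h1 := Subgroup.card_dvd_of_le hle
        rw [hcard, hk'] at h1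
        norm_num at h1
      obtain ⟨r0, hr0R, hr0D⟩ := hex
      have hDn' := hDn
      have hcQ : Nat.card (R ⧸ (rP R t).subgroupOf R) = 3 := by
        have h1 := Subgroup.card_eq_card_quotient_mul_card_subgroup ((rP R t).subgroupOf R)
        rw [hcard, Nat.card_congr (Subgroup.subgroupOfEquivOfLe hDR).toEquiv, hk'] at h1
        have h9 : (3 : ℕ) ^ 2 = 9 := by norm_num
        rw [h9] at h1
        omega
      have hg1 : (QuotientGroup.mk (⟨r0, hr0R⟩ : R) : R ⧸ (rP R t).subgroupOf R) ≠ 1 := by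
        intro h
        rw [QuotientGroup.eq_one_iff, Subgroup.mem_subgroupOf] at h
        exact hr0D h
      have hf3 : Fact (Nat.Prime 3) := ⟨Nat.prime_three⟩
      have htop := zpowers_eq_top_of_prime_card hcQ hg1
      have hcyc : ∀ r ∈ R, ∃ k : ℤ, (r0 ^ k)⁻¹ * r ∈ rP R t := by
        intro r hr
        have h1 : (QuotientGroup.mk (⟨r, hr⟩ : R) : R ⧸ (rP R t).subgroupOf R)
            ∈ Subgroup.zpowers (QuotientGroup.mk (⟨r0, hr0R⟩ : R)) := by
          rw [htop]
          exact Subgroup.mem_top _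
        obtain ⟨k, hk⟩ := Subgroup.mem_zpowers_iff.mp h1
        refine ⟨k, ?_⟩
        rw [← QuotientGroup.mk_zpow, QuotientGroup.eq, Subgroup.mem_subgroupOf] at hk
        simpa using hk
      obtain ⟨π, hπ⟩ : ∃ π : X →* X ⧸ rP R t, π = QuotientGroup.mk' (rP R t) := ⟨_, rfl⟩
      have hπker : ∀ y : X, π y = 1 ↔ y ∈ rP R t := by
        intro y
        rw [hπ]
        exact QuotientGroup.eq_one_iff y
      obtain ⟨ρ0, hρ0⟩ : ∃ ρ0, ρ0 = π r0 := ⟨_, rfl⟩
      have hρ01 : ρ0 ≠ 1 := by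
        intro h
        rw [hρ0] at h
        exact hr0D ((hπker r0).mp h)
      have hρ03 : ρ0 ^ 3 = 1 := by
        rw [hρ0, ← map_pow, hexp r0 hr0R, map_one]
      have hπR : ∀ r ∈ R, ∃ k : ℤ, π r = ρ0 ^ k := by
        intro r hr
        obtain ⟨k, hk⟩ := hcyc r hr
        refine ⟨k, ?_⟩
        have h1 := (hπker _).mpr hk
        rw [map_mul, map_inv, map_zpow, ← hρ0] at h1
        exact (inv_mul_eq_one.mp h1).symm
      have hKmem : ∀ y : X, y ∈ (Subgroup.centralizer {ρ0}).comap π ↔ ρ0 * π y = π y * ρ0 := by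
        intro y
        rw [Subgroup.mem_comap, Subgroup.mem_centralizer_iff]
        constructor
        · intro h
          exact h ρ0 (Set.mem_singleton _)
        · intro h g hg
          rw [Set.mem_singleton_iff.mp hg]
          exact h
      have hRK : ∀ r ∈ R, ρ0 * π r = π r * ρ0 := by
        intro r hr
        obtain ⟨k, hk⟩ := hπR r hr
        rw [hk]
        exact ((Commute.refl ρ0).zpow_right k).eq
      have h3K : ∀ y : X, f y ^ 3 = 1 → ρ0 * π y = π y * ρ0 := by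
        intro y hy
        have hy3 : y ^ 3 ∈ R := by
          rw [← hker, MonoidHom.mem_ker, map_pow, hy]
        have hc3 := hRK _ hy3
        rw [map_pow] at hc3
        obtain ⟨k, hk⟩ := hπR _ (hRn.conj_mem r0 hr0R y)
        rw [map_mul, map_mul, map_inv, ← hρ0] at hk
        have hρ03' : ρ0 ^ (3 : ℤ) = 1 := by
          have : ρ0 ^ ((3 : ℕ) : ℤ) = 1 := by rw [zpow_natCast]; exact hρ03
          exact this
        have hkmod : ρ0 ^ k = ρ0 ^ (k % 3) := zpow_eq_zpow_emod k hρ03'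
        rw [hkmod] at hk
        have hcases : k % 3 = 0 ∨ k % 3 = 1 ∨ k % 3 = 2 := by omega
        rcases hcases with h | h | h
        · exfalso
          rw [h, zpow_zero] at hk
          apply hρ01
          have e : ρ0 = (π y)⁻¹ * (π y * ρ0 * (π y)⁻¹) * π y := by group
          rw [e, hk]
          group
        · rw [h, zpow_one] at hk
          calc ρ0 * π y = (π y * ρ0 * (π y)⁻¹) * π y := by rw [hk]
            _ = π y * ρ0 := by group
        · exfalso
          have hA' : π y * ρ0 * (π y)⁻¹ = ρ0⁻¹ := by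
            rw [hk, h]
            have e : ρ0 ^ (2 : ℤ) * ρ0 = 1 := by
              have : ρ0 ^ (2 : ℤ) * ρ0 = ρ0 ^ 3 := by group
              rw [this, hρ03]
            exact eq_inv_of_mul_eq_one_left e
          have hB : π y * ρ0⁻¹ * (π y)⁻¹ = ρ0 := by
            have : π y * ρ0⁻¹ * (π y)⁻¹ = (π y * ρ0 * (π y)⁻¹)⁻¹ := by group
            rw [this, hA', inv_inv]
          have hC : π y ^ 3 * ρ0 * (π y ^ 3)⁻¹ = ρ0⁻¹ := by
            calc π y ^ 3 * ρ0 * (π y ^ 3)⁻¹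
                = π y * (π y * (π y * ρ0 * (π y)⁻¹) * (π y)⁻¹) * (π y)⁻¹ := by
                  rw [pow_three]
                  group
              _ = π y * (π y * ρ0⁻¹ * (π y)⁻¹) * (π y)⁻¹ := by rw [hA']
              _ = π y * ρ0 * (π y)⁻¹ := by rw [hB]
              _ = ρ0⁻¹ := hA'
          have hD : π y ^ 3 * ρ0 * (π y ^ 3)⁻¹ = ρ0 := by
            rw [← hc3, mul_inv_cancel_right]
          rw [hD] at hC
          apply hρ01
          have h5 : ρ0 * ρ0 = 1 := by
            nth_rewrite 2 [hC]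
            exact mul_inv_cancel ρ0
          rw [pow_three, h5, mul_one] at hρ03
          exact hρ03
      have hall := Cfsg.Agent.H79.PC.sl_gen (((Subgroup.centralizer {ρ0}).comap π).map f) (by
        intro g hg
        obtain ⟨y, rfl⟩ := hsurj g
        exact Subgroup.mem_map_of_mem f ((hKmem y).mpr (h3K y hg)))
      obtain ⟨k0, hk0K, hk0⟩ := Subgroup.mem_map.mp (hall m)
      have hk0t : k0⁻¹ * t ∈ R := by
        rw [← hker, MonoidHom.mem_ker, map_mul, map_inv, hk0, hft, inv_mul_cancel]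
      have htK : ρ0 * π t = π t * ρ0 := by
        have h1 : k0 * (k0⁻¹ * t) ∈ (Subgroup.centralizer {ρ0}).comap π :=
          Subgroup.mul_mem _ hk0K ((hKmem _).mpr (hRK _ hk0t))
        rw [mul_inv_cancel_left] at h1
        exact (hKmem t).mp h1
      have hsD : t * r0 * t⁻¹ * r0⁻¹ ∈ rP R t := by
        rw [← hπker]
        rw [map_mul, map_mul, map_mul, map_inv, map_inv, ← hρ0, ← htK]
        group
      have hs3 := hexp _ (rP_le R t hsD)
      have hsz : t * r0 * t⁻¹ * r0⁻¹ ∈ zR R := by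
        have h1 := (mem_rP.mp hsD).2
        have e1 : t * (t * r0 * t⁻¹ * r0⁻¹) * t⁻¹ * (t * r0 * t⁻¹ * r0⁻¹)⁻¹
            = ((t * t) * r0 * (t * t)⁻¹ * t * r0⁻¹ * t⁻¹) * (t * r0 * t⁻¹ * r0⁻¹)⁻¹ := by group
        rw [e1, htt] at h1
        have e2 : (1 * r0 * (1 : X)⁻¹ * t * r0⁻¹ * t⁻¹) * (t * r0 * t⁻¹ * r0⁻¹)⁻¹
            = (t * r0 * t⁻¹ * r0⁻¹)⁻¹ * (t * r0 * t⁻¹ * r0⁻¹)⁻¹ := by group
        rw [e2] at h1
        have e3 : t * r0 * t⁻¹ * r0⁻¹
            = (t * r0 * t⁻¹ * r0⁻¹)⁻¹ * (t * r0 * t⁻¹ * r0⁻¹)⁻¹ := by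
          rw [pow_three] at hs3
          calc t * r0 * t⁻¹ * r0⁻¹
              = ((t * r0 * t⁻¹ * r0⁻¹) * ((t * r0 * t⁻¹ * r0⁻¹) * (t * r0 * t⁻¹ * r0⁻¹)))
                * ((t * r0 * t⁻¹ * r0⁻¹)⁻¹ * (t * r0 * t⁻¹ * r0⁻¹)⁻¹) := by group
            _ = (t * r0 * t⁻¹ * r0⁻¹)⁻¹ * (t * r0 * t⁻¹ * r0⁻¹)⁻¹ := by rw [hs3, one_mul]
        rw [e3]
        exact h1
      exact hr0D (mem_rP.mpr ⟨hr0R, hsz⟩)
    · -- `D = R`
      have hDeq : rP R t = R :=
        Subgroup.eq_of_le_of_card_ge hDR (by rw [hk', hcard]; norm_num)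
      have hcent : ∀ r ∈ R, t * r * t⁻¹ = r := by
        intro r hr
        have hr' : r ∈ rP R t := by
          rw [hDeq]
          exact hr
        have hζ := (mem_rP.mp hr').2
        have h1 := hzfix _ hζ
        have e : t * (t * r * t⁻¹ * r⁻¹) * t⁻¹
            = (t * t) * r * (t * t)⁻¹ * (t * r * t⁻¹)⁻¹ := by group
        rw [e, htt] at h1
        have h2' : (t * r * t⁻¹ * r⁻¹) * (t * r * t⁻¹ * r⁻¹) = 1 := by
          calc (t * r * t⁻¹ * r⁻¹) * (t * r * t⁻¹ * r⁻¹)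
              = (1 * r * (1 : X)⁻¹ * (t * r * t⁻¹)⁻¹) * (t * r * t⁻¹ * r⁻¹) := by rw [h1]
            _ = 1 := by group
        have h3' := hexp _ (zR_le R hζ)
        have h4 : t * r * t⁻¹ * r⁻¹ = 1 := by
          rw [pow_three, h2', mul_one] at h3'
          exact h3'
        exact mul_inv_eq_one.mp h4
      have hcentral : ∀ y : X, y * t = t * y := by
        intro y
        have hc := hconj y
        have hct := hcent _ hc
        have h1 : (y⁻¹ * t * y * t⁻¹) * (y⁻¹ * t * y * t⁻¹) = 1 := by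
          calc (y⁻¹ * t * y * t⁻¹) * (y⁻¹ * t * y * t⁻¹)
              = (y⁻¹ * t * y * t⁻¹) * (t * (y⁻¹ * t * y * t⁻¹) * t⁻¹) := by rw [hct]
            _ = y⁻¹ * (t * t) * y * (t * t)⁻¹ := by group
            _ = 1 := by rw [htt]; group
        have h3' := hexp _ hc
        have h4 : y⁻¹ * t * y * t⁻¹ = 1 := by
          rw [pow_three, h1, mul_one] at h3'
          exact h3'
        have h5 : y⁻¹ * t * y = t := mul_inv_eq_one.mp h4
        calc y * t = y * (y⁻¹ * t * y) := by rw [h5]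
          _ = t * y := by group
      have hPn : (Subgroup.zpowers t).Normal := by
        constructor
        intro n hn y
        obtain ⟨k, rfl⟩ := Subgroup.mem_zpowers_iff.mp hn
        have hc : Commute y t := hcentral y
        have h1 : y * t ^ k * y⁻¹ = t ^ k := by
          rw [(hc.zpow_right k).eq, mul_inv_cancel_right]
        rw [h1]
        exact Subgroup.zpow_mem_zpowers t k
      have hP2 : IsPGroup 2 (Subgroup.zpowers t) := by
        intro g
        refine ⟨1, ?_⟩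
        obtain ⟨g, hg⟩ := g
        obtain ⟨k, rfl⟩ := Subgroup.mem_zpowers_iff.mp hg
        apply Subtype.ext
        show (t ^ k) ^ (2 ^ 1) = 1
        rw [pow_one, ← zpow_natCast, ← zpow_mul, mul_comm, zpow_mul, zpow_natCast, pow_two, htt,
          one_zpow]
      have hbot := h2 _ hPn hP2
      have ht1 : t = 1 := by
        have h1 : t ∈ Subgroup.zpowers t := Subgroup.mem_zpowers t
        rw [hbot] at h1
        exact Subgroup.mem_bot.mp h1
      apply hm1
      rw [← hft, ht1, map_one]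

end

example : Cfsg.Agent.H83.PC.StInv.{u} := inv

end Cfsg.Agent.H49.PC

#print axioms Cfsg.Agent.H49.PC.inv
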