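import Mathlib
import Cfsg.Agent.H9.PGDefs

/-!
# S3662 piece PG-ORD (helper49 for helper9): `orderOf W6 = 6` and `orderOf W10 = 10`
-/

set_option autoImplicit false

namespace Cfsg.Agent.H49.PG

open Cfsg.Agent.H9.PG
open scoped Matrix

/-- the matrix of `W6` -/
def M6 : Matrix (Fin 6) (Fin 6) K4 := Xc 11 1 * Xc 7 1 * Xc 4 1

/-- the matrix of `W10` -/
def M10 : Matrix (Fin 6) (Fin 6) K4 := Xc 11 1 * Xc 7 1 * Xc 4 Cfsg.Agent.H94.HS.F4.w

theorem W6_val : (W6 : Matrix (Fin 6) (Fin 6) K4) = M6 := rfl

theorem W10_val : (W10 : Matrix (Fin 6) (Fin 6) K4) = M10 := rfl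

set_option maxRecDepth 100000 in
theorem M6_pow : M6 * M6 * M6 * M6 * M6 * M6 = 1 := by decide +kernel

set_option maxRecDepth 100000 in
theorem M6_pow2 : M6 * M6 ≠ 1 := by decide +kernel

set_option maxRecDepth 100000 in
theorem M6_pow3 : M6 * M6 * M6 ≠ 1 := by decide +kernel

set_option maxRecDepth 100000 in
theorem M10_pow : M10 * M10 * M10 * M10 * M10 * M10 * M10 * M10 * M10 * M10 = 1 := by
  decide +kernel

set_option maxRecDepth 100000 in
theorem M10_pow2 : M10 * M10 ≠ 1 := by decide +kernel

set_option maxRecDepth 100000 in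
theorem M10_pow5 : M10 * M10 * M10 * M10 * M10 ≠ 1 := by decide +kernel

theorem val_pow_eq (g : GL (Fin 6) K4) (n : ℕ) :
    ((g ^ n : GL (Fin 6) K4) : Matrix (Fin 6) (Fin 6) K4)
      = (g : Matrix (Fin 6) (Fin 6) K4) ^ n := Units.val_pow_eq_pow_val g n

theorem ord : StOrd := by
  constructor
  · apply orderOf_eq_of_pow_and_pow_div_prime (by norm_num)
    · apply Units.ext
      rw [val_pow_eq, W6_val, Units.val_one]
      have := M6_pow
      simpa [pow_succ] using this
    · intro p hp hd
      have hp6 : p ∣ 2 * 3 := hd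
      rcases (Nat.Prime.dvd_mul hp).mp hp6 with h | h
      · have h2 : p = 2 := (Nat.prime_dvd_prime_iff_eq hp Nat.prime_two).mp h
        subst h2
        intro hcon
        have h1 := congrArg (fun g : GL (Fin 6) K4 => (g : Matrix (Fin 6) (Fin 6) K4)) hcon
        simp only [val_pow_eq, W6_val, Units.val_one] at h1
        apply M6_pow3
        have e : (6 / 2 : ℕ) = 3 := by norm_num
        rw [e] at h1
        simpa [pow_succ] using h1
      · have h3 : p = 3 := (Nat.prime_dvd_prime_iff_eq hp Nat.prime_three).mp h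
        subst h3
        intro hcon
        have h1 := congrArg (fun g : GL (Fin 6) K4 => (g : Matrix (Fin 6) (Fin 6) K4)) hcon
        simp only [val_pow_eq, W6_val, Units.val_one] at h1
        apply M6_pow2
        have e : (6 / 3 : ℕ) = 2 := by norm_num
        rw [e] at h1
        simpa [pow_succ] using h1
  · apply orderOf_eq_of_pow_and_pow_div_prime (by norm_num)
    · apply Units.ext
      rw [val_pow_eq, W10_val, Units.val_one]
      have := M10_pow
      simpa [pow_succ] using this
    · intro p hp hd
      have hp10 : p ∣ 2 * 5 := hd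
      rcases (Nat.Prime.dvd_mul hp).mp hp10 with h | h
      · have h2 : p = 2 := (Nat.prime_dvd_prime_iff_eq hp Nat.prime_two).mp h
        subst h2
        intro hcon
        have h1 := congrArg (fun g : GL (Fin 6) K4 => (g : Matrix (Fin 6) (Fin 6) K4)) hcon
        simp only [val_pow_eq, W10_val, Units.val_one] at h1
        apply M10_pow5
        have e : (10 / 2 : ℕ) = 5 := by norm_num
        rw [e] at h1
        simpa [pow_succ] using h1
      · have h5 : p = 5 := (Nat.prime_dvd_prime_iff_eq hp Nat.prime_five).mp h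
        subst h5
        intro hcon
        have h1 := congrArg (fun g : GL (Fin 6) K4 => (g : Matrix (Fin 6) (Fin 6) K4)) hcon
        simp only [val_pow_eq, W10_val, Units.val_one] at h1
        apply M10_pow2
        have e : (10 / 5 : ℕ) = 2 := by norm_num
        rw [e] at h1
        simpa [pow_succ] using h1

example : Cfsg.Agent.H9.PG.StOrd := ord

end Cfsg.Agent.H49.PG

#print axioms Cfsg.Agent.H49.PG.ord
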