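import Mathlib
import Cfsg.Agent.H49.SimQuot2

set_option autoImplicit false
set_option linter.unusedSectionVars false

/-! Helper lemmas (helper49): `PGO/PΩ` is dihedral of order eight when `-1 ∈ Ω`
(even dimension, odd characteristic, finite field). -/

namespace Cfsg.Agent.H49

open Module Matrix

/-- The embedding of the Klein four-group into the dihedral group of order eight. -/
def vD (p : ℤˣ × ℤˣ) : DihedralGroup 4 :=
  if p.2 = 1 then (if p.1 = 1 then DihedralGroup.r 0 else DihedralGroup.r 2)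
  else (if p.1 = 1 then DihedralGroup.sr 0 else DihedralGroup.sr 2)

theorem vD_mul : ∀ p q : ℤˣ × ℤˣ, vD (p * q) = vD p * vD q := by decide

theorem vD_eq_one : ∀ p : ℤˣ × ℤˣ, vD p = 1 → p = 1 := by decide

theorem vD_conj_r : ∀ a s : ℤˣ,
    vD (a * s, s) = DihedralGroup.r 1 * vD (a, s) * (DihedralGroup.r 1)⁻¹ := by decide

theorem vD_conj_sr : ∀ a s : ℤˣ,
    vD (a * s, s) = DihedralGroup.sr 1 * vD (a, s) * (DihedralGroup.sr 1)⁻¹ := by decide

theorem vD_surj_r : ∀ y : DihedralGroup 4,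
    ∃ p : ℤˣ × ℤˣ, y = vD p ∨ y = DihedralGroup.r 1 * vD p := by decide

theorem vD_surj_sr : ∀ y : DihedralGroup 4,
    ∃ p : ℤˣ × ℤˣ, y = vD p ∨ y = DihedralGroup.sr 1 * vD p := by decide

theorem vD_ne_r : ∀ p : ℤˣ × ℤˣ, DihedralGroup.r 1 * vD p ≠ 1 := by decide

theorem vD_ne_sr : ∀ p : ℤˣ × ℤˣ, DihedralGroup.sr 1 * vD p ≠ 1 := by decide

section
variable {ι : Type} [Fintype ι] [DecidableEq ι] {F : Type*} [Field F] [Fintype F] [DecidableEq F]

theorem exists_inclO_of_isSquare (Q : QuadraticForm F (ι → F))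
    (g : ↥(Cfsg.Geo.quadSimilarityGroup (⇑Q))) (h : IsSquare (simMul (⇑Q) g : F)) :
    ∃ (g₀ : ↥(Cfsg.isometryGroup F (⇑Q))) (l : Fˣ), g = scalSim Q l * inclO Q g₀ := by
  obtain ⟨l, g₀, h⟩ := exists_scal_mul_of_isSquare Q g h
  exact ⟨g₀, l, h⟩

/-- The spinor sign extended to the similarities with square multiplier (when `-1` has
trivial spinor sign). -/
noncomputable def alphaT (Q : QuadraticForm F (ι → F))
    (g : ↥(Cfsg.Geo.quadSimilarityGroup (⇑Q))) : ℤˣ :=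
  if h : IsSquare (simMul (⇑Q) g : F) then
    spinSign Q (Classical.choose (exists_inclO_of_isSquare Q g h))
  else 1

theorem simMul_scal_mul (Q : QuadraticForm F (ι → F)) (hne : ∃ v, Q v ≠ 0) (l : Fˣ)
    (g₀ : ↥(Cfsg.isometryGroup F (⇑Q))) :
    simMul (⇑Q) (scalSim Q l * inclO Q g₀) = l * l := by
  have := map_mul (simMulHom (⇑Q) hne) (scalSim Q l) (inclO Q g₀)
  rw [simMulHom_apply, simMulHom_apply, simMulHom_apply, simMul_scalSim Q hne,
    simMul_inclO Q hne, mul_one] at this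
  exact this

theorem alphaT_spec (Q : QuadraticForm F (ι → F)) (hne : ∃ v, Q v ≠ 0)
    (hneg : spinSign Q (negG Q) = 1) (l : Fˣ) (g₀ : ↥(Cfsg.isometryGroup F (⇑Q))) :
    alphaT Q (scalSim Q l * inclO Q g₀) = spinSign Q g₀ := by
  have hsq : IsSquare (simMul (⇑Q) (scalSim Q l * inclO Q g₀) : F) := by
    rw [simMul_scal_mul Q hne, Units.val_mul]
    exact ⟨l, rfl⟩
  unfold alphaT
  rw [dif_pos hsq]
  obtain ⟨l', hl'⟩ := Classical.choose_spec (exists_inclO_of_isSquare Q _ hsq)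
  rcases scal_mul_eq Q hne l l' g₀ _ hl' with h | h
  · rw [h]
  · rw [h, map_mul, hneg, one_mul]

theorem alphaT_inclO (Q : QuadraticForm F (ι → F)) (hne : ∃ v, Q v ≠ 0)
    (hneg : spinSign Q (negG Q) = 1) (g₀ : ↥(Cfsg.isometryGroup F (⇑Q))) :
    alphaT Q (inclO Q g₀) = spinSign Q g₀ := by
  have := alphaT_spec Q hne hneg 1 g₀
  rw [scalSim_one, one_mul] at this
  exact this

theorem alphaT_scalSim (Q : QuadraticForm F (ι → F)) (hne : ∃ v, Q v ≠ 0)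
    (hneg : spinSign Q (negG Q) = 1) (l : Fˣ) : alphaT Q (scalSim Q l) = 1 := by
  have := alphaT_spec Q hne hneg l 1
  rw [map_one, mul_one, map_one] at this
  exact this

/-- `PGO/PΩ` is dihedral of order eight when `-1 ∈ Ω`. -/
theorem pgo_mod_inn_dihedral (Q : QuadraticForm F (ι → F)) (h2 : (2 : F) ≠ 0)
    (hQ : (QuadraticMap.polarBilin Q).Nondegenerate) (h3 : HasTS3 Q) {k : ℕ}
    (hk : Fintype.card ι = 2 * k) (δ : ↥(Cfsg.Geo.quadSimilarityGroup (⇑Q)))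
    (hδ : ¬ IsSquare (simMul (⇑Q) δ : F)) (hneg : spinSign Q (negG Q) = 1) :
    ∃ φ : ↥(Cfsg.pgoAut F (⇑Q)) →* DihedralGroup 4, Function.Surjective φ ∧
      φ.ker = (Cfsg.Inn (Cfsg.POmega F (⇑Q))).subgroupOf (Cfsg.pgoAut F (⇑Q)) := by
  have hne : ∃ v, Q v ≠ 0 := by
    obtain ⟨x, hx⟩ := exists_Q_eq_of_ts3 Q hQ h3 1
    exact ⟨x, by rw [hx]; exact one_ne_zero⟩
  have hδe := epsHom_neg Q hne δ hδ
  obtain ⟨f, hf⟩ : ∃ f : ↥(Cfsg.Geo.quadSimilarityGroup (⇑Q)) → DihedralGroup 4,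
      ∀ g, f g = vD (alphaT Q g, sgnD Q h2 hQ hne hk g) := ⟨_, fun g => rfl⟩
  have hf' : ∀ (l : Fˣ) (g₀ : ↥(Cfsg.isometryGroup F (⇑Q))),
      f (scalSim Q l * inclO Q g₀) = vD (spinSign Q g₀, sgnD Q h2 hQ hne hk (inclO Q g₀)) := by
    intro l g₀
    rw [hf, alphaT_spec Q hne hneg, map_mul, sgnD_scalSim, one_mul]
  have hf'' : ∀ (g₀ : ↥(Cfsg.isometryGroup F (⇑Q))),
      f (inclO Q g₀) = vD (spinSign Q g₀, sgnD Q h2 hQ hne hk (inclO Q g₀)) := by
    intro g₀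
    have := hf' 1 g₀
    rw [scalSim_one, one_mul] at this
    exact this
  obtain ⟨d, hd, hdd⟩ : ∃ d : DihedralGroup 4, (d = DihedralGroup.r 1 ∨ d = DihedralGroup.sr 1) ∧
      f (δ * δ) = d * d := by
    have hs : sgnD Q h2 hQ hne hk (δ * δ) = 1 := by
      rw [map_mul, Int.units_mul_self]
    rcases Int.units_eq_one_or (alphaT Q (δ * δ)) with h | h
    · refine ⟨DihedralGroup.sr 1, Or.inr rfl, ?_⟩
      rw [hf, h, hs]
      decide
    · refine ⟨DihedralGroup.r 1, Or.inl rfl, ?_⟩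
      rw [hf, h, hs]
      decide
  have hconj : ∀ a s : ℤˣ, vD (a * s, s) = d * vD (a, s) * d⁻¹ := by
    rcases hd with rfl | rfl
    · exact vD_conj_r
    · exact vD_conj_sr
  have hsurj : ∀ y : DihedralGroup 4, ∃ p : ℤˣ × ℤˣ, y = vD p ∨ y = d * vD p := by
    rcases hd with rfl | rfl
    · exact vD_surj_r
    · exact vD_surj_sr
  have hdne : ∀ p : ℤˣ × ℤˣ, d * vD p ≠ 1 := by
    rcases hd with rfl | rfl
    · exact vD_ne_r
    · exact vD_ne_sr
  obtain ⟨Φ, hΦ1, hΦ2⟩ := exists_hom_of_index_two (epsHom Q hne) δ hδe f d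
    (by
      intro x y hx hy
      obtain ⟨l, x₀, rfl⟩ := exists_inclO_of_eps Q hne x hx
      obtain ⟨l', y₀, rfl⟩ := exists_inclO_of_eps Q hne y hy
      rw [scal_mul_scal_mul, hf', hf', hf', ← vD_mul, map_mul, map_mul, map_mul]
      rfl)
    (by
      intro x hx
      obtain ⟨l, x₀, rfl⟩ := exists_inclO_of_eps Q hne x hx
      rw [conj_scal_mul, hf', hf', ← hconj, spinSign_simConj Q h2 hQ hne hk δ hδ x₀]
      congr 2
      have e : inclO Q (simConj (⇑Q) δ x₀) = δ * inclO Q x₀ * δ⁻¹ := rfl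
      rw [e, map_mul, map_mul, map_inv, mul_comm, inv_mul_cancel_left])
    hdd
  refine exists_hom_range_ker (cHom (⇑Q)) Φ
    ((Cfsg.Geo.omegaGL (⇑Q)).comap (Cfsg.Geo.quadSimilarityGroup (⇑Q)).subtype)
    ?_ ?_ ?_ ?_ _ _ (pgoAut_eq _) (inn_eq _)
  · intro g hg
    obtain ⟨l, rfl⟩ := eq_scalSim_of_cHom_eq_one Q hQ h3 hne g (MonoidHom.mem_ker.mp hg)
    rw [MonoidHom.mem_ker, hΦ1 _ (epsHom_scalSim Q hne l), hf, alphaT_scalSim Q hne hneg,
      sgnD_scalSim]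
    rfl
  · intro y
    obtain ⟨⟨a, s⟩, hy⟩ := hsurj y
    obtain ⟨g₀, hg₀, hg₀'⟩ := exists_iso_spin_sgn Q h2 hQ h3 hne hk a s
    rcases hy with rfl | rfl
    · refine ⟨inclO Q g₀, ?_⟩
      rw [hΦ1 _ (epsHom_inclO Q hne g₀), hf'', hg₀, hg₀']
    · refine ⟨δ * inclO Q g₀, ?_⟩
      rw [hΦ2 _ (by rw [map_mul, hδe, epsHom_inclO Q hne g₀, mul_one]), inv_mul_cancel_left,
        hf'', hg₀, hg₀']
  · intro g hg
    obtain ⟨t, ht, htg⟩ := hg
    have hg' : g = inclO Q t := Subtype.ext htg.symm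
    have ht' := (mem_commutator_iff_spinSign_det Q h2 hQ t).mp ht
    rw [MonoidHom.mem_ker, hg', hΦ1 _ (epsHom_inclO Q hne t), hf'', ht'.1,
      (sgnD_inclO_iff Q h2 hQ hne hk t).mpr ht'.2]
    rfl
  · intro g hg
    rcases Int.units_eq_one_or (epsHom Q hne g) with he | he
    · obtain ⟨l, g₀, rfl⟩ := exists_inclO_of_eps Q hne g he
      rw [hΦ1 _ he, hf'] at hg
      have h5 := vD_eq_one _ hg
      have h6 : spinSign Q g₀ = 1 := congrArg Prod.fst h5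
      have h7 : sgnD Q h2 hQ hne hk (inclO Q g₀) = 1 := congrArg Prod.snd h5
      rw [sgnD_inclO_iff] at h7
      refine ⟨inclO Q g₀, ⟨g₀, ?_, rfl⟩, ?_⟩
      · exact (mem_commutator_iff_spinSign_det Q h2 hQ g₀).mpr ⟨h6, h7⟩
      · rw [map_mul, cHom_scalSim, one_mul]
    · rw [hΦ2 _ he, hf] at hg
      exact absurd hg (hdne _)

end

end Cfsg.Agent.H49
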