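import Mathlib
import Cfsg.Agent.H49.SimQuot3
import Cfsg.Agent.H49.SimpleForms
import Cfsg.Agent.H49.StdBasis

set_option autoImplicit false
set_option linter.unusedSectionVars false

/-! Helper lemmas (helper49): `PGO/PSO`, `PSO/PΩ` and `PGO/PΩ` for the standard plus and minus
type forms in odd characteristic. -/

namespace Cfsg.Agent.H49

open Module Matrix

theorem exists_hom_of_mulEquiv {P B B' : Type*} [Group P] [Group B] [Group B'] (e : B ≃* B')
    (K : Subgroup P) (h : ∃ φ : P →* B, Function.Surjective φ ∧ φ.ker = K) :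
    ∃ φ : P →* B', Function.Surjective φ ∧ φ.ker = K := by
  obtain ⟨φ, hs, hk⟩ := h
  refine ⟨e.toMonoidHom.comp φ, e.surjective.comp hs, ?_⟩
  rw [← hk]
  ext x
  simp [MonoidHom.mem_ker]

/-- The Klein four-group in its two guises. -/
noncomputable def kleinEquiv : ℤˣ × ℤˣ ≃* Multiplicative (ZMod 2 × ZMod 2) :=
  (MulEquiv.prodCongr
    (mulEquivOfPrimeCardEq (p := 2) (G := ℤˣ) (G' := Multiplicative (ZMod 2))
      (by rw [Nat.card_eq_fintype_card, Fintype.card_units_int])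
      (by rw [Nat.card_eq_fintype_card]; rfl))
    (mulEquivOfPrimeCardEq (p := 2) (G := ℤˣ) (G' := Multiplicative (ZMod 2))
      (by rw [Nat.card_eq_fintype_card, Fintype.card_units_int])
      (by rw [Nat.card_eq_fintype_card]; rfl))).trans
    (MulEquiv.prodMultiplicative (G := ZMod 2) (H := ZMod 2)).symm

section
variable {ι : Type} [Fintype ι] [DecidableEq ι] {F : Type*} [Field F] [Fintype F] [DecidableEq F]

theorem spinSign_negG_iff (Q : QuadraticForm F (ι → F)) (h2 : (2 : F) ≠ 0)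
    (hQ : (QuadraticMap.polarBilin Q).Nondegenerate) {k : ℕ} (hk : Fintype.card ι = 2 * k) :
    spinSign Q (negG Q) = 1 ↔ IsSquare (stdGram Q).det := by
  rw [← neg_one_mem_commutator_iff Q h2 hQ ⟨k, by rw [hk]; ring⟩]
  constructor
  · intro h
    exact ⟨negG Q, (mem_commutator_iff_spinSign_det Q h2 hQ _).mpr ⟨h, det_negG Q hk⟩, rfl⟩
  · rintro ⟨g, hg, hg1⟩
    have : g = negG Q := by
      apply Subtype.ext
      apply Units.ext
      exact hg1
    rw [← this]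
    exact ((mem_commutator_iff_spinSign_det Q h2 hQ g).mp hg).1

theorem det_ne_zero_of_sim (Q : QuadraticForm F (ι → F))
    (hQ : (QuadraticMap.polarBilin Q).Nondegenerate) (M : Matrix ι ι F) (ν : F) (hν : ν ≠ 0)
    (h : ∀ v, Q (M *ᵥ v) = ν * Q v) : M.det ≠ 0 := by
  intro h0
  obtain ⟨w, hw, hw0⟩ := Matrix.exists_mulVec_eq_zero_iff.mpr h0
  apply hw
  apply hQ.1 w
  intro u
  show QuadraticMap.polar (⇑Q) w u = 0
  have : ν * QuadraticMap.polar (⇑Q) w u = 0 := by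
    unfold QuadraticMap.polar
    rw [mul_sub, mul_sub, ← h, ← h, ← h, Matrix.mulVec_add, hw0, zero_add]
    simp
  exact (mul_eq_zero.mp this).resolve_left hν

theorem exists_sim_of_matrix (Q : QuadraticForm F (ι → F))
    (hQ : (QuadraticMap.polarBilin Q).Nondegenerate) (hne : ∃ v, Q v ≠ 0) (M : Matrix ι ι F)
    (ν : Fˣ) (hν : ¬ IsSquare (ν : F)) (h : ∀ v, Q (M *ᵥ v) = (ν : F) * Q v) :
    ∃ δ : ↥(Cfsg.Geo.quadSimilarityGroup (⇑Q)), ¬ IsSquare (simMul (⇑Q) δ : F) := by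
  have hmem : Matrix.GeneralLinearGroup.mkOfDetNeZero M
      (det_ne_zero_of_sim Q hQ M ν ν.ne_zero h) ∈ Cfsg.Geo.quadSimilarityGroup (⇑Q) :=
    ⟨ν, h⟩
  refine ⟨⟨_, hmem⟩, ?_⟩
  rw [simMul_unique (⇑Q) hne ⟨_, hmem⟩ ν h]
  exact hν

theorem exists_nonsquare_unit (h2 : (2 : F) ≠ 0) : ∃ ν : Fˣ, ¬ IsSquare (ν : F) := by
  obtain ⟨a, ha⟩ := exists_nonsquare_of_two_ne_zero (F := F) h2
  have ha0 : a ≠ 0 := by
    rintro rfl
    exact ha ⟨0, by simp⟩
  exact ⟨Units.mk0 a ha0, ha⟩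

end

section Plus
variable (m : ℕ) (F : Type*) [Field F] [Fintype F] [DecidableEq F]

theorem stdGram_QP : stdGram (QP m F) = hypGram m F := by
  ext i j
  show QuadraticMap.polar ⇑(QP m F) (Pi.single i 1) (Pi.single j 1) = _
  rw [QP_coe, polar_quadFormPlus, Matrix.mulVec_single_one, single_dotProduct]
  simp

theorem spinSign_negG_QP_iff (h2 : (2 : F) ≠ 0) :
    spinSign (QP m F) (negG (QP m F)) = 1 ↔ (Even m ∨ Fintype.card F % 4 ≠ 3) := by
  rw [spinSign_negG_iff (QP m F) h2 (QP_nondeg m F) (k := m) (by simp; ring), stdGram_QP,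
    det_hypGram, isSquare_neg_one_pow_iff]

theorem exists_sim_QP (hm : 3 ≤ m) (h2 : (2 : F) ≠ 0) :
    ∃ δ : ↥(Cfsg.Geo.quadSimilarityGroup (⇑(QP m F))), ¬ IsSquare (simMul (⇑(QP m F)) δ : F) := by
  obtain ⟨ν, hν⟩ := exists_nonsquare_unit (F := F) h2
  have hne : ∃ v, QP m F v ≠ 0 := by
    obtain ⟨x, hx⟩ := exists_Q_eq_of_ts3 (QP m F) (QP_nondeg m F) (hasTS3_QP m hm) 1
    exact ⟨x, by rw [hx]; exact one_ne_zero⟩
  refine exists_sim_of_matrix (QP m F) (QP_nondeg m F) hne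
    (Matrix.diagonal (Sum.elim (fun _ => (ν : F)) (fun _ => 1))) ν hν ?_
  intro v
  simp only [QP_apply, Matrix.mulVec_diagonal, Sum.elim_inl, Sum.elim_inr, one_mul,
    Finset.mul_sum, mul_assoc]

end Plus

section PlusFinal
variable {F : Type*} [Field F] [Fintype F]

theorem plus_pgo_pso (hodd : Odd (Fintype.card F)) {m : ℕ} (hm : 3 ≤ m) :
    ∃ φ : ↥(Cfsg.pgoAut F (Cfsg.quadFormPlus m F)) →* Multiplicative (ZMod 2 × ZMod 2),
      Function.Surjective φ ∧ φ.ker = (Cfsg.psoAut F (Cfsg.quadFormPlus m F)).subgroupOf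
        (Cfsg.pgoAut F (Cfsg.quadFormPlus m F)) := by
  classical
  have h2 : (2 : F) ≠ 0 := two_ne_zero_of_odd_card hodd
  obtain ⟨δ, hδ⟩ := exists_sim_QP m F hm h2
  exact exists_hom_of_mulEquiv kleinEquiv _
    (pgo_mod_pso (QP m F) h2 (QP_nondeg m F) (hasTS3_QP m hm) (k := m) (by simp; ring) δ hδ)

theorem plus_psoAut_le_inn (hodd : Odd (Fintype.card F)) {m : ℕ}
    (h : Odd m ∧ Fintype.card F % 4 = 3) :
    Cfsg.psoAut F (Cfsg.quadFormPlus m F) ≤ Cfsg.Inn (Cfsg.POmega F (Cfsg.quadFormPlus m F)) := by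
  classical
  have h2 : (2 : F) ≠ 0 := two_ne_zero_of_odd_card hodd
  apply psoAut_le_inn (QP m F) h2 (QP_nondeg m F) (k := m) (by simp; ring)
  intro hs
  rw [spinSign_negG_QP_iff m F h2] at hs
  rcases hs with he | hne
  · exact (Nat.not_even_iff_odd.mpr h.1) he
  · exact hne h.2

theorem plus_spin_of_not (hodd : Odd (Fintype.card F)) [DecidableEq F] {m : ℕ}
    (h : ¬ (Odd m ∧ Fintype.card F % 4 = 3)) : spinSign (QP m F) (negG (QP m F)) = 1 := by
  have h2 : (2 : F) ≠ 0 := two_ne_zero_of_odd_card hodd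
  rw [spinSign_negG_QP_iff m F h2]
  by_contra hcon
  push Not at hcon
  exact h ⟨Nat.not_even_iff_odd.mp hcon.1, hcon.2⟩

theorem plus_relIndex (hodd : Odd (Fintype.card F)) {m : ℕ} (hm : 3 ≤ m) :
    ((Odd m ∧ Fintype.card F % 4 = 3) →
      (Cfsg.Inn (Cfsg.POmega F (Cfsg.quadFormPlus m F))).relIndex
        (Cfsg.psoAut F (Cfsg.quadFormPlus m F)) = 1) ∧
    (¬ (Odd m ∧ Fintype.card F % 4 = 3) →
      (Cfsg.Inn (Cfsg.POmega F (Cfsg.quadFormPlus m F))).relIndex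
        (Cfsg.psoAut F (Cfsg.quadFormPlus m F)) = 2) := by
  classical
  have h2 : (2 : F) ≠ 0 := two_ne_zero_of_odd_card hodd
  constructor
  · intro h
    rw [Subgroup.relIndex_eq_one]
    exact plus_psoAut_le_inn hodd h
  · intro hn
    exact relIndex_inn_psoAut (QP m F) h2 (QP_nondeg m F) (hasTS3_QP m hm) (k := m)
      (by simp; ring) (plus_spin_of_not hodd hn)

theorem plus_pgo_inn (hodd : Odd (Fintype.card F)) {m : ℕ} (hm : 3 ≤ m) :
    ((Odd m ∧ Fintype.card F % 4 = 3) →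
      (∃ φ : ↥(Cfsg.pgoAut F (Cfsg.quadFormPlus m F)) →* Multiplicative (ZMod 2 × ZMod 2),
        Function.Surjective φ ∧ φ.ker = (Cfsg.Inn (Cfsg.POmega F (Cfsg.quadFormPlus m F))).subgroupOf
          (Cfsg.pgoAut F (Cfsg.quadFormPlus m F)))) ∧
    (¬ (Odd m ∧ Fintype.card F % 4 = 3) →
      (∃ φ : ↥(Cfsg.pgoAut F (Cfsg.quadFormPlus m F)) →* DihedralGroup 4,
        Function.Surjective φ ∧ φ.ker = (Cfsg.Inn (Cfsg.POmega F (Cfsg.quadFormPlus m F))).subgroupOf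
          (Cfsg.pgoAut F (Cfsg.quadFormPlus m F)))) := by
  classical
  have h2 : (2 : F) ≠ 0 := two_ne_zero_of_odd_card hodd
  constructor
  · intro h
    have heq : Cfsg.psoAut F (Cfsg.quadFormPlus m F)
        = Cfsg.Inn (Cfsg.POmega F (Cfsg.quadFormPlus m F)) :=
      le_antisymm (plus_psoAut_le_inn hodd h) (inn_le_psoAut _)
    rw [← heq]
    exact plus_pgo_pso hodd hm
  · intro hn
    obtain ⟨δ, hδ⟩ := exists_sim_QP m F hm h2
    exact pgo_mod_inn_dihedral (QP m F) h2 (QP_nondeg m F) (hasTS3_QP m hm) (k := m)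
      (by simp; ring) δ hδ (plus_spin_of_not hodd hn)

end PlusFinal

section Minus
variable (m : ℕ) (F : Type*) [Field F] [Fintype F] [DecidableEq F] (a b : F)

theorem stdGram_QMin : stdGram (QMin m F a b) = minusGram m F a b := by
  ext i j
  show QuadraticMap.polar ⇑(QMin m F a b) (Pi.single i 1) (Pi.single j 1) = _
  rw [QMin_coe, polar_quadFormMinus, Matrix.mulVec_single_one, single_dotProduct]
  simp

theorem spinSign_negG_QMin_iff (h2 : (2 : F) ≠ 0)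
    (hab : ∀ z₁ z₂ : F, z₁ ^ 2 + a * z₁ * z₂ + b * z₂ ^ 2 = 0 → z₁ = 0 ∧ z₂ = 0) :
    spinSign (QMin m F a b) (negG (QMin m F a b)) = 1
      ↔ (Even m ∧ Fintype.card F % 4 = 3) := by
  rw [spinSign_negG_iff (QMin m F a b) h2 (QMin_nondeg m a b (disc_ne_zero_of_aniso a b hab))
    (k := m + 1) (by simp; ring), stdGram_QMin, det_minusGram]
  have hN := aniso_not_isSquare h2 hab
  have e : (-1 : F) ^ m * (4 * b - a ^ 2) = (-1) ^ (m + 1) * (a ^ 2 - 4 * b) := by ring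
  rw [e, isSquare_mul_nonsquare_iff (pow_ne_zero _ (neg_ne_zero.mpr one_ne_zero)) hN,
    isSquare_neg_one_pow_iff, Nat.even_add_one]
  tauto

theorem exists_sim_QMin (hm : 3 ≤ m) (h2 : (2 : F) ≠ 0)
    (hab : ∀ z₁ z₂ : F, z₁ ^ 2 + a * z₁ * z₂ + b * z₂ ^ 2 = 0 → z₁ = 0 ∧ z₂ = 0) :
    ∃ δ : ↥(Cfsg.Geo.quadSimilarityGroup (⇑(QMin m F a b))),
      ¬ IsSquare (simMul (⇑(QMin m F a b)) δ : F) := by
  obtain ⟨ν, hν⟩ := exists_nonsquare_unit (F := F) h2
  have hQ := QMin_nondeg m a b (disc_ne_zero_of_aniso a b hab)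
  have hne : ∃ v, QMin m F a b v ≠ 0 := by
    obtain ⟨x, hx⟩ := exists_Q_eq_of_ts3 (QMin m F a b) hQ (hasTS3_QMin m hm a b) 1
    exact ⟨x, by rw [hx]; exact one_ne_zero⟩
  obtain ⟨α, -, hα⟩ := exists_Q_eq (binQ a b) ⊤ (by
      intro z _ hz
      rw [binQ_apply] at hz
      obtain ⟨h0, h1⟩ := hab _ _ hz
      funext i
      fin_cases i
      · exact h0
      · exact h1) (by rw [finrank_top, Module.finrank_fin_fun]) (ν : F)
  rw [binQ_apply] at hα
  obtain ⟨M, hM⟩ : ∃ M : Matrix ((Fin m ⊕ Fin m) ⊕ Fin 2) ((Fin m ⊕ Fin m) ⊕ Fin 2) F,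
      M = Matrix.fromBlocks (Matrix.diagonal (Sum.elim (fun _ => (ν : F)) (fun _ => 1))) 0 0
      !![α 0, -(b * α 1); α 1, α 0 + a * α 1] := ⟨_, rfl⟩
  have hMv : ∀ w : (Fin m ⊕ Fin m) ⊕ Fin 2 → F, M *ᵥ w
      = Sum.elim (Matrix.diagonal (Sum.elim (fun _ => (ν : F)) (fun _ => 1)) *ᵥ (w ∘ Sum.inl))
        (!![α 0, -(b * α 1); α 1, α 0 + a * α 1] *ᵥ (w ∘ Sum.inr)) := by
    intro w
    rw [hM, Matrix.fromBlocks_mulVec]
    simp
  refine exists_sim_of_matrix (QMin m F a b) hQ hne M ν hν ?_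
  intro v
  have e1 : ∀ i, (M *ᵥ v) (Sum.inl (Sum.inl i)) = ν * v (Sum.inl (Sum.inl i)) := by
    intro i
    rw [hMv, Sum.elim_inl, Matrix.mulVec_diagonal]
    rfl
  have e2 : ∀ i, (M *ᵥ v) (Sum.inl (Sum.inr i)) = v (Sum.inl (Sum.inr i)) := by
    intro i
    rw [hMv, Sum.elim_inl, Matrix.mulVec_diagonal, Sum.elim_inr, one_mul]
    rfl
  have e3 : (M *ᵥ v) (Sum.inr 0) = α 0 * v (Sum.inr 0) - b * α 1 * v (Sum.inr 1) := by
    rw [hMv, Sum.elim_inr]
    simp [Matrix.mulVec, dotProduct, Fin.sum_univ_two]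
    ring
  have e4 : (M *ᵥ v) (Sum.inr 1) = α 1 * v (Sum.inr 0) + (α 0 + a * α 1) * v (Sum.inr 1) := by
    rw [hMv, Sum.elim_inr]
    simp [Matrix.mulVec, dotProduct, Fin.sum_univ_two]
  show Cfsg.quadFormMinus m F a b _ = ν * Cfsg.quadFormMinus m F a b v
  unfold Cfsg.quadFormMinus
  rw [e3, e4]
  simp only [e1, e2]
  have hs : ∑ x : Fin m, (ν : F) * v (Sum.inl (Sum.inl x)) * v (Sum.inl (Sum.inr x))
      = (ν : F) * ∑ i : Fin m, v (Sum.inl (Sum.inl i)) * v (Sum.inl (Sum.inr i)) := by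
    rw [Finset.mul_sum]
    exact Finset.sum_congr rfl fun i _ => by ring
  rw [hs]
  linear_combination (v (Sum.inr 0) ^ 2 + a * v (Sum.inr 0) * v (Sum.inr 1)
    + b * v (Sum.inr 1) ^ 2) * hα

end Minus

section MinusFinal
variable {F : Type*} [Field F] [Fintype F]

theorem minus_pgo_pso (hodd : Odd (Fintype.card F)) {m : ℕ} (hm : 3 ≤ m) (a b : F)
    (hab : ∀ z₁ z₂ : F, z₁ ^ 2 + a * z₁ * z₂ + b * z₂ ^ 2 = 0 → z₁ = 0 ∧ z₂ = 0) :
    ∃ φ : ↥(Cfsg.pgoAut F (Cfsg.quadFormMinus m F a b)) →* Multiplicative (ZMod 2 × ZMod 2),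
      Function.Surjective φ ∧ φ.ker = (Cfsg.psoAut F (Cfsg.quadFormMinus m F a b)).subgroupOf
        (Cfsg.pgoAut F (Cfsg.quadFormMinus m F a b)) := by
  classical
  have h2 : (2 : F) ≠ 0 := two_ne_zero_of_odd_card hodd
  obtain ⟨δ, hδ⟩ := exists_sim_QMin m F a b hm h2 hab
  have hcard : Fintype.card ((Fin m ⊕ Fin m) ⊕ Fin 2) = 2 * (m + 1) := by simp; ring
  have key := pgo_mod_pso (QMin m F a b) h2 (QMin_nondeg m a b (disc_ne_zero_of_aniso a b hab))
      (hasTS3_QMin m hm a b) hcard δ hδ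
  rw [QMin_coe] at key
  exact exists_hom_of_mulEquiv kleinEquiv _ key


theorem minus_psoAut_le_inn (hodd : Odd (Fintype.card F)) {m : ℕ} (a b : F)
    (hab : ∀ z₁ z₂ : F, z₁ ^ 2 + a * z₁ * z₂ + b * z₂ ^ 2 = 0 → z₁ = 0 ∧ z₂ = 0)
    (h : ¬ (Even m ∧ Fintype.card F % 4 = 3)) :
    Cfsg.psoAut F (Cfsg.quadFormMinus m F a b)
      ≤ Cfsg.Inn (Cfsg.POmega F (Cfsg.quadFormMinus m F a b)) := by
  classical
  have h2 : (2 : F) ≠ 0 := two_ne_zero_of_odd_card hodd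
  have hcard : Fintype.card ((Fin m ⊕ Fin m) ⊕ Fin 2) = 2 * (m + 1) := by simp; ring
  have key := psoAut_le_inn (QMin m F a b) h2 (QMin_nondeg m a b (disc_ne_zero_of_aniso a b hab))
    hcard (by
      intro hs
      rw [spinSign_negG_QMin_iff m F a b h2 hab] at hs
      exact h hs)
  rw [QMin_coe] at key
  exact key

theorem minus_relIndex (hodd : Odd (Fintype.card F)) {m : ℕ} (hm : 3 ≤ m) (a b : F)
    (hab : ∀ z₁ z₂ : F, z₁ ^ 2 + a * z₁ * z₂ + b * z₂ ^ 2 = 0 → z₁ = 0 ∧ z₂ = 0) :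
    ((Even m ∧ Fintype.card F % 4 = 3) →
      (Cfsg.Inn (Cfsg.POmega F (Cfsg.quadFormMinus m F a b))).relIndex
        (Cfsg.psoAut F (Cfsg.quadFormMinus m F a b)) = 2) ∧
    (¬ (Even m ∧ Fintype.card F % 4 = 3) →
      (Cfsg.Inn (Cfsg.POmega F (Cfsg.quadFormMinus m F a b))).relIndex
        (Cfsg.psoAut F (Cfsg.quadFormMinus m F a b)) = 1) := by
  classical
  have h2 : (2 : F) ≠ 0 := two_ne_zero_of_odd_card hodd
  have hcard : Fintype.card ((Fin m ⊕ Fin m) ⊕ Fin 2) = 2 * (m + 1) := by simp; ring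
  constructor
  · intro h
    have key := relIndex_inn_psoAut (QMin m F a b) h2
      (QMin_nondeg m a b (disc_ne_zero_of_aniso a b hab)) (hasTS3_QMin m hm a b) hcard
      ((spinSign_negG_QMin_iff m F a b h2 hab).mpr h)
    rw [QMin_coe] at key
    exact key
  · intro hn
    rw [Subgroup.relIndex_eq_one]
    exact minus_psoAut_le_inn hodd a b hab hn

theorem minus_pgo_inn (hodd : Odd (Fintype.card F)) {m : ℕ} (hm : 3 ≤ m) (a b : F)
    (hab : ∀ z₁ z₂ : F, z₁ ^ 2 + a * z₁ * z₂ + b * z₂ ^ 2 = 0 → z₁ = 0 ∧ z₂ = 0) :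
    ((Even m ∧ Fintype.card F % 4 = 3) →
      (∃ φ : ↥(Cfsg.pgoAut F (Cfsg.quadFormMinus m F a b)) →* DihedralGroup 4,
        Function.Surjective φ ∧
          φ.ker = (Cfsg.Inn (Cfsg.POmega F (Cfsg.quadFormMinus m F a b))).subgroupOf
            (Cfsg.pgoAut F (Cfsg.quadFormMinus m F a b)))) ∧
    (¬ (Even m ∧ Fintype.card F % 4 = 3) →
      (∃ φ : ↥(Cfsg.pgoAut F (Cfsg.quadFormMinus m F a b)) →* Multiplicative (ZMod 2 × ZMod 2),
        Function.Surjective φ ∧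
          φ.ker = (Cfsg.Inn (Cfsg.POmega F (Cfsg.quadFormMinus m F a b))).subgroupOf
            (Cfsg.pgoAut F (Cfsg.quadFormMinus m F a b)))) := by
  classical
  have h2 : (2 : F) ≠ 0 := two_ne_zero_of_odd_card hodd
  have hcard : Fintype.card ((Fin m ⊕ Fin m) ⊕ Fin 2) = 2 * (m + 1) := by simp; ring
  constructor
  · intro h
    obtain ⟨δ, hδ⟩ := exists_sim_QMin m F a b hm h2 hab
    have key := pgo_mod_inn_dihedral (QMin m F a b) h2
      (QMin_nondeg m a b (disc_ne_zero_of_aniso a b hab)) (hasTS3_QMin m hm a b) hcard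
      δ hδ ((spinSign_negG_QMin_iff m F a b h2 hab).mpr h)
    rw [QMin_coe] at key
    exact key
  · intro hn
    have heq : Cfsg.psoAut F (Cfsg.quadFormMinus m F a b)
        = Cfsg.Inn (Cfsg.POmega F (Cfsg.quadFormMinus m F a b)) :=
      le_antisymm (minus_psoAut_le_inn hodd a b hab hn) (inn_le_psoAut _)
    rw [← heq]
    exact minus_pgo_pso hodd hm a b hab

end MinusFinal

end Cfsg.Agent.H49
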