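import Mathlib
import Cfsg.Agent.H17.TgDefs

set_option autoImplicit false

namespace Cfsg.Agent.H49.Tg

open Cfsg.Agent.H17.Tg

universe u

section
variable {X : Type u} [Group X]

/-- the commutator `h⁻¹ g⁻¹ h g` -/
def dd (g h : X) : X := h⁻¹ * g⁻¹ * h * g

theorem dd_mem (hsq : ∀ x : X, x ^ 2 ∈ Subgroup.center X) (g h : X) :
    dd g h ∈ Subgroup.center X := by
  have e : dd g h = (h⁻¹ * g⁻¹) ^ 2 * h ^ 2 * g ^ 2 := by
    have hc : h ^ 2 * g = g * h ^ 2 := ((Subgroup.mem_center_iff.mp (hsq h)) g).symm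
    calc dd g h = (h⁻¹ * g⁻¹) ^ 2 * (g * h ^ 2) * g := by simp only [dd, pow_two]; group
      _ = (h⁻¹ * g⁻¹) ^ 2 * (h ^ 2 * g) * g := by rw [hc]
      _ = (h⁻¹ * g⁻¹) ^ 2 * h ^ 2 * g ^ 2 := by simp only [pow_two]; group
  rw [e]
  exact mul_mem (mul_mem (hsq _) (hsq _)) (hsq _)

theorem sq_mul (hsq : ∀ x : X, x ^ 2 ∈ Subgroup.center X) (g h : X) :
    (g * h) ^ 2 = g ^ 2 * h ^ 2 * dd g h := by
  have hc : h * dd g h = dd g h * h := (Subgroup.mem_center_iff.mp (dd_mem hsq g h)) h
  calc (g * h) ^ 2 = g ^ 2 * h * (dd g h * h) := by simp only [dd, pow_two]; group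
    _ = g ^ 2 * h * (h * dd g h) := by rw [hc]
    _ = g ^ 2 * h ^ 2 * dd g h := by simp only [pow_two]; group

theorem dd_mul_left (hsq : ∀ x : X, x ^ 2 ∈ Subgroup.center X) (g g' h : X) :
    dd (g * g') h = dd g h * dd g' h := by
  have hc : ∀ k : X, k * dd g h = dd g h * k := Subgroup.mem_center_iff.mp (dd_mem hsq g h)
  calc dd (g * g') h = h⁻¹ * g'⁻¹ * (h * dd g h) * g' := by unfold dd; group
    _ = h⁻¹ * g'⁻¹ * (dd g h * h) * g' := by rw [hc]
    _ = (h⁻¹ * g'⁻¹) * dd g h * (h * g') := by group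
    _ = dd g h * (h⁻¹ * g'⁻¹) * (h * g') := by rw [hc]
    _ = dd g h * dd g' h := by unfold dd; group

theorem index_centralizer_le [Finite X]
    (hsq : ∀ x : X, x ^ 2 ∈ Subgroup.center X) (x : X) :
    (Subgroup.centralizer ({x} : Set X)).index ≤ Nat.card (Subgroup.center X) := by
  classical
  have hmem : ∀ g : X, g * x * g⁻¹ * x⁻¹ ∈ Subgroup.center X := by
    intro g
    have : g * x * g⁻¹ * x⁻¹ = dd x⁻¹ g⁻¹ := by unfold dd; group
    rw [this]
    exact dd_mem hsq _ _
  unfold Subgroup.index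
  let f : X ⧸ Subgroup.centralizer ({x} : Set X) → Subgroup.center X :=
    fun q => Quotient.liftOn' q
      (fun g => (⟨g * x * g⁻¹ * x⁻¹, hmem g⟩ : Subgroup.center X))
      (by
        intro g₁ g₂ h
        rw [QuotientGroup.leftRel_apply] at h
        have h' := Subgroup.mem_centralizer_iff.mp h x (Set.mem_singleton x)
        apply Subtype.ext
        show g₁ * x * g₁⁻¹ * x⁻¹ = g₂ * x * g₂⁻¹ * x⁻¹
        have e : g₂ * x * g₂⁻¹ = g₁ * (g₁⁻¹ * g₂ * x) * (g₁⁻¹ * g₂)⁻¹ * g₁⁻¹ := by group
        rw [e, ← h']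
        group)
  apply Nat.card_le_card_of_injective f
  intro q₁ q₂
  induction q₁ using Quotient.inductionOn' with
  | _ g₁ =>
    induction q₂ using Quotient.inductionOn' with
    | _ g₂ =>
      intro h
      apply Quotient.sound'
      rw [QuotientGroup.leftRel_apply]
      have h1 : g₁ * x * g₁⁻¹ * x⁻¹ = g₂ * x * g₂⁻¹ * x⁻¹ := congrArg Subtype.val h
      have h2 : g₁ * x * g₁⁻¹ = g₂ * x * g₂⁻¹ := mul_right_cancel h1
      rw [Subgroup.mem_centralizer_iff]
      intro k hk
      rw [Set.mem_singleton_iff] at hk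
      subst hk
      have e : k * (g₁⁻¹ * g₂) = g₁⁻¹ * (g₁ * k * g₁⁻¹) * g₂ := by group
      rw [e, h2]
      group


/-- (a): an element of `C(x)` outside `Z ∪ xZ` has its square outside `{1, x²}`. -/
theorem sq_notMem (hinv : ∀ t : X, t ^ 2 = 1 → t ∈ Subgroup.center X)
    (x t : X) (hxt : x * t = t * x) (ht : t ∉ Subgroup.center X)
    (hxt' : x⁻¹ * t ∉ Subgroup.center X) : t ^ 2 ≠ 1 ∧ t ^ 2 ≠ x ^ 2 := by
  refine ⟨fun h => ht (hinv t h), fun h => hxt' (hinv _ ?_)⟩
  have hc : Commute x t := hxt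
  rw [hc.inv_left.mul_pow, inv_pow, h, inv_mul_cancel]

theorem card_center_filter [Fintype X] [DecidablePred (· ∈ Subgroup.center X)] :
    (Finset.univ.filter (fun t : X => t ∈ Subgroup.center X)).card
      = Nat.card (Subgroup.center X) := by
  rw [Nat.card_eq_fintype_card, Fintype.card_subtype]

/-- the two-element subgroup `{1, a}` for `a * a = 1` -/
def twoSub {G : Type u} [Group G] (a : G) (ha : a * a = 1) : Subgroup G where
  carrier := {1, a}
  mul_mem' := by
    intro p q hp hq
    simp only [Set.mem_insert_iff, Set.mem_singleton_iff] at hp hq ⊢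
    rcases hp with rfl | rfl <;> rcases hq with rfl | rfl
    · left; simp
    · right; simp
    · right; simp
    · left; exact ha
  one_mem' := Or.inl rfl
  inv_mem' := by
    intro p hp
    simp only [Set.mem_insert_iff, Set.mem_singleton_iff] at hp ⊢
    rcases hp with rfl | rfl
    · left; simp
    · right; exact inv_eq_of_mul_eq_one_left ha

theorem mem_twoSub {G : Type u} [Group G] (a : G) (ha : a * a = 1) (s : G) :
    s ∈ twoSub a ha ↔ s = 1 ∨ s = a := by
  show s ∈ ({1, a} : Set G) ↔ _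
  simp only [Set.mem_insert_iff, Set.mem_singleton_iff]

theorem index_twoSub {G : Type u} [Group G] [Finite G] (a : G) (ha : a * a = 1) (ha1 : a ≠ 1)
    (hG : Nat.card G = 4) : (twoSub a ha).index = 2 := by
  have hc : Nat.card (twoSub a ha) = 2 := by
    have : Nat.card (twoSub a ha) = Set.ncard ({1, a} : Set G) := Nat.card_coe_set_eq _
    rw [this]
    exact Set.ncard_pair (Ne.symm ha1)
  have := (twoSub a ha).index_mul_card
  rw [hc, hG] at this
  omega

/-- the parity contradiction: seven squares outside `{1, x²}` -/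
theorem parity_contra [Finite X] (hZ4 : Nat.card (Subgroup.center X) = 4)
    (hZ2 : ∀ z ∈ Subgroup.center X, z ^ 2 = 1)
    (hsq : ∀ x : X, x ^ 2 ∈ Subgroup.center X)
    (x : X) (ha1 : x ^ 2 ≠ 1) (y w u : X)
    (key : ∀ t : X, t = y ∨ t = w ∨ t = u ∨ t = y * w ∨ t = y * u ∨ t = w * u ∨ t = y * w * u →
      t ^ 2 ≠ 1 ∧ t ^ 2 ≠ x ^ 2) : False := by
  obtain ⟨a', ha'⟩ : ∃ a' : Subgroup.center X, (a' : X) = x ^ 2 := ⟨⟨x ^ 2, hsq x⟩, rfl⟩
  have ha'2 : a' * a' = 1 := by
    apply Subtype.ext
    show (a' : X) * (a' : X) = 1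
    rw [ha', ← pow_two]; exact hZ2 _ (hsq x)
  have ha'1 : a' ≠ 1 := by
    intro h
    apply ha1
    rw [← ha', h]; rfl
  have hS2 := index_twoSub a' ha'2 ha'1 hZ4
  obtain ⟨sq, hsqdef⟩ : ∃ sq : X → Subgroup.center X, ∀ t, (sq t : X) = t ^ 2 :=
    ⟨fun t => ⟨t ^ 2, hsq t⟩, fun _ => rfl⟩
  obtain ⟨dz, hdzdef⟩ : ∃ dz : X → X → Subgroup.center X, ∀ g h, (dz g h : X) = dd g h :=
    ⟨fun g h => ⟨dd g h, dd_mem hsq g h⟩, fun _ _ => rfl⟩
  have hsqmul : ∀ g h : X, sq (g * h) = sq g * sq h * dz g h := by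
    intro g h
    apply Subtype.ext
    rw [Subgroup.coe_mul, Subgroup.coe_mul, hsqdef, hsqdef, hsqdef, hdzdef]
    exact sq_mul hsq g h
  have hdzmul : ∀ g g' h : X, dz (g * g') h = dz g h * dz g' h := by
    intro g g' h
    apply Subtype.ext
    rw [Subgroup.coe_mul, hdzdef, hdzdef, hdzdef]
    exact dd_mul_left hsq g g' h
  have hnot : ∀ t : X, t = y ∨ t = w ∨ t = u ∨ t = y * w ∨ t = y * u ∨ t = w * u ∨
      t = y * w * u → sq t ∉ twoSub a' ha'2 := by
    intro t ht h
    rw [mem_twoSub] at h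
    obtain ⟨k1, k2⟩ := key t ht
    rcases h with h | h
    · apply k1
      have := congrArg Subtype.val h
      rw [hsqdef] at this
      exact this
    · apply k2
      have := congrArg Subtype.val h
      rw [hsqdef, ha'] at this
      exact this
  have hy := hnot y (by tauto)
  have hw := hnot w (by tauto)
  have hu := hnot u (by tauto)
  have hyw := hnot (y * w) (by tauto)
  have hyu := hnot (y * u) (by tauto)
  have hwu := hnot (w * u) (by tauto)
  have hywu := hnot (y * w * u) (by tauto)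
  rw [hsqmul] at hyu hwu hywu
  rw [hdzmul] at hywu
  have both : ∀ p q : Subgroup.center X, p ∉ twoSub a' ha'2 → q ∉ twoSub a' ha'2 →
      p * q ∈ twoSub a' ha'2 := fun p q hp hq =>
    (Subgroup.mul_mem_iff_of_index_two hS2).mpr ⟨fun h => absurd h hp, fun h => absurd h hq⟩
  have right : ∀ p q : Subgroup.center X, p ∈ twoSub a' ha'2 → p * q ∉ twoSub a' ha'2 →
      q ∉ twoSub a' ha'2 := fun p q hp hpq hq => hpq (mul_mem hp hq)
  have d1 : dz y u ∉ twoSub a' ha'2 := right _ _ (both _ _ hy hu) hyu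
  have d2 : dz w u ∉ twoSub a' ha'2 := right _ _ (both _ _ hw hu) hwu
  exact hywu (mul_mem (both _ _ hyw hu) (both _ _ d1 d2))

theorem caseA [Finite X] (hZ4 : Nat.card (Subgroup.center X) = 4)
    (hZ2 : ∀ z ∈ Subgroup.center X, z ^ 2 = 1)
    (hsq : ∀ x : X, x ^ 2 ∈ Subgroup.center X)
    (hinv : ∀ t : X, t ^ 2 = 1 → t ∈ Subgroup.center X)
    (x : X) (hx : x ∉ Subgroup.center X)
    (hC : 64 ≤ Nat.card (Subgroup.centralizer ({x} : Set X))) : False := by
  classical
  have : Fintype X := Fintype.ofFinite X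
  -- the bad set `Z ∪ xZ`
  obtain ⟨Zs, hZsdef⟩ : ∃ Zs : Finset X, ∀ t, t ∈ Zs ↔ t ∈ Subgroup.center X :=
    ⟨Finset.univ.filter (fun t : X => t ∈ Subgroup.center X), fun t => by simp⟩
  have hZs : Zs.card = 4 := by
    rw [← hZ4, ← card_center_filter]
    congr 1
    ext t
    rw [hZsdef]; simp
  obtain ⟨B, hBdef⟩ : ∃ B : Finset X, ∀ t, t ∈ B ↔
      (t ∈ Subgroup.center X ∨ x⁻¹ * t ∈ Subgroup.center X) :=
    ⟨Finset.univ.filter
      (fun t : X => t ∈ Subgroup.center X ∨ x⁻¹ * t ∈ Subgroup.center X), fun t => by simp⟩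
  have hB : B.card ≤ 8 := by
    have hsub : B ⊆ Zs ∪ Zs.image (fun t => x * t) := by
      intro t ht
      rw [hBdef] at ht
      rcases ht with h | h
      · exact Finset.mem_union_left _ ((hZsdef t).mpr h)
      · refine Finset.mem_union_right _ (Finset.mem_image.mpr ⟨x⁻¹ * t, (hZsdef _).mpr h, ?_⟩)
        simp
    calc B.card ≤ (Zs ∪ Zs.image (fun t => x * t)).card := Finset.card_le_card hsub
      _ ≤ Zs.card + (Zs.image (fun t => x * t)).card := Finset.card_union_le _ _
      _ ≤ Zs.card + Zs.card := Nat.add_le_add_left Finset.card_image_le _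
      _ = 8 := by rw [hZs]
  obtain ⟨Bg, hBgdef⟩ : ∃ Bg : X → Finset X, ∀ g t, t ∈ Bg g ↔ g * t ∈ B :=
    ⟨fun g => Finset.univ.filter (fun t : X => g * t ∈ B), fun g t => by simp⟩
  have hBg : ∀ g, (Bg g).card ≤ 8 := by
    intro g
    refine le_trans (Finset.card_le_card_of_injOn (fun t => g * t) ?_ ?_) hB
    · intro t ht
      exact (hBgdef g t).mp ht
    · intro t _ t' _ h
      exact mul_left_cancel h
  obtain ⟨Cs, hCsdef, hCs⟩ : ∃ Cs : Finset X,
      (∀ t, t ∈ Cs ↔ t ∈ Subgroup.centralizer ({x} : Set X)) ∧ 64 ≤ Cs.card := by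
    refine ⟨Finset.univ.filter (fun t : X => t ∈ Subgroup.centralizer ({x} : Set X)),
      fun t => by simp, ?_⟩
    have : (Finset.univ.filter (fun t : X => t ∈ Subgroup.centralizer ({x} : Set X))).card
        = Nat.card (Subgroup.centralizer ({x} : Set X)) := by
      rw [Nat.card_eq_fintype_card, Fintype.card_subtype]
    rw [this]; exact hC
  -- choose y, w, u
  obtain ⟨y, hyC, hyB⟩ := Finset.exists_mem_notMem_of_card_lt_card
    (s := B) (t := Cs) (by omega)
  obtain ⟨w, hwC, hwB⟩ := Finset.exists_mem_notMem_of_card_lt_card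
    (s := B ∪ Bg y) (t := Cs) (by
      have := Finset.card_union_le B (Bg y)
      have := hBg y
      omega)
  obtain ⟨u, huC, huB⟩ := Finset.exists_mem_notMem_of_card_lt_card
    (s := B ∪ Bg y ∪ Bg w ∪ Bg (y * w)) (t := Cs) (by
      have h1 := Finset.card_union_le (B ∪ Bg y ∪ Bg w) (Bg (y * w))
      have h2 := Finset.card_union_le (B ∪ Bg y) (Bg w)
      have h3 := Finset.card_union_le B (Bg y)
      have := hBg y
      have := hBg w
      have := hBg (y * w)
      omega)
  rw [hCsdef] at hyC hwC huC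
  simp only [Finset.mem_union, hBgdef, not_or] at hwB huB
  have ha1 : x ^ 2 ≠ 1 := fun h => hx (hinv x h)
  have key : ∀ t : X, t ∈ Subgroup.centralizer ({x} : Set X) → t ∉ B →
      t ^ 2 ≠ 1 ∧ t ^ 2 ≠ x ^ 2 := by
    intro t htC htB
    have h1 := Subgroup.mem_centralizer_iff.mp htC x (Set.mem_singleton x)
    rw [hBdef, not_or] at htB
    exact sq_notMem hinv x t h1 htB.1 htB.2
  apply parity_contra hZ4 hZ2 hsq x ha1 y w u
  intro t ht
  rcases ht with rfl | rfl | rfl | rfl | rfl | rfl | rfl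
  · exact key _ hyC hyB
  · exact key _ hwC hwB.1
  · exact key _ huC huB.1.1.1
  · exact key _ (mul_mem hyC hwC) hwB.2
  · exact key _ (mul_mem hyC huC) huB.1.1.2
  · exact key _ (mul_mem hwC huC) huB.1.2
  · exact key _ (mul_mem (mul_mem hyC hwC) huC) huB.2


/-! ### Case B: counting -/

theorem inv_eq_self_of_center (hZ2 : ∀ z ∈ Subgroup.center X, z ^ 2 = 1) (z : X)
    (hz : z ∈ Subgroup.center X) : z⁻¹ = z := by
  have h := hZ2 z hz
  rw [pow_two] at h
  exact inv_eq_of_mul_eq_one_left h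

/-- the centre is `{1, a, z, a z}` -/
theorem center_four [Finite X] (hZ4 : Nat.card (Subgroup.center X) = 4)
    (hZ2 : ∀ z ∈ Subgroup.center X, z ^ 2 = 1)
    (a z : X) (ha : a ∈ Subgroup.center X) (hz : z ∈ Subgroup.center X)
    (ha1 : a ≠ 1) (hz1 : z ≠ 1) (hza : z ≠ a) :
    ∀ s ∈ Subgroup.center X, s = 1 ∨ s = a ∨ s = z ∨ s = a * z := by
  intro s hs
  have ha2 : (⟨a, ha⟩ : Subgroup.center X) * ⟨a, ha⟩ = 1 := by
    apply Subtype.ext
    show a * a = 1
    rw [← pow_two]; exact hZ2 a ha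
  have ha1' : (⟨a, ha⟩ : Subgroup.center X) ≠ 1 := fun h => ha1 (congrArg Subtype.val h)
  have hS2 := index_twoSub (⟨a, ha⟩ : Subgroup.center X) ha2 ha1' hZ4
  have hzS : (⟨z, hz⟩ : Subgroup.center X) ∉ twoSub (⟨a, ha⟩ : Subgroup.center X) ha2 := by
    intro h
    rw [mem_twoSub] at h
    rcases h with h | h
    · exact hz1 (congrArg Subtype.val h)
    · exact hza (congrArg Subtype.val h)
  by_cases hsS : (⟨s, hs⟩ : Subgroup.center X) ∈ twoSub (⟨a, ha⟩ : Subgroup.center X) ha2
  · rw [mem_twoSub] at hsS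
    rcases hsS with h | h
    · left; exact congrArg Subtype.val h
    · right; left; exact congrArg Subtype.val h
  · have h := (Subgroup.mul_mem_iff_of_index_two hS2).mpr
      ⟨fun h => absurd h hsS, fun h => absurd h hzS⟩
    rw [mem_twoSub] at h
    have hzi := inv_eq_self_of_center hZ2 z hz
    rcases h with h | h
    · have h' : s * z = 1 := congrArg Subtype.val h
      right; right; left
      rw [← hzi]
      exact eq_inv_of_mul_eq_one_left h'
    · have h' : s * z = a := congrArg Subtype.val h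
      right; right; right
      rw [← h', mul_assoc, ← pow_two, hZ2 z hz, mul_one]

/-- fibrewise decomposition of a finite set by the value of the square -/
theorem card_fib [Finite X] [DecidableEq X] (hZ4 : Nat.card (Subgroup.center X) = 4)
    (hZ2 : ∀ z ∈ Subgroup.center X, z ^ 2 = 1)
    (hsq : ∀ x : X, x ^ 2 ∈ Subgroup.center X)
    (a z : X) (ha : a ∈ Subgroup.center X) (hz : z ∈ Subgroup.center X)
    (ha1 : a ≠ 1) (hz1 : z ≠ 1) (hza : z ≠ a) (s : Finset X) :
    s.card = (s.filter (fun t => t ^ 2 = 1)).card + (s.filter (fun t => t ^ 2 = a)).card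
      + (s.filter (fun t => t ^ 2 = z)).card + (s.filter (fun t => t ^ 2 = a * z)).card := by
  have hall := center_four hZ4 hZ2 a z ha hz ha1 hz1 hza
  have hai := inv_eq_self_of_center hZ2 a ha
  have h1 : (1 : X) ∉ ({a, z, a * z} : Finset X) := by
    simp only [Finset.mem_insert, Finset.mem_singleton, not_or]
    refine ⟨fun h => ha1 h.symm, fun h => hz1 h.symm, fun h => ?_⟩
    apply hza
    rw [← hai]
    exact (eq_inv_of_mul_eq_one_right h.symm)
  have h2 : a ∉ ({z, a * z} : Finset X) := by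
    simp only [Finset.mem_insert, Finset.mem_singleton, not_or]
    refine ⟨fun h => hza h.symm, fun h => ?_⟩
    apply hz1
    have : a * 1 = a * z := by rw [mul_one]; exact h
    exact (mul_left_cancel this).symm
  have h3 : z ∉ ({a * z} : Finset X) := by
    simp only [Finset.mem_singleton]
    intro h
    apply ha1
    have : 1 * z = a * z := by rw [one_mul]; exact h
    exact (mul_right_cancel this).symm
  have H : (s : Set X).MapsTo (fun t => t ^ 2) (({1, a, z, a * z} : Finset X) : Set X) := by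
    intro t _
    have := hall (t ^ 2) (hsq t)
    simp only [Finset.coe_insert, Finset.coe_singleton, Set.mem_insert_iff,
      Set.mem_singleton_iff]
    exact this
  rw [Finset.card_eq_sum_card_fiberwise H, Finset.sum_insert h1, Finset.sum_insert h2,
    Finset.sum_insert h3, Finset.sum_singleton]
  ring

/-- the number of elements of `C(x)` with a given square `z ∉ {1, x²}` -/
theorem kappa [Fintype X] [DecidableEq X] (hZ4 : Nat.card (Subgroup.center X) = 4)
    (hZ2 : ∀ z ∈ Subgroup.center X, z ^ 2 = 1)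
    (hsq : ∀ x : X, x ^ 2 ∈ Subgroup.center X)
    (hinv : ∀ t : X, t ^ 2 = 1 → t ∈ Subgroup.center X)
    (x : X) (hx : x ∉ Subgroup.center X)
    (hCx : Nat.card (Subgroup.centralizer ({x} : Set X)) = 32)
    (z : X) (hz : z ∈ Subgroup.center X) (hz1 : z ≠ 1) (hza : z ≠ x ^ 2) :
    ((Finset.univ.filter (fun t : X => t ^ 2 = z)).filter (fun t => x * t = t * x)).card
      = 12 := by
  classical
  have ha1 : x ^ 2 ≠ 1 := fun h => hx (hinv x h)
  obtain ⟨Cs, hCsdef, hCs⟩ : ∃ Cs : Finset X, (∀ t, t ∈ Cs ↔ x * t = t * x) ∧ Cs.card = 32 := by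
    refine ⟨Finset.univ.filter (fun t : X => t ∈ Subgroup.centralizer ({x} : Set X)),
      fun t => ?_, ?_⟩
    · rw [Finset.mem_filter, Subgroup.mem_centralizer_iff]
      constructor
      · intro h; exact h.2 x (Set.mem_singleton x)
      · intro h
        refine ⟨Finset.mem_univ _, fun k hk => ?_⟩
        rw [Set.mem_singleton_iff] at hk
        rw [hk]; exact h
    · rw [← hCx, Nat.card_eq_fintype_card, Fintype.card_subtype]
  have hfib := card_fib hZ4 hZ2 hsq (x ^ 2) z (hsq x) hz ha1 hz1 hza Cs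
  -- shift by `x`
  have shift : ∀ v : X, (Cs.filter (fun t => t ^ 2 = v)).card
      = (Cs.filter (fun t => t ^ 2 = x ^ 2 * v)).card := by
    intro v
    apply Finset.card_nbij' (fun t => x * t) (fun t => x⁻¹ * t)
    · intro t ht
      rw [Finset.mem_coe, Finset.mem_filter, hCsdef] at ht ⊢
      refine ⟨by rw [mul_assoc, ← ht.1], ?_⟩
      have hc : Commute x t := ht.1
      rw [hc.mul_pow, ht.2]
    · intro t ht
      rw [Finset.mem_coe, Finset.mem_filter, hCsdef] at ht ⊢
      have hc : Commute x t := ht.1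
      refine ⟨?_, ?_⟩
      · have : x * (x⁻¹ * t) = t := by group
        rw [this]
        have h2 : x⁻¹ * t * x = x⁻¹ * (t * x) := by group
        rw [h2, ← ht.1]
        group
      · rw [hc.inv_left.mul_pow, ht.2, inv_pow, inv_mul_cancel_left]
    · intro t _
      show x⁻¹ * (x * t) = t
      group
    · intro t _
      show x * (x⁻¹ * t) = t
      group
  have s1 := shift 1
  rw [mul_one] at s1
  have s2 := shift z
  -- the fibre over `1` is the centre
  have hN1 : (Cs.filter (fun t => t ^ 2 = 1)).card = 4 := by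
    rw [← hZ4, ← card_center_filter]
    congr 1
    ext t
    rw [Finset.mem_filter, Finset.mem_filter, hCsdef]
    constructor
    · intro h; exact ⟨Finset.mem_univ _, hinv t h.2⟩
    · intro h
      exact ⟨(Subgroup.mem_center_iff.mp h.2 x), hZ2 t h.2⟩
  have e : (Finset.univ.filter (fun t : X => t ^ 2 = z)).filter (fun t => x * t = t * x)
      = Cs.filter (fun t => t ^ 2 = z) := by
    ext t
    simp only [Finset.mem_filter, Finset.mem_univ, true_and, hCsdef]
    tauto
  rw [e]
  omega

/-- double counting: the numbers of elements with square `a`, `b` agree -/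
theorem card_sq_eq [Fintype X] [DecidableEq X] (hZ4 : Nat.card (Subgroup.center X) = 4)
    (hZ2 : ∀ z ∈ Subgroup.center X, z ^ 2 = 1)
    (hsq : ∀ x : X, x ^ 2 ∈ Subgroup.center X)
    (hinv : ∀ t : X, t ^ 2 = 1 → t ∈ Subgroup.center X)
    (hC : ∀ x : X, x ∉ Subgroup.center X →
      Nat.card (Subgroup.centralizer ({x} : Set X)) = 32)
    (a b : X) (ha : a ∈ Subgroup.center X) (hb : b ∈ Subgroup.center X)
    (ha1 : a ≠ 1) (hb1 : b ≠ 1) (hab : a ≠ b) :
    (Finset.univ.filter (fun t : X => t ^ 2 = a)).card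
      = (Finset.univ.filter (fun t : X => t ^ 2 = b)).card := by
  have hnot : ∀ v : X, v ≠ 1 → ∀ x : X, x ^ 2 = v → x ∉ Subgroup.center X := by
    intro v hv x hxv hx
    exact hv (hxv ▸ hZ2 x hx)
  have k1 : ∀ x ∈ Finset.univ.filter (fun t : X => t ^ 2 = a),
      ((Finset.univ.filter (fun t : X => t ^ 2 = b)).filter (fun t => x * t = t * x)).card
        = 12 := by
    intro x hx
    have hxa : x ^ 2 = a := (Finset.mem_filter.mp hx).2
    have hxZ := hnot a ha1 x hxa
    exact kappa hZ4 hZ2 hsq hinv x hxZ (hC x hxZ) b hb hb1 (by rw [hxa]; exact Ne.symm hab)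
  have k2 : ∀ t ∈ Finset.univ.filter (fun t : X => t ^ 2 = b),
      ((Finset.univ.filter (fun x : X => x ^ 2 = a)).filter (fun x => t * x = x * t)).card
        = 12 := by
    intro t ht
    have htb : t ^ 2 = b := (Finset.mem_filter.mp ht).2
    have htZ := hnot b hb1 t htb
    exact kappa hZ4 hZ2 hsq hinv t htZ (hC t htZ) a ha ha1 (by rw [htb]; exact hab)
  have d1 : ∑ x ∈ Finset.univ.filter (fun t : X => t ^ 2 = a),
      ((Finset.univ.filter (fun t : X => t ^ 2 = b)).filter (fun t => x * t = t * x)).card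
      = (Finset.univ.filter (fun t : X => t ^ 2 = a)).card * 12 := by
    rw [Finset.sum_congr rfl k1, Finset.sum_const, smul_eq_mul]
  have d2 : ∑ t ∈ Finset.univ.filter (fun t : X => t ^ 2 = b),
      ((Finset.univ.filter (fun x : X => x ^ 2 = a)).filter (fun x => t * x = x * t)).card
      = (Finset.univ.filter (fun t : X => t ^ 2 = b)).card * 12 := by
    rw [Finset.sum_congr rfl k2, Finset.sum_const, smul_eq_mul]
  have d3 : ∑ x ∈ Finset.univ.filter (fun t : X => t ^ 2 = a),
      ((Finset.univ.filter (fun t : X => t ^ 2 = b)).filter (fun t => x * t = t * x)).card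
      = ∑ t ∈ Finset.univ.filter (fun t : X => t ^ 2 = b),
      ((Finset.univ.filter (fun x : X => x ^ 2 = a)).filter (fun x => t * x = x * t)).card := by
    simp only [Finset.card_filter]
    rw [Finset.sum_comm]
    refine Finset.sum_congr rfl (fun t _ => Finset.sum_congr rfl (fun x _ => ?_))
    by_cases h : x * t = t * x
    · rw [if_pos h, if_pos h.symm]
    · rw [if_neg h, if_neg (fun h' => h h'.symm)]
  omega

theorem caseB [Finite X] (hZ4 : Nat.card (Subgroup.center X) = 4)
    (hZ2 : ∀ z ∈ Subgroup.center X, z ^ 2 = 1)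
    (hsq : ∀ x : X, x ^ 2 ∈ Subgroup.center X)
    (hinv : ∀ t : X, t ^ 2 = 1 → t ∈ Subgroup.center X)
    (hX : Nat.card X = 128)
    (hC : ∀ x : X, x ∉ Subgroup.center X →
      Nat.card (Subgroup.centralizer ({x} : Set X)) = 32) : False := by
  classical
  have : Fintype X := Fintype.ofFinite X
  -- two elements `a ≠ b` of `Z ∖ 1`
  have hZs : (Finset.univ.filter (fun t : X => t ∈ Subgroup.center X)).card = 4 := by
    rw [← hZ4]; exact card_center_filter
  obtain ⟨a, haZ, ha1⟩ := Finset.exists_mem_notMem_of_card_lt_card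
    (s := ({1} : Finset X)) (t := Finset.univ.filter (fun t : X => t ∈ Subgroup.center X))
    (by rw [hZs, Finset.card_singleton]; norm_num)
  obtain ⟨b, hbZ, hb1⟩ := Finset.exists_mem_notMem_of_card_lt_card
    (s := ({1, a} : Finset X)) (t := Finset.univ.filter (fun t : X => t ∈ Subgroup.center X))
    (by
      rw [hZs]
      have := Finset.card_insert_le (1 : X) ({a} : Finset X)
      rw [Finset.card_singleton] at this
      omega)
  have ha : a ∈ Subgroup.center X := (Finset.mem_filter.mp haZ).2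
  have hb : b ∈ Subgroup.center X := (Finset.mem_filter.mp hbZ).2
  rw [Finset.mem_singleton] at ha1
  simp only [Finset.mem_insert, Finset.mem_singleton, not_or] at hb1
  obtain ⟨hb1, hba⟩ := hb1
  have hab : a * b ∈ Subgroup.center X := mul_mem ha hb
  have hai := inv_eq_self_of_center hZ2 a ha
  have hab1 : a * b ≠ 1 := by
    intro h
    apply hba
    rw [← hai]
    exact eq_inv_of_mul_eq_one_right h
  have haab : a ≠ a * b := by
    intro h
    apply hb1
    have : a * 1 = a * b := by rw [mul_one]; exact h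
    exact (mul_left_cancel this).symm
  have e1 := card_sq_eq hZ4 hZ2 hsq hinv hC a b ha hb ha1 hb1 (Ne.symm hba)
  have e2 := card_sq_eq hZ4 hZ2 hsq hinv hC a (a * b) ha hab ha1 hab1 haab
  have hfib := card_fib hZ4 hZ2 hsq a b ha hb ha1 hb1 hba (Finset.univ : Finset X)
  have hU : (Finset.univ : Finset X).card = 128 := by
    rw [Finset.card_univ, ← Nat.card_eq_fintype_card]; exact hX
  have hN1 : (Finset.univ.filter (fun t : X => t ^ 2 = 1)).card = 4 := by
    rw [← hZs]
    congr 1
    ext t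
    rw [Finset.mem_filter, Finset.mem_filter]
    constructor
    · intro h; exact ⟨Finset.mem_univ _, hinv t h.2⟩
    · intro h; exact ⟨Finset.mem_univ _, hZ2 t h.2⟩
  omega

/-- TG-CW5. -/
theorem cw5 : StCW5.{u} := by
  intro X _ _ hZ4 hZ2 hsq hcard
  by_contra hcon
  have hinv : ∀ t : X, t ^ 2 = 1 → t ∈ Subgroup.center X := fun t ht => by
    by_contra h; exact hcon ⟨t, h, ht⟩
  by_cases hA' : ∃ x : X, x ∉ Subgroup.center X ∧
      64 ≤ Nat.card (Subgroup.centralizer ({x} : Set X))
  · obtain ⟨x, hx, hC⟩ := hA'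
    exact caseA hZ4 hZ2 hsq hinv x hx hC
  · have hA : ∀ x : X, x ∉ Subgroup.center X →
        Nat.card (Subgroup.centralizer ({x} : Set X)) < 64 := fun x hx => by
      by_contra h; exact hA' ⟨x, hx, by omega⟩
    have hp : IsPGroup 2 X := fun g => ⟨2, by
      have : g ^ 2 ^ 2 = (g ^ 2) ^ 2 := by rw [← pow_mul]; norm_num
      rw [this]; exact hZ2 _ (hsq g)⟩
    have : Fact (Nat.Prime 2) := ⟨Nat.prime_two⟩
    obtain ⟨n, hn⟩ := IsPGroup.iff_card.mp hp
    have hex : ∃ x : X, x ∉ Subgroup.center X := by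
      by_contra h
      have h1 : Subgroup.center X = ⊤ := (Subgroup.eq_top_iff' _).mpr (fun g => by
        by_contra hg; exact h ⟨g, hg⟩)
      have h2 : Nat.card (Subgroup.center X) = Nat.card X := by
        rw [h1]; exact Subgroup.card_top
      omega
    obtain ⟨x₀, hx₀⟩ := hex
    have hidx : ∀ x : X, (Subgroup.centralizer ({x} : Set X)).index ≤ 4 := fun x =>
      hZ4 ▸ index_centralizer_le hsq x
    have hmul : ∀ x : X, Nat.card (Subgroup.centralizer ({x} : Set X))
        * (Subgroup.centralizer ({x} : Set X)).index = Nat.card X :=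
      fun x => Subgroup.card_mul_index _
    have hX : Nat.card X = 128 := by
      have h1 := hA x₀ hx₀
      have h2 := hidx x₀
      have h3 := hmul x₀
      have h4 : Nat.card X < 256 := by nlinarith
      rw [hn] at h4 hcard
      have h5 : n < 8 := (Nat.pow_lt_pow_iff_right (by norm_num : 1 < 2)).mp (by simpa using h4)
      have h6 : 7 ≤ n :=
        (Nat.pow_le_pow_iff_right (by norm_num : 1 < 2)).mp (by simpa using hcard)
      have h7 : n = 7 := by omega
      rw [hn, h7]; norm_num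
    have hC32 : ∀ x : X, x ∉ Subgroup.center X →
        Nat.card (Subgroup.centralizer ({x} : Set X)) = 32 := by
      intro x hx
      have h1 := hA x hx
      have h2 := hidx x
      have h3 := hmul x
      rw [hX] at h3
      generalize (Subgroup.centralizer ({x} : Set X)).index = i at h2 h3
      generalize Nat.card (Subgroup.centralizer ({x} : Set X)) = c at h1 h3 ⊢
      interval_cases i <;> omega
    exact caseB hZ4 hZ2 hsq hinv hX hC32

example : Cfsg.Agent.H17.Tg.StCW5.{u} := cw5

end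

end Cfsg.Agent.H49.Tg

#print axioms Cfsg.Agent.H49.Tg.cw5
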